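import Cfsg.Agent.Lib.Helper3.Suz.L1D
import Cfsg.Agent.Lib.Helper3.Suz.Net

set_option autoImplicit false
set_option maxRecDepth 100000

namespace Cfsg.Agent.Lib.Helper3.Suz.L1

open Cfsg.Agent.Lib.Helper11 Cfsg.Agent.Lib.Helper3

set_option maxHeartbeats 0

noncomputable def fc (i : ℕ) : ℕ := (Bool.rec (fc0_0 i) (fc0_1 i) (Nat.ble 16 i))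
noncomputable def sc (i : ℕ) : ℕ := (Bool.rec (sc0_0 i) (sc0_1 i) (Nat.ble 16 i))
noncomputable def nc (i : ℕ) : ℕ := (nc0_0 i)
noncomputable def cc (i : ℕ) : ℕ := (Bool.rec (Bool.rec (cc0_0 i) (cc0_1 i) (Nat.ble 16 i)) (Bool.rec (cc0_2 i) (cc0_3 i) (Nat.ble 48 i)) (Nat.ble 32 i))

def isH (l : ℕ) : Bool := decide (l ∈ [4, 5])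
def gens : List ℕ := [1, 2]
def hl : List ℕ := [4, 5]
def dl : List (List ℕ × ℕ) := [([2], 3), ([1], 4), ([2, 1, 3, 1, 3, 1, 2, 1, 2, 1, 2, 1, 3, 1, 3, 1, 2], 6), ([6], 5), ([4, 5, 5, 5, 4, 6, 4, 5, 5], 8), ([8], 7), ([6, 4, 5, 4, 6, 6, 4, 5, 5, 4, 6, 4, 5], 9), ([7, 9, 8], 10), ([9, 7, 9, 7, 9, 7, 9, 7, 9, 7, 9, 7, 9, 8, 9, 7, 9, 7, 9, 7, 9, 8, 9], 12), ([12], 11)]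
def BR : List (List ℕ) := [[], [1, 4], [2, 1, 3, 1, 3, 1, 2, 1, 2, 1, 2, 1, 3, 1, 3, 1, 2, 6], [4, 5, 5, 5, 4, 6, 4, 5, 5, 8], [6, 4, 5, 4, 6, 6, 4, 5, 5, 4, 6, 4, 5, 9], [7, 9, 8, 10], [9, 7, 9, 7, 9, 7, 9, 7, 9, 7, 9, 7, 9, 8, 9, 7, 9, 7, 9, 7, 9, 8, 9, 12], [2, 2, 2], [3, 3, 3], [1, 2, 1, 2, 1, 2, 1, 2, 1, 2, 1, 2, 1, 2, 1, 2, 1, 2, 1, 2, 1, 2], [1, 3, 1, 3, 1, 3, 1, 3, 1, 3, 1, 3, 1, 3, 1, 3, 1, 3, 1, 3, 1, 3], [1, 2, 2, 1, 2, 2, 1, 2, 2, 1, 2, 2, 1, 2, 2, 1, 2, 2, 1, 2, 2, 1, 2, 2, 1, 2, 2, 1, 2, 2, 1, 2, 2], [1, 3, 3, 1, 3, 3, 1, 3, 3, 1, 3, 3, 1, 3, 3, 1, 3, 3, 1, 3, 3, 1, 3, 3, 1, 3, 3, 1, 3, 3, 1, 3, 3], [3, 3, 3], [1, 2, 2, 2, 1, 2,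 2, 2], [1, 3, 3, 3, 1, 3, 3, 3], [3, 1, 3, 1, 2, 1, 3, 1, 2, 1, 3, 1, 2, 1, 3, 1, 2, 1, 2, 12, 10, 11, 10, 8, 9, 7, 9, 7, 9, 7, 9, 8, 9, 7, 9, 8, 9, 8, 9, 8, 9, 5, 4, 6, 4, 5, 5, 4, 6, 4], [2, 1, 2, 1, 3, 1, 2, 1, 2, 1, 2, 1, 2, 1, 3, 1, 3, 1, 3, 1, 2, 1, 2, 10, 11, 10, 9, 8, 9, 8, 9, 7, 9, 8, 9, 7, 9, 7, 9, 8, 9, 5, 4, 5, 4, 6, 6, 4, 6], [2, 1, 2, 1, 2, 1, 3, 1, 2, 1, 2, 1, 3, 1, 3, 1, 2, 1, 3, 1, 3, 1, 3, 12, 10, 11, 11, 11, 10, 8, 9, 8, 9, 7, 9, 7, 9, 7, 9, 7, 9, 8, 9, 7, 9, 7, 9, 5, 5, 5, 5, 5, 5, 4], [2, 1, 3, 1, 3, 1, 3, 1, 2, 1, 2, 1, 2, 1, 3, 1, 3, 1, 3, 1, 2, 1, 2, 1, 2, 1, 3, 10, 11, 11, 11, 10, 9, 8, 9, 8, 9, 8, 9, 7, 9, 8, 9, 7,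 9, 8, 9, 8, 6, 6, 4, 6, 4, 5, 5, 4, 5], [3, 1, 2, 1, 3, 1, 3, 1, 3, 1, 2, 1, 3, 1, 2, 1, 3, 1, 2, 1, 3, 1, 3, 1, 2, 1, 3, 1, 2, 10, 11, 11, 11, 10, 12, 12, 10, 9, 7, 9, 8, 9, 7, 9, 8, 9, 6, 6, 4, 5, 5, 5, 4, 6], [2, 1, 2, 1, 3, 1, 3, 1, 2, 1, 3, 1, 3, 1, 2, 1, 3, 1, 2, 1, 2, 1, 3, 1, 2, 1, 2, 1, 2, 12, 12, 10, 11, 11, 10, 8, 9, 7, 9, 7, 9, 7, 9, 8, 9, 7, 9, 7, 9, 7, 4, 5, 4, 6, 4, 6, 6, 4, 5, 5], [2, 1, 3, 1, 3, 1, 3, 1, 3, 1, 2, 1, 2, 1, 2, 1, 3, 1, 2, 1, 2, 1, 3, 1, 3, 1, 3, 1, 3, 10, 11, 11, 11, 11, 8, 9, 8, 9, 7, 9, 7, 9, 7, 9, 7, 9, 7, 9, 8, 9, 8, 6, 4, 6, 6, 4, 6, 6, 4], [2, 1, 3, 1, 3, 1, 2, 1, 3, 1, 2, 1, 3, 1, 2, 1, 3, 1, 2, 1, 3, 1,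 2, 1, 2, 1, 2, 1, 2, 11, 10, 12, 10, 11, 10, 9, 8, 9, 7, 9, 7, 9, 8, 9, 7, 9, 7, 4, 5, 4, 5, 4, 5, 4, 5, 5, 4, 6], [2, 1, 2, 1, 3, 1, 3, 1, 2, 1, 3, 1, 2, 1, 2, 1, 3, 1, 3, 1, 2, 1, 2, 1, 3, 1, 2, 1, 2, 10, 12, 12, 12, 8, 9, 8, 9, 7, 9, 7, 5, 5, 4, 5, 5, 4, 6, 4, 5, 5, 5], [2, 1, 3, 1, 3, 1, 3, 1, 2, 1, 3, 1, 3, 1, 2, 1, 3, 1, 2, 1, 2, 1, 3, 1, 2, 1, 2, 1, 2, 1, 3, 10, 12, 12, 12, 12, 12, 12, 12, 9, 7, 9, 8, 9, 7, 9, 8, 9, 7, 9, 8, 9, 7, 9, 8, 9, 7, 6, 6, 4, 6, 4, 5, 5, 5, 5, 4, 5], [2, 1, 2, 1, 3, 1, 2, 1, 3, 1, 2, 1, 2, 1, 2, 1, 2, 1, 3, 1, 3, 1, 2, 1, 3, 1, 3, 1, 3, 1, 3, 12, 10, 11, 10, 12, 10, 11, 11, 8, 9, 7, 9, 8, 9, 8, 9, 7, 9, 8, 9,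 8, 9, 7, 9, 7, 4, 6, 4, 5, 4], [2, 1, 2, 1, 2, 1, 3, 1, 3, 1, 2, 1, 3, 1, 3, 1, 2, 1, 2, 1, 3, 1, 2, 1, 2, 1, 3, 1, 3, 1, 3, 11, 10, 12, 12, 12, 12, 9, 8, 9, 7, 9, 7, 9, 8, 9, 7, 9, 7, 9, 7, 9, 8, 9, 7, 5, 4, 6, 4, 6, 6, 6, 6, 6], [2, 1, 2, 1, 3, 1, 2, 1, 2, 1, 3, 1, 2, 1, 2, 1, 3, 1, 3, 1, 2, 1, 3, 1, 3, 1, 2, 1, 3, 1, 3, 10, 11, 10, 12, 12, 10, 11, 11, 8, 9, 7, 9, 8, 9, 7, 9, 7, 9, 7, 9, 5, 4, 6], [2, 1, 2, 1, 2, 1, 3, 1, 2, 1, 3, 1, 2, 1, 3, 1, 3, 1, 2, 1, 2, 1, 2, 1, 3, 1, 3, 1, 2, 1, 2, 10, 12, 12, 10, 11, 10, 12, 8, 9, 8, 9, 7, 9, 8, 9, 7, 6, 4, 5, 4, 6, 4, 5, 4], [3, 1, 2, 1, 2, 1, 2, 1, 3, 1, 3, 1, 3, 1, 2, 1, 3, 1, 2, 1, 2, 1, 2, 1,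 3, 1, 2, 1, 2, 1, 3, 11, 11, 11, 10, 12, 12, 10, 11, 9, 8, 9, 8, 9, 7, 9, 7, 9, 8, 9, 7, 9, 4, 6, 4, 5, 5, 4], [3, 1, 2, 1, 3, 1, 3, 1, 2, 1, 2, 1, 3, 1, 2, 1, 3, 1, 2, 1, 3, 1, 3, 1, 2, 1, 2, 1, 3, 1, 2, 12, 10, 11, 11, 11, 8, 9, 7, 9, 7, 9, 7, 9, 7, 9, 4, 5, 4, 6, 6, 4, 6, 4, 6, 6], [2, 1, 3, 1, 2, 1, 2, 1, 2, 1, 3, 1, 3, 1, 2, 1, 3, 1, 2, 1, 2, 1, 3, 1, 3, 1, 3, 1, 2, 1, 3, 10, 11, 11, 9, 7, 9, 8, 6, 4, 6, 4, 5, 4, 6, 6], [2, 1, 2, 1, 2, 1, 2, 1, 2, 1, 3, 1, 2, 1, 2, 1, 3, 1, 3, 1, 2, 1, 3, 1, 3, 1, 3, 1, 3, 1, 3, 10, 11, 10, 12, 8, 9, 7, 9, 8, 9, 8, 9, 7, 9, 7, 9, 8, 9, 8, 9, 8, 6, 4, 6, 4, 6, 4, 5, 5, 5, 4], [2, 1, 3, 1, 2, 1, 2, 1, 3,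 1, 3, 1, 2, 1, 2, 1, 2, 1, 2, 1, 3, 1, 2, 1, 3, 1, 3, 1, 2, 1, 3, 1, 3, 10, 12, 10, 9, 7, 9, 7, 9, 8, 9, 5, 5, 5, 4, 6, 6, 4, 6, 6, 6, 6], [2, 1, 2, 1, 3, 1, 2, 1, 2, 1, 3, 1, 3, 1, 3, 1, 2, 1, 3, 1, 3, 1, 2, 1, 3, 1, 3, 1, 3, 1, 2, 1, 3, 12, 12, 10, 11, 10, 12, 12, 9, 8, 9, 7, 9, 8, 9, 8, 9, 5, 5, 4, 6, 6, 4, 6, 6], [2, 1, 3, 1, 2, 1, 2, 1, 3, 1, 3, 1, 3, 1, 3, 1, 2, 1, 3, 1, 3, 1, 2, 1, 3, 1, 2, 1, 2, 1, 2, 1, 3, 11, 10, 12, 9, 8, 9, 7, 9, 8, 4, 5, 4, 5, 4, 6, 6, 6], [3, 1, 3, 1, 2, 1, 2, 1, 2, 1, 2, 1, 3, 1, 2, 1, 2, 1, 2, 1, 3, 1, 3, 1, 3, 1, 2, 1, 3, 1, 2, 1, 3, 10, 12, 10, 11, 10, 12, 8, 9, 7, 9, 8, 9, 8, 9, 8, 9, 7, 9, 4, 6, 4, 5, 4,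 6, 6, 6, 4, 5, 5], [2, 1, 3, 1, 2, 1, 3, 1, 2, 1, 2, 1, 3, 1, 3, 1, 2, 1, 2, 1, 2, 1, 3, 1, 2, 1, 2, 1, 2, 1, 3, 1, 3, 10, 11, 10, 12, 12, 12, 10, 11, 9, 8, 9, 8, 9, 7, 9, 7, 5, 5, 4, 5, 5, 4, 6, 6, 4, 6, 6], [3, 1, 2, 1, 3, 1, 2, 1, 2, 1, 3, 1, 3, 1, 2, 1, 2, 1, 2, 1, 3, 1, 2, 1, 2, 1, 2, 1, 3, 1, 2, 1, 2, 10, 11, 11, 10, 12, 10, 11, 9, 7, 9, 8, 9, 7, 9, 8, 9, 7, 9, 7, 9, 7, 9, 8, 4, 5, 4, 5, 5, 5, 4, 5, 5, 5], [3, 1, 2, 1, 3, 1, 3, 1, 2, 1, 2, 1, 2, 1, 3, 1, 2, 1, 2, 1, 3, 1, 2, 1, 2, 1, 3, 1, 3, 1, 3, 1, 2, 10, 12, 10, 11, 11, 11, 10, 9, 8, 9, 8, 9, 8, 9, 7, 9, 7, 9, 7, 9, 7, 9, 8, 4, 5, 4, 5, 4, 6, 4, 6], [3, 1, 2, 1, 3, 1, 2, 1, 3, 1, 3,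 1, 3, 1, 2, 1, 2, 1, 3, 1, 3, 1, 2, 1, 2, 1, 2, 1, 2, 1, 3, 1, 3, 12, 12, 12, 12, 12, 12, 8, 9, 7, 9, 7, 9, 7, 9, 8, 9, 7, 9, 8, 9, 7, 9, 8, 9, 5, 5, 5, 4, 5, 5, 5, 4, 6, 6], [3, 1, 2, 1, 2, 1, 2, 1, 2, 1, 3, 1, 3, 1, 3, 1, 2, 1, 2, 1, 3, 1, 3, 1, 2, 1, 2, 1, 3, 1, 3, 1, 3, 1, 3, 10, 8, 9, 8, 9, 7, 9, 7, 9, 7, 9, 4, 5, 4, 5, 5, 5, 4, 6, 4], [2, 1, 2, 1, 2, 1, 2, 1, 2, 1, 3, 1, 3, 1, 3, 1, 3, 1, 2, 1, 3, 1, 3, 1, 2, 1, 2, 1, 3, 1, 2, 1, 3, 1, 3, 11, 11, 11, 10, 12, 9, 7, 9, 7, 9, 7, 9, 8, 9, 7, 9, 8, 9, 7, 9, 8, 9, 7, 6, 4, 6, 6], [2, 1, 2, 1, 3, 1, 3, 1, 2, 1, 2, 1, 3, 1, 2, 1, 2, 1, 2, 1, 3, 1, 3, 1, 2, 1, 2, 1, 2, 1, 3, 1, 2, 1, 2, 10, 11,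 11, 11, 8, 9, 7, 9, 8, 9, 7, 9, 8, 9, 8, 9, 7, 9, 8, 9, 7, 9, 7, 4, 5, 4, 5, 4, 5, 5, 4, 5, 5], [3, 1, 2, 1, 3, 1, 3, 1, 2, 1, 3, 1, 3, 1, 3, 1, 2, 1, 2, 1, 2, 1, 2, 1, 3, 1, 3, 1, 2, 1, 2, 1, 2, 1, 3, 11, 11, 10, 12, 10, 11, 10, 12, 12, 8, 9, 7, 9, 8, 9, 7, 9, 8, 9, 8, 9, 7, 9, 8, 4, 6, 6, 6, 6, 4, 5, 4], [2, 1, 3, 1, 3, 1, 2, 1, 3, 1, 3, 1, 2, 1, 2, 1, 3, 1, 3, 1, 3, 1, 2, 1, 2, 1, 2, 1, 3, 1, 2, 1, 3, 1, 3, 11, 11, 10, 12, 10, 11, 9, 8, 9, 7, 9, 7, 9, 7, 9, 8, 9, 8, 6, 4, 5, 5, 5, 5, 5, 5], [2, 1, 3, 1, 2, 1, 2, 1, 2, 1, 2, 1, 3, 1, 2, 1, 3, 1, 3, 1, 3, 1, 3, 1, 2, 1, 2, 1, 3, 1, 3, 1, 3, 1, 3, 10, 12, 12, 10, 11, 10, 12, 9, 7, 9, 7, 9, 8,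 9, 8, 9, 7, 9, 7, 9, 8, 9, 8, 9, 7, 9, 8, 4, 5, 4, 5, 5, 4, 6, 4], [3, 1, 3, 1, 3, 1, 2, 1, 2, 1, 2, 1, 3, 1, 3, 1, 2, 1, 2, 1, 3, 1, 3, 1, 2, 1, 2, 1, 3, 1, 2, 1, 3, 1, 2, 12, 12, 10, 11, 11, 10, 9, 7, 9, 8, 9, 7, 9, 8, 9, 8, 9, 8, 9, 7, 9, 6, 4, 6, 4, 5, 5], [3, 1, 2, 1, 2, 1, 2, 1, 3, 1, 3, 1, 2, 1, 2, 1, 3, 1, 2, 1, 3, 1, 2, 1, 2, 1, 2, 1, 3, 1, 2, 1, 2, 1, 2, 11, 10, 12, 10, 11, 10, 8, 9, 8, 9, 7, 9, 8, 9, 7, 9, 7, 9, 8, 9, 4, 5, 4, 6, 6, 6, 6, 4, 6], [3, 1, 2, 1, 3, 1, 2, 1, 3, 1, 2, 1, 3, 1, 2, 1, 2, 1, 3, 1, 2, 1, 3, 1, 3, 1, 2, 1, 2, 1, 2, 1, 3, 1, 3, 11, 10, 12, 12, 12, 9, 7, 9, 7, 9, 8, 9, 8, 9, 7, 9, 8, 9, 7, 4, 5, 4, 6, 6, 4, 5,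 5, 5, 5], [2, 1, 3, 1, 2, 1, 3, 1, 3, 1, 2, 1, 2, 1, 3, 1, 2, 1, 2, 1, 3, 1, 2, 1, 2, 1, 2, 1, 3, 1, 3, 1, 3, 1, 3, 10, 12, 10, 11, 11, 11, 10, 12, 9, 8, 9, 8, 9, 7, 9, 7, 9, 8, 9, 7, 9, 8, 9, 4, 6, 4, 5, 4, 6, 4, 5, 4], [2, 1, 3, 1, 3, 1, 2, 1, 3, 1, 3, 1, 3, 1, 3, 1, 2, 1, 2, 1, 3, 1, 2, 1, 3, 1, 2, 1, 3, 1, 3, 1, 2, 1, 3, 10, 11, 10, 12, 12, 12, 10, 11, 9, 7, 9, 8, 9, 4, 6, 6, 4, 6, 6, 4, 5, 4, 5, 5], [2, 1, 2, 1, 2, 1, 3, 1, 2, 1, 3, 1, 3, 1, 3, 1, 2, 1, 3, 1, 2, 1, 2, 1, 2, 1, 3, 1, 2, 1, 3, 1, 3, 1, 3, 10, 11, 10, 12, 10, 11, 11, 10, 8, 9, 8, 9, 7, 9, 7, 9, 7, 9, 7, 9, 7, 4, 6, 6, 6, 4, 6, 4, 6, 6], [2, 1, 3, 1, 3, 1, 3, 1, 3, 1, 2, 1,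 3, 1, 3, 1, 2, 1, 3, 1, 2, 1, 2, 1, 3, 1, 2, 1, 2, 1, 2, 1, 2, 1, 3, 11, 10, 12, 12, 12, 9, 8, 9, 8, 9, 7, 9, 8, 9, 7, 9, 7, 9, 7, 5, 5, 4, 5, 5, 5, 5, 4, 6], [3, 1, 3, 1, 3, 1, 2, 1, 2, 1, 3, 1, 3, 1, 3, 1, 3, 1, 2, 1, 2, 1, 3, 1, 3, 1, 2, 1, 3, 1, 3, 1, 3, 1, 2, 10, 11, 11, 10, 9, 8, 9, 8, 9, 7, 9, 8, 9, 8, 9, 8, 9, 4, 5, 4, 6, 4, 5, 4, 6, 6, 6], [3, 1, 2, 1, 3, 1, 2, 1, 2, 1, 3, 1, 3, 1, 3, 1, 2, 1, 2, 1, 3, 1, 2, 1, 2, 1, 3, 1, 3, 1, 2, 1, 3, 1, 3, 10, 11, 11, 11, 11, 9, 7, 9, 8, 9, 8, 9, 7, 9, 8, 9, 7, 9, 8, 9, 8, 6, 6, 6, 4, 6, 4, 5], [3, 1, 3, 1, 3, 1, 2, 1, 3, 1, 3, 1, 3, 1, 2, 1, 2, 1, 3, 1, 2, 1, 2, 1, 3, 1, 2, 1, 2, 1, 3, 1, 2, 1,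 3, 12, 12, 12, 12, 12, 12, 9, 7, 9, 8, 9, 8, 9, 7, 9, 8, 9, 7, 9, 8, 9, 7, 4, 6, 6, 4, 5, 4, 6], [2, 1, 3, 1, 2, 1, 2, 1, 3, 1, 2, 1, 3, 1, 2, 1, 2, 1, 3, 1, 2, 1, 2, 1, 3, 1, 3, 1, 2, 1, 2, 1, 2, 1, 2, 10, 12, 10, 11, 11, 11, 10, 9, 8, 9, 7, 9, 7, 9, 8, 9, 7, 9, 7, 9, 7, 9, 5, 4, 6, 4, 5, 5, 4, 6, 4, 6], [3, 1, 2, 1, 2, 1, 2, 1, 3, 1, 2, 1, 3, 1, 3, 1, 3, 1, 2, 1, 2, 1, 2, 1, 3, 1, 2, 1, 3, 1, 3, 1, 3, 1, 2, 10, 8, 9, 7, 9, 8, 9, 7, 9, 7, 9, 7, 9, 7, 5, 4, 5, 5, 5, 5, 5, 4, 6], [3, 1, 2, 1, 2, 1, 2, 1, 3, 1, 2, 1, 3, 1, 2, 1, 3, 1, 2, 1, 3, 1, 2, 1, 3, 1, 2, 1, 3, 1, 3, 1, 3, 1, 2, 10, 11, 10, 12, 12, 8, 9, 7, 9, 8, 9, 8, 9, 7, 9, 8, 9, 8,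 9, 8, 9, 7, 4, 5, 4, 5, 4, 5], [3, 1, 3, 1, 2, 1, 3, 1, 3, 1, 2, 1, 3, 1, 3, 1, 2, 1, 3, 1, 2, 1, 2, 1, 3, 1, 2, 1, 2, 1, 3, 1, 2, 1, 2, 10, 11, 11, 11, 10, 12, 10, 9, 8, 9, 8, 9, 8, 9, 7, 9, 8, 9, 8, 9, 7, 9, 8, 5, 5, 4, 6, 4, 5, 5], [2, 1, 2, 1, 2, 1, 3, 1, 3, 1, 2, 1, 3, 1, 2, 1, 2, 1, 3, 1, 2, 1, 3, 1, 2, 1, 2, 1, 2, 1, 3, 1, 3, 1, 3, 11, 11, 10, 12, 10, 11, 9, 7, 9, 8, 9, 7, 9, 7, 9, 8, 9, 8, 9, 7, 9, 7, 6, 6, 4, 6, 6, 4, 6], [3, 1, 3, 1, 3, 1, 2, 1, 2, 1, 2, 1, 2, 1, 3, 1, 3, 1, 3, 1, 3, 1, 2, 1, 3, 1, 3, 1, 2, 1, 2, 1, 2, 1, 2, 12, 10, 9, 7, 9, 7, 9, 7, 9, 8, 9, 8, 9, 7, 9, 8, 9, 8, 9, 7, 9, 4, 5, 4, 5, 5, 5, 4, 6, 4, 5, 4], [2, 1, 2,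 1, 2, 1, 3, 1, 3, 1, 2, 1, 2, 1, 3, 1, 2, 1, 2, 1, 2, 1, 3, 1, 2, 1, 2, 1, 2, 1, 3, 1, 3, 1, 3, 10, 11, 10, 12, 10, 11, 10, 9, 7, 9, 7, 9, 7, 9, 7, 9, 8, 9, 8, 9, 8, 9, 7, 9, 7, 4, 6, 4, 5, 5], [3, 1, 3, 1, 2, 1, 3, 1, 3, 1, 2, 1, 3, 1, 2, 1, 2, 1, 3, 1, 2, 1, 2, 1, 2, 1, 3, 1, 3, 1, 3, 1, 2, 1, 3, 10, 11, 11, 10, 12, 10, 9, 8, 9, 7, 9, 8, 9, 7, 9, 7, 9, 8, 9, 8, 6, 6, 6, 4, 5, 5, 4, 6, 6], [3, 1, 3, 1, 3, 1, 2, 1, 3, 1, 2, 1, 2, 1, 2, 1, 3, 1, 2, 1, 3, 1, 2, 1, 2, 1, 2, 1, 2, 1, 3, 1, 3, 1, 3, 1, 2, 11, 10, 12, 12, 10, 8, 9, 7, 9, 8, 9, 8, 9, 8, 9, 7, 9, 8, 9, 8, 9, 7, 9, 6, 4, 5, 4, 6, 4], [3, 1, 2, 1, 3, 1, 3, 1, 2, 1, 3, 1, 3, 1, 3, 1, 3,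 1, 2, 1, 2, 1, 2, 1, 3, 1, 2, 1, 2, 1, 2, 1, 2, 1, 3, 1, 3, 12, 10, 11, 11, 11, 10, 12, 9, 7, 9, 7, 9, 7, 9, 7, 9, 8, 9, 8, 9, 8, 6, 4, 5, 4, 6, 4, 5], [2, 1, 2, 1, 3, 1, 3, 1, 2, 1, 3, 1, 3, 1, 3, 1, 2, 1, 2, 1, 3, 1, 3, 1, 3, 1, 3, 1, 2, 1, 2, 1, 2, 1, 3, 1, 3, 12, 10, 11, 10, 9, 8, 9, 8, 9, 8, 9, 7, 9, 8, 9, 7, 9, 8, 9, 4, 6, 4, 6, 4, 6, 4, 5, 5, 4, 6, 6], [2, 1, 2, 1, 2, 1, 3, 1, 3, 1, 2, 1, 2, 1, 2, 1, 3, 1, 2, 1, 3, 1, 3, 1, 2, 1, 3, 1, 2, 1, 3, 1, 2, 1, 2, 1, 2, 10, 12, 12, 10, 9, 8, 9, 7, 9, 8, 9, 8, 9, 8, 4, 6, 4, 6, 4, 5, 5, 5, 5, 5], [3, 1, 3, 1, 2, 1, 2, 1, 2, 1, 2, 1, 3, 1, 3, 1, 3, 1, 2, 1, 3, 1, 3, 1, 3, 1, 2, 1, 2, 1, 3, 1, 3,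 1, 3, 1, 2, 7, 5, 4, 5, 4, 5, 4, 5, 4, 5, 4], [2, 1, 3, 1, 3, 1, 2, 1, 3, 1, 2, 1, 3, 1, 3, 1, 2, 1, 2, 1, 3, 1, 3, 1, 2, 1, 3, 1, 2, 1, 2, 1, 3, 1, 2, 1, 3, 12, 12, 12, 12, 10, 9, 7, 9, 7, 9, 8, 9, 8, 9, 7, 9, 8, 9, 4, 6, 4, 6, 6, 6, 4, 6, 4, 5], [2, 1, 2, 1, 3, 1, 3, 1, 3, 1, 2, 1, 3, 1, 3, 1, 2, 1, 2, 1, 3, 1, 3, 1, 3, 1, 2, 1, 3, 1, 3, 1, 2, 1, 2, 1, 2, 10, 11, 10, 12, 10, 11, 11, 11, 9, 8, 9, 8, 9, 8, 9, 7, 9, 5, 4, 6, 4, 6, 4, 6, 6], [3, 1, 3, 1, 3, 1, 3, 1, 2, 1, 2, 1, 2, 1, 2, 1, 3, 1, 2, 1, 3, 1, 2, 1, 3, 1, 3, 1, 2, 1, 2, 1, 2, 1, 3, 1, 2, 10, 11, 10, 12, 12, 12, 10, 11, 9, 7, 9, 8, 9, 7, 9, 8, 9, 7, 9, 8, 9, 7, 9, 7, 9, 6, 6, 6, 4,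 6, 4, 5, 4, 6, 4, 5], [2, 1, 3, 1, 3, 1, 2, 1, 3, 1, 3, 1, 2, 1, 2, 1, 2, 1, 2, 1, 3, 1, 2, 1, 3, 1, 3, 1, 2, 1, 3, 1, 2, 1, 2, 1, 3, 12, 10, 11, 11, 11, 9, 8, 9, 7, 9, 7, 9, 8, 9, 7, 9, 7, 9, 7, 9, 4, 6, 6, 6, 4, 6, 4], [2, 1, 2, 1, 3, 1, 2, 1, 3, 1, 2, 1, 3, 1, 2, 1, 3, 1, 2, 1, 2, 1, 2, 1, 3, 1, 3, 1, 2, 1, 3, 1, 3, 1, 2, 1, 3, 10, 12, 12, 12, 12, 12, 8, 9, 7, 9, 8, 9, 7, 9, 8, 9, 8, 9, 7, 9, 7, 9, 7, 9, 8, 9, 4, 5, 5, 4, 6, 6, 6, 4, 6], [2, 1, 3, 1, 2, 1, 3, 1, 2, 1, 2, 1, 2, 1, 3, 1, 2, 1, 2, 1, 3, 1, 2, 1, 3, 1, 3, 1, 3, 1, 2, 1, 2, 1, 2, 1, 2, 10, 11, 11, 10, 8, 9, 8, 9, 8, 9, 7, 9, 7, 9, 7, 9, 7, 4, 5, 4, 6, 4, 6, 6, 6], [2, 1, 3, 1,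 2, 1, 2, 1, 2, 1, 2, 1, 3, 1, 3, 1, 3, 1, 2, 1, 2, 1, 3, 1, 3, 1, 3, 1, 2, 1, 2, 1, 2, 1, 3, 1, 3, 12, 12, 10, 11, 11, 9, 7, 9, 8, 9, 8, 9, 8, 9, 8, 9, 8, 9, 7, 5, 4, 6, 6, 4, 5, 4, 5, 4, 6, 6, 4], [3, 1, 2, 1, 3, 1, 2, 1, 3, 1, 2, 1, 2, 1, 2, 1, 3, 1, 2, 1, 2, 1, 2, 1, 3, 1, 2, 1, 3, 1, 3, 1, 3, 1, 2, 1, 3, 10, 12, 10, 11, 10, 12, 12, 8, 9, 8, 9, 7, 9, 7, 9, 7, 9, 7, 9, 8, 9, 7, 9, 5, 5, 5, 5, 5, 4, 5, 4, 6, 6], [2, 1, 3, 1, 2, 1, 3, 1, 3, 1, 2, 1, 2, 1, 2, 1, 3, 1, 2, 1, 2, 1, 2, 1, 3, 1, 2, 1, 3, 1, 2, 1, 2, 1, 3, 1, 2, 10, 12, 12, 10, 11, 11, 10, 9, 7, 9, 8, 9, 8, 9, 8, 9, 8, 9, 8, 9, 7, 9, 7, 4, 6, 6, 6, 6, 4, 6, 4, 6], [3, 1, 3, 1, 2,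 1, 3, 1, 3, 1, 2, 1, 3, 1, 3, 1, 3, 1, 2, 1, 2, 1, 3, 1, 3, 1, 2, 1, 3, 1, 3, 1, 3, 1, 3, 1, 2, 10, 11, 10, 12, 10, 11, 10, 12, 10, 8, 9, 7, 9, 7, 9, 7, 9, 7, 9, 7, 9, 7, 5, 5, 4, 5, 5, 5, 4, 5, 4, 6], [3, 1, 3, 1, 3, 1, 3, 1, 2, 1, 2, 1, 3, 1, 2, 1, 3, 1, 2, 1, 2, 1, 3, 1, 2, 1, 3, 1, 3, 1, 2, 1, 2, 1, 3, 1, 3, 11, 11, 11, 10, 12, 10, 8, 9, 8, 9, 8, 9, 7, 9, 8, 9, 8, 5, 4, 6, 4, 5, 5, 5], [2, 1, 2, 1, 2, 1, 2, 1, 2, 1, 3, 1, 3, 1, 2, 1, 2, 1, 2, 1, 2, 1, 3, 1, 3, 1, 3, 1, 2, 1, 2, 1, 2, 1, 3, 1, 2, 12, 10, 11, 10, 12, 10, 11, 9, 8, 9, 8, 9, 7, 9, 8, 9, 8, 9, 7, 9, 8, 9, 7, 9, 5, 4, 5, 5, 5, 4], [2, 1, 2, 1, 3, 1, 2, 1, 3, 1, 2, 1, 3, 1, 3,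 1, 3, 1, 2, 1, 3, 1, 2, 1, 3, 1, 2, 1, 2, 1, 2, 1, 2, 1, 3, 1, 3, 11, 10, 12, 8, 9, 7, 9, 7, 9, 7, 9, 8, 9, 7, 9, 8, 9, 7, 9, 5, 4, 5, 5, 5, 4, 6, 6, 6, 6], [2, 1, 2, 1, 3, 1, 3, 1, 2, 1, 3, 1, 3, 1, 3, 1, 3, 1, 2, 1, 2, 1, 2, 1, 3, 1, 3, 1, 2, 1, 2, 1, 3, 1, 3, 1, 3, 10, 12, 12, 10, 11, 11, 10, 12, 12, 9, 8, 9, 7, 9, 8, 9, 7, 9, 7, 9, 8, 9, 8, 6, 6, 6, 6, 6, 6, 4, 6, 6], [2, 1, 2, 1, 3, 1, 2, 1, 3, 1, 3, 1, 3, 1, 3, 1, 2, 1, 2, 1, 3, 1, 2, 1, 2, 1, 2, 1, 3, 1, 2, 1, 2, 1, 2, 1, 3, 11, 11, 10, 12, 10, 9, 7, 9, 8, 9, 7, 9, 7, 9, 8, 9, 7, 9, 7, 9, 7, 9, 4, 6, 6, 6, 4, 6, 6, 4, 5], [2, 1, 3, 1, 3, 1, 2, 1, 3, 1, 3, 1, 2, 1, 3, 1, 3, 1, 2, 1, 3,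 1, 3, 1, 3, 1, 2, 1, 3, 1, 2, 1, 3, 1, 2, 1, 3, 10, 11, 11, 10, 12, 12, 12, 9, 8, 9, 8, 9, 5, 5, 5, 5, 4, 5], [3, 1, 2, 1, 3, 1, 2, 1, 3, 1, 2, 1, 2, 1, 3, 1, 2, 1, 2, 1, 2, 1, 3, 1, 3, 1, 3, 1, 2, 1, 3, 1, 2, 1, 2, 1, 3, 10, 12, 12, 10, 11, 11, 9, 8, 9, 8, 9, 7, 9, 8, 9, 8, 9, 7, 9, 8, 9, 7, 4, 5, 5, 5, 5, 4, 6, 4], [3, 1, 2, 1, 3, 1, 3, 1, 2, 1, 2, 1, 3, 1, 3, 1, 3, 1, 3, 1, 2, 1, 2, 1, 2, 1, 3, 1, 3, 1, 2, 1, 3, 1, 2, 1, 3, 1, 3, 11, 11, 11, 10, 12, 12, 8, 9, 8, 9, 8, 9, 7, 9, 7, 9, 8, 9, 8, 9, 8, 5, 4, 5, 5, 4, 6, 6], [3, 1, 2, 1, 3, 1, 3, 1, 2, 1, 3, 1, 2, 1, 2, 1, 2, 1, 3, 1, 3, 1, 2, 1, 3, 1, 2, 1, 3, 1, 2, 1, 2, 1, 2, 1, 2, 1, 3, 10,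 12, 12, 12, 12, 9, 8, 9, 8, 9, 7, 9, 7, 9, 8, 9, 8, 9, 6, 4, 5, 4, 6, 4, 6], [3, 1, 3, 1, 3, 1, 2, 1, 3, 1, 2, 1, 3, 1, 2, 1, 3, 1, 3, 1, 2, 1, 2, 1, 3, 1, 2, 1, 3, 1, 2, 1, 3, 1, 2, 1, 2, 1, 2, 10, 12, 10, 9, 7, 9, 7, 9, 7, 9, 7, 9, 8, 9, 7, 9, 8, 9, 7, 5, 4, 5, 5, 5, 5, 5, 4], [2, 1, 2, 1, 2, 1, 3, 1, 3, 1, 2, 1, 2, 1, 2, 1, 2, 1, 3, 1, 3, 1, 2, 1, 2, 1, 2, 1, 3, 1, 3, 1, 2, 1, 2, 1, 3, 1, 2, 12, 10, 11, 11, 10, 12, 12, 9, 8, 9, 7, 9, 8, 9, 7, 9, 7, 9, 7, 9, 7, 9, 8, 9, 7, 4, 6, 6, 4, 5, 4, 5, 5], [3, 1, 3, 1, 3, 1, 2, 1, 3, 1, 3, 1, 3, 1, 3, 1, 2, 1, 2, 1, 3, 1, 3, 1, 2, 1, 2, 1, 2, 1, 2, 1, 3, 1, 2, 1, 2, 1, 2, 11, 10, 12, 12, 10, 11, 11,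 10, 12, 9, 7, 9, 7, 9, 7, 9, 7, 9, 8, 9, 8, 9, 8, 9, 5, 4, 6, 6, 4, 5, 4, 5, 4, 6, 6], [3, 1, 2, 1, 3, 1, 3, 1, 2, 1, 3, 1, 2, 1, 2, 1, 3, 1, 3, 1, 3, 1, 2, 1, 3, 1, 2, 1, 2, 1, 2, 1, 3, 1, 3, 1, 2, 1, 3, 10, 11, 11, 10, 12, 10, 11, 8, 9, 7, 9, 8, 9, 8, 9, 7, 9, 8, 9, 7, 9, 7, 9, 5, 4, 6, 4, 5, 5, 5], [3, 1, 3, 1, 3, 1, 2, 1, 2, 1, 3, 1, 2, 1, 2, 1, 3, 1, 3, 1, 3, 1, 3, 1, 2, 1, 2, 1, 2, 1, 2, 1, 3, 1, 2, 1, 3, 1, 2, 10, 12, 12, 10, 11, 10, 8, 9, 8, 9, 7, 9, 8, 9, 8, 9, 8, 9, 8, 9, 8, 9, 7, 9, 4, 6, 4, 5, 4, 6, 6, 4], [2, 1, 3, 1, 2, 1, 2, 1, 3, 1, 3, 1, 2, 1, 3, 1, 3, 1, 2, 1, 2, 1, 3, 1, 2, 1, 3, 1, 3, 1, 2, 1, 3, 1, 3, 1, 2, 1, 3, 11, 11,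 10, 12, 12, 12, 10, 11, 9, 7, 9, 7, 9, 8, 9, 7, 9, 7, 9, 7, 9, 8, 9, 7, 9, 8, 4, 6, 4, 5, 4, 5, 4, 6, 4], [3, 1, 2, 1, 3, 1, 3, 1, 3, 1, 3, 1, 2, 1, 2, 1, 2, 1, 3, 1, 3, 1, 3, 1, 2, 1, 3, 1, 2, 1, 2, 1, 3, 1, 3, 1, 2, 1, 2, 12, 12, 12, 10, 8, 9, 8, 9, 7, 9, 8, 9, 8, 9, 8, 9, 8, 9, 7, 9, 7, 6, 6, 4, 5], [2, 1, 2, 1, 2, 1, 3, 1, 3, 1, 3, 1, 2, 1, 2, 1, 3, 1, 2, 1, 2, 1, 3, 1, 2, 1, 3, 1, 2, 1, 2, 1, 3, 1, 2, 1, 2, 1, 3, 11, 11, 10, 12, 10, 11, 9, 8, 9, 8, 9, 7, 9, 8, 9, 7, 9, 7, 9, 7, 9, 7, 9, 4, 5, 4, 5, 4, 6, 6, 4, 6, 6], [2, 1, 2, 1, 2, 1, 3, 1, 3, 1, 3, 1, 2, 1, 2, 1, 2, 1, 2, 1, 3, 1, 2, 1, 3, 1, 2, 1, 3, 1, 3, 1, 3, 1, 2, 1, 2, 1, 2, 11,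 10, 12, 8, 9, 7, 9, 8, 9, 7, 9, 8, 9, 8, 9, 7, 9, 8, 9, 7, 5, 4, 6, 4, 5, 4, 6, 4, 6, 4, 5, 5], [2, 1, 3, 1, 2, 1, 3, 1, 2, 1, 3, 1, 3, 1, 3, 1, 2, 1, 3, 1, 3, 1, 2, 1, 3, 1, 2, 1, 3, 1, 3, 1, 2, 1, 3, 1, 2, 1, 3, 12, 12, 12, 10, 11, 10, 12, 9, 8, 9, 8, 9, 8, 9, 7, 9, 7, 9, 7, 9, 5, 4, 5, 4, 5, 4, 5, 4, 5, 5, 4], [2, 1, 2, 1, 2, 1, 2, 1, 2, 1, 3, 1, 2, 1, 3, 1, 2, 1, 3, 1, 2, 1, 3, 1, 2, 1, 3, 1, 2, 1, 3, 1, 3, 1, 3, 1, 3, 1, 3, 10, 11, 11, 11, 10, 12, 12, 9, 7, 9, 7, 9, 7, 9, 7, 4, 5, 5, 5, 5, 5, 4, 6, 6, 4, 5], [2, 1, 2, 1, 2, 1, 3, 1, 3, 1, 2, 1, 3, 1, 2, 1, 3, 1, 2, 1, 2, 1, 3, 1, 3, 1, 3, 1, 2, 1, 3, 1, 3, 1, 2, 1, 3, 1, 2, 12, 12, 12,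 10, 11, 9, 8, 9, 7, 9, 7, 9, 7, 9, 8, 9, 7, 6, 6, 6, 6, 6, 4, 6, 4, 6, 6], [2, 1, 3, 1, 2, 1, 3, 1, 3, 1, 2, 1, 3, 1, 2, 1, 2, 1, 2, 1, 3, 1, 2, 1, 3, 1, 2, 1, 2, 1, 2, 1, 2, 1, 3, 1, 2, 1, 2, 10, 12, 10, 11, 11, 11, 8, 9, 7, 9, 7, 9, 7, 9, 7, 9, 6, 4, 6, 6, 6, 4, 5, 4, 6, 4], [2, 1, 2, 1, 2, 1, 3, 1, 3, 1, 3, 1, 2, 1, 2, 1, 3, 1, 3, 1, 2, 1, 3, 1, 3, 1, 2, 1, 2, 1, 2, 1, 3, 1, 3, 1, 2, 1, 3, 12, 10, 11, 11, 10, 9, 7, 9, 7, 9, 7, 9, 7, 9, 8, 9, 5, 5, 4, 5, 5, 5, 4, 6], [3, 1, 2, 1, 3, 1, 3, 1, 2, 1, 3, 1, 3, 1, 2, 1, 2, 1, 3, 1, 2, 1, 3, 1, 2, 1, 2, 1, 2, 1, 2, 1, 3, 1, 2, 1, 3, 1, 2, 12, 10, 11, 11, 10, 12, 9, 7, 9, 7, 9, 7, 9, 7, 9, 8, 9,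 6, 6, 6, 6, 4, 6, 4, 6, 6, 6, 4], [3, 1, 2, 1, 3, 1, 3, 1, 2, 1, 3, 1, 2, 1, 3, 1, 2, 1, 3, 1, 3, 1, 3, 1, 2, 1, 2, 1, 3, 1, 3, 1, 3, 1, 3, 1, 2, 1, 2, 11, 11, 10, 12, 12, 10, 11, 10, 9, 8, 9, 7, 9, 7, 9, 7, 9, 7, 9, 7, 9, 7, 9, 8, 9, 8, 5, 5, 4, 6, 4, 6, 6, 4], [2, 1, 2, 1, 3, 1, 3, 1, 2, 1, 2, 1, 2, 1, 3, 1, 3, 1, 2, 1, 3, 1, 2, 1, 3, 1, 2, 1, 3, 1, 2, 1, 3, 1, 2, 1, 2, 1, 2, 11, 10, 12, 10, 11, 11, 10, 8, 9, 7, 9, 7, 9, 7, 9, 8, 9, 8, 9, 7, 9, 5, 4, 5, 4, 5, 5, 4, 5, 5, 5, 5], [2, 1, 2, 1, 3, 1, 2, 1, 3, 1, 2, 1, 2, 1, 3, 1, 2, 1, 2, 1, 3, 1, 2, 1, 2, 1, 3, 1, 2, 1, 2, 1, 3, 1, 2, 1, 3, 1, 3, 10, 12, 10, 11, 11, 10, 12, 9, 8, 9, 8, 9, 8,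 9, 7, 9, 7, 9, 7, 9, 8, 9, 4, 5, 4, 6, 4, 6, 4, 5, 5], [2, 1, 2, 1, 3, 1, 3, 1, 2, 1, 2, 1, 2, 1, 3, 1, 2, 1, 2, 1, 3, 1, 3, 1, 2, 1, 3, 1, 3, 1, 3, 1, 2, 1, 2, 1, 3, 1, 3, 12, 10, 11, 11, 10, 9, 7, 9, 8, 9, 7, 9, 8, 9, 8, 6, 4, 6, 4, 6, 4, 5, 5, 4], [2, 1, 2, 1, 3, 1, 3, 1, 3, 1, 2, 1, 3, 1, 2, 1, 3, 1, 2, 1, 2, 1, 3, 1, 3, 1, 2, 1, 2, 1, 3, 1, 3, 1, 3, 1, 3, 1, 2, 11, 11, 11, 11, 11, 8, 9, 7, 9, 8, 9, 7, 9, 8, 9, 8, 9, 7, 9, 8, 9, 7, 6, 6, 4, 6, 6, 6], [3, 1, 2, 1, 2, 1, 2, 1, 2, 1, 3, 1, 2, 1, 2, 1, 2, 1, 3, 1, 2, 1, 3, 1, 2, 1, 3, 1, 3, 1, 3, 1, 3, 1, 2, 1, 2, 1, 2, 10, 11, 11, 11, 10, 9, 8, 9, 8, 9, 7, 9, 7, 9, 7, 9, 4, 6, 6, 4, 5, 5, 4,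 5, 5, 5], [2, 1, 3, 1, 2, 1, 3, 1, 2, 1, 3, 1, 2, 1, 3, 1, 2, 1, 3, 1, 2, 1, 3, 1, 2, 1, 3, 1, 2, 1, 2, 1, 3, 1, 2, 1, 3, 1, 2, 11, 10, 12, 10, 11, 11, 8, 9, 7, 9, 8, 9, 7, 9, 8, 9, 7, 6, 4, 5, 4, 5, 4, 6, 6, 6, 4], [3, 1, 3, 1, 3, 1, 2, 1, 2, 1, 3, 1, 2, 1, 3, 1, 3, 1, 3, 1, 2, 1, 2, 1, 3, 1, 3, 1, 2, 1, 3, 1, 2, 1, 3, 1, 2, 1, 3, 11, 10, 12, 10, 11, 11, 9, 8, 9, 7, 9, 7, 9, 7, 9, 8, 9, 7, 4, 6, 4, 5, 4, 6, 6, 6, 6, 4], [2, 1, 3, 1, 3, 1, 3, 1, 2, 1, 3, 1, 2, 1, 3, 1, 3, 1, 2, 1, 3, 1, 3, 1, 3, 1, 3, 1, 2, 1, 2, 1, 3, 1, 2, 1, 3, 1, 2, 10, 12, 10, 11, 11, 11, 8, 9, 7, 9, 8, 9, 8, 9, 7, 6, 6, 4, 6, 6, 4, 5], [3, 1, 2, 1, 2, 1, 2, 1, 2, 1, 3,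 1, 2, 1, 3, 1, 3, 1, 2, 1, 3, 1, 3, 1, 2, 1, 2, 1, 2, 1, 3, 1, 2, 1, 3, 1, 2, 1, 3, 10, 11, 11, 11, 11, 10, 12, 8, 9, 7, 9, 8, 9, 8, 9, 7, 9, 8, 9, 8, 9, 7, 9, 5, 4, 6, 4, 6, 4, 5, 5], [3, 1, 2, 1, 3, 1, 2, 1, 3, 1, 2, 1, 3, 1, 3, 1, 2, 1, 2, 1, 3, 1, 3, 1, 2, 1, 2, 1, 3, 1, 2, 1, 3, 1, 2, 1, 3, 1, 2, 11, 8, 9, 7, 9, 7, 9, 7, 9, 8, 9, 8, 9, 5, 4, 6, 4, 5, 4], [3, 1, 3, 1, 3, 1, 3, 1, 2, 1, 3, 1, 3, 1, 3, 1, 2, 1, 3, 1, 2, 1, 3, 1, 2, 1, 2, 1, 2, 1, 3, 1, 2, 1, 2, 1, 2, 1, 2, 11, 10, 12, 10, 11, 11, 10, 9, 7, 9, 8, 9, 7, 9, 7, 9, 7, 9, 8, 9, 8, 9, 7, 9, 8, 5, 4, 5, 4, 6, 4, 6, 6, 6, 6, 4, 5], [2, 1, 3, 1, 2, 1, 2, 1, 3, 1, 3, 1, 3, 1, 2, 1, 3,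 1, 3, 1, 2, 1, 2, 1, 3, 1, 2, 1, 2, 1, 2, 1, 3, 1, 3, 1, 2, 1, 3, 10, 12, 10, 11, 11, 11, 8, 9, 8, 9, 8, 9, 7, 9, 7, 9, 7, 9, 7, 4, 6, 6, 6, 6, 4, 6], [2, 1, 3, 1, 3, 1, 3, 1, 3, 1, 2, 1, 3, 1, 2, 1, 3, 1, 3, 1, 2, 1, 2, 1, 3, 1, 2, 1, 3, 1, 2, 1, 2, 1, 2, 1, 2, 1, 3, 10, 11, 10, 12, 12, 10, 11, 9, 8, 9, 7, 9, 7, 9, 8, 9, 7, 9, 8, 9, 8, 9, 8, 9, 7, 4, 5, 4, 5, 4, 6, 6, 6, 4, 6, 6, 6], [2, 1, 3, 1, 2, 1, 2, 1, 3, 1, 3, 1, 2, 1, 3, 1, 2, 1, 3, 1, 2, 1, 2, 1, 3, 1, 2, 1, 3, 1, 2, 1, 3, 1, 2, 1, 3, 1, 2, 11, 10, 12, 12, 10, 11, 8, 9, 8, 9, 8, 9, 7, 9, 8, 9, 7, 9, 7, 9, 7, 9, 7, 9, 8, 5, 4, 5, 4, 5, 5, 4, 5, 4], [3, 1, 2, 1, 3, 1, 2, 1, 2, 1, 3,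 1, 3, 1, 3, 1, 3, 1, 2, 1, 3, 1, 2, 1, 2, 1, 2, 1, 2, 1, 3, 1, 2, 1, 3, 1, 2, 1, 3, 12, 12, 10, 9, 8, 9, 8, 9, 7, 9, 7, 9, 8, 9, 7, 4, 6, 4, 5, 5, 5, 4, 6, 6, 6], [3, 1, 3, 1, 3, 1, 2, 1, 2, 1, 2, 1, 3, 1, 3, 1, 3, 1, 3, 1, 2, 1, 2, 1, 2, 1, 3, 1, 3, 1, 2, 1, 2, 1, 3, 1, 2, 1, 3, 11, 11, 11, 10, 12, 10, 11, 8, 9, 7, 9, 8, 9, 7, 9, 8, 9, 8, 9, 8, 9, 4, 6, 4, 5, 5, 5, 4, 6]]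
def rt : RT := (.node 124 (.node 62 (.node 31 (.node 15 (.node 7 (.node 3 (.node 1 (.leaf 0 0 []) (.node 2 (.leaf 2 8 [2, 1, 2, 1, 3, 1, 3, 1, 2, 6, 2, 1, 3, 1, 3, 1, 2, 1]) (.leaf 7 1 [2, 2, 2]))) (.node 5 (.node 4 (.leaf 14 6 [2, 2, 1, 2, 2, 2, 1, 2]) (.leaf 2 17 [6, 2, 1, 3, 1, 3, 1, 2, 1, 2, 1, 2, 1, 3, 1, 3, 1, 2])) (.node 6 (.leaf 10 10 [1, 3, 1, 3, 1, 3, 1, 3, 1, 3, 1, 3, 1, 3, 1, 3, 1, 3, 1, 3, 1, 3]) (.leaf 1 1 [4, 1])))) (.node 11 (.node 9 (.node 8 (.leaf 10 6 [1, 3, 1, 3, 1, 3, 1, 3, 1, 3, 1, 3, 1, 3, 1, 3, 1, 3, 1, 3, 1, 3]) (.leaf 12 29 [3, 1, 3, 3, 1, 3, 3, 1, 3, 3, 1, 3, 3, 1, 3, 3, 1, 3, 3, 1, 3, 3, 1, 3, 3, 1, 3, 3, 1, 3, 3,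 1, 3])) (.node 10 (.leaf 15 6 [3, 3, 1, 3, 3, 3, 1, 3]) (.leaf 10 9 [3, 1, 3, 1, 3, 1, 3, 1, 3, 1, 3, 1, 3, 1, 3, 1, 3, 1, 3, 1, 3, 1]))) (.node 13 (.node 12 (.leaf 12 7 [3, 3, 1, 3, 3, 1, 3, 3, 1, 3, 3, 1, 3, 3, 1, 3, 3, 1, 3, 3, 1, 3, 3, 1, 3, 3, 1, 3, 3, 1, 3, 3, 1]) (.leaf 1 0 [1, 4])) (.node 14 (.leaf 3 9 [8, 4, 5, 5, 5, 4, 6, 4, 5, 5]) (.leaf 4 13 [9, 6, 4, 5, 4, 6, 6, 4, 5, 5, 4, 6, 4, 5]))))) (.node 23 (.node 19 (.node 17 (.node 16 (.leaf 11 19 [2, 2, 1, 2, 2, 1, 2, 2, 1, 2, 2, 1, 2, 2, 1, 2, 2, 1, 2, 2, 1, 2, 2, 1, 2, 2, 1, 2, 2, 1, 2, 2, 1]) (.leaf 14 5 [2, 2, 2, 1, 2, 2, 2, 1])) (.node 18 (.leaf 5 3 [10, 7, 9, 8]) (.leaf 6 23 [12,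 9, 7, 9, 7, 9, 7, 9, 7, 9, 7, 9, 7, 9, 8, 9, 7, 9, 7, 9, 7, 9, 8, 9]))) (.node 21 (.node 20 (.leaf 16 9 [1, 3, 1, 2, 1, 3, 1, 2, 1, 2, 12, 10, 11, 10, 8, 9, 7, 9, 7, 9, 7, 9, 8, 9, 7, 9, 8, 9, 8, 9, 8, 9, 5, 4, 6, 4, 5, 5, 4, 6, 4, 3, 1, 3, 1, 2, 1, 3, 1, 2]) (.leaf 17 11 [1, 2, 1, 3, 1, 3, 1, 3, 1, 2, 1, 2, 10, 11, 10, 9, 8, 9, 8, 9, 7, 9, 8, 9, 7, 9, 7, 9, 8, 9, 5, 4, 5, 4, 6, 6, 4, 6, 2, 1, 2, 1, 3, 1, 2, 1, 2, 1, 2])) (.node 22 (.leaf 9 7 [2, 1, 2, 1, 2, 1, 2, 1, 2, 1, 2, 1, 2, 1, 2, 1, 2, 1, 2, 1, 2, 1]) (.leaf 12 10 [3, 3, 1, 3, 3, 1, 3, 3, 1, 3, 3, 1, 3, 3, 1, 3, 3, 1, 3, 3, 1, 3, 3, 1, 3, 3, 1, 3, 3, 1, 3, 3, 1])))) (.node 27 (.node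 25 (.node 24 (.leaf 18 11 [1, 3, 1, 3, 1, 2, 1, 3, 1, 3, 1, 3, 12, 10, 11, 11, 11, 10, 8, 9, 8, 9, 7, 9, 7, 9, 7, 9, 7, 9, 8, 9, 7, 9, 7, 9, 5, 5, 5, 5, 5, 5, 4, 2, 1, 2, 1, 2, 1, 3, 1, 2, 1, 2]) (.leaf 11 23 [2, 1, 2, 2, 1, 2, 2, 1, 2, 2, 1, 2, 2, 1, 2, 2, 1, 2, 2, 1, 2, 2, 1, 2, 2, 1, 2, 2, 1, 2, 2, 1, 2])) (.node 26 (.leaf 19 13 [1, 3, 1, 3, 1, 3, 1, 2, 1, 2, 1, 2, 1, 3, 10, 11, 11, 11, 10, 9, 8, 9, 8, 9, 8, 9, 7, 9, 8, 9, 7, 9, 8, 9, 8, 6, 6, 4, 6, 4, 5, 5, 4, 5, 2, 1, 3, 1, 3, 1, 3, 1, 2, 1, 2, 1, 2]) (.leaf 9 5 [2, 1, 2, 1, 2, 1, 2, 1, 2, 1, 2, 1, 2, 1, 2, 1, 2, 1, 2, 1, 2, 1]))) (.node 29 (.node 28 (.leaf 11 26 [2, 1, 2, 2, 1, 2, 2, 1,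 2, 2, 1, 2, 2, 1, 2, 2, 1, 2, 2, 1, 2, 2, 1, 2, 2, 1, 2, 2, 1, 2, 2, 1, 2]) (.leaf 20 14 [2, 1, 3, 1, 2, 1, 3, 1, 3, 1, 2, 1, 3, 1, 2, 10, 11, 11, 11, 10, 12, 12, 10, 9, 7, 9, 8, 9, 7, 9, 8, 9, 6, 6, 4, 5, 5, 5, 4, 6, 3, 1, 2, 1, 3, 1, 3, 1, 3, 1, 2, 1, 3, 1])) (.node 30 (.leaf 7 2 [2, 2, 2]) (.leaf 21 14 [2, 1, 3, 1, 2, 1, 2, 1, 3, 1, 2, 1, 2, 1, 2, 12, 12, 10, 11, 11, 10, 8, 9, 7, 9, 7, 9, 7, 9, 8, 9, 7, 9, 7, 9, 7, 4, 5, 4, 6, 4, 6, 6, 4, 5, 5, 2, 1, 2, 1, 3, 1, 3, 1, 2, 1, 3, 1, 3, 1])))))) (.node 46 (.node 38 (.node 34 (.node 32 (.leaf 22 14 [2, 1, 3, 1, 2, 1, 2, 1, 3, 1, 3, 1, 3, 1, 3, 10, 11, 11, 11, 11, 8, 9, 8, 9, 7, 9, 7, 9, 7, 9,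 7, 9, 7, 9, 8, 9, 8, 6, 4, 6, 6, 4, 6, 6, 4, 2, 1, 3, 1, 3, 1, 3, 1, 3, 1, 2, 1, 2, 1]) (.node 33 (.leaf 9 8 [1, 2, 1, 2, 1, 2, 1, 2, 1, 2, 1, 2, 1, 2, 1, 2, 1, 2, 1, 2, 1, 2]) (.leaf 23 14 [2, 1, 3, 1, 2, 1, 3, 1, 2, 1, 2, 1, 2, 1, 2, 11, 10, 12, 10, 11, 10, 9, 8, 9, 7, 9, 7, 9, 8, 9, 7, 9, 7, 4, 5, 4, 5, 4, 5, 4, 5, 5, 4, 6, 2, 1, 3, 1, 3, 1, 2, 1, 3, 1, 2, 1, 3, 1]))) (.node 36 (.node 35 (.leaf 9 12 [1, 2, 1, 2, 1, 2, 1, 2, 1, 2, 1, 2, 1, 2, 1, 2, 1, 2, 1, 2, 1, 2]) (.leaf 24 14 [2, 1, 3, 1, 3, 1, 2, 1, 2, 1, 3, 1, 2, 1, 2, 10, 12, 12, 12, 8, 9, 8, 9, 7, 9, 7, 5, 5, 4, 5, 5, 4, 6, 4, 5, 5, 5, 2, 1, 2, 1, 3, 1, 3, 1, 2, 1, 3, 1, 2, 1])) (.node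 37 (.leaf 11 31 [2, 2, 1, 2, 2, 1, 2, 2, 1, 2, 2, 1, 2, 2, 1, 2, 2, 1, 2, 2, 1, 2, 2, 1, 2, 2, 1, 2, 2, 1, 2, 2, 1]) (.leaf 25 15 [1, 3, 1, 2, 1, 2, 1, 3, 1, 2, 1, 2, 1, 2, 1, 3, 10, 12, 12, 12, 12, 12, 12, 12, 9, 7, 9, 8, 9, 7, 9, 8, 9, 7, 9, 8, 9, 7, 9, 8, 9, 7, 6, 6, 4, 6, 4, 5, 5, 5, 5, 4, 5, 2, 1, 3, 1, 3, 1, 3, 1, 2, 1, 3, 1, 3, 1, 2])))) (.node 42 (.node 40 (.node 39 (.leaf 26 15 [1, 2, 1, 3, 1, 3, 1, 2, 1, 3, 1, 3, 1, 3, 1, 3, 12, 10, 11, 10, 12, 10, 11, 11, 8, 9, 7, 9, 8, 9, 8, 9, 7, 9, 8, 9, 8, 9, 7, 9, 7, 4, 6, 4, 5, 4, 2, 1, 2, 1, 3, 1, 2, 1, 3, 1, 2, 1, 2, 1, 2]) (.leaf 27 15 [1, 2, 1, 2, 1, 3, 1, 2, 1, 2, 1, 3, 1, 3, 1, 3, 11,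 10, 12, 12, 12, 12, 9, 8, 9, 7, 9, 7, 9, 8, 9, 7, 9, 7, 9, 7, 9, 8, 9, 7, 5, 4, 6, 4, 6, 6, 6, 6, 6, 2, 1, 2, 1, 2, 1, 3, 1, 3, 1, 2, 1, 3, 1, 3])) (.node 41 (.leaf 28 15 [1, 3, 1, 3, 1, 2, 1, 3, 1, 3, 1, 2, 1, 3, 1, 3, 10, 11, 10, 12, 12, 10, 11, 11, 8, 9, 7, 9, 8, 9, 7, 9, 7, 9, 7, 9, 5, 4, 6, 2, 1, 2, 1, 3, 1, 2, 1, 2, 1, 3, 1, 2, 1, 2]) (.leaf 29 15 [1, 3, 1, 2, 1, 2, 1, 2, 1, 3, 1, 3, 1, 2, 1, 2, 10, 12, 12, 10, 11, 10, 12, 8, 9, 8, 9, 7, 9, 8, 9, 7, 6, 4, 5, 4, 6, 4, 5, 4, 2, 1, 2, 1, 2, 1, 3, 1, 2, 1, 3, 1, 2, 1, 3]))) (.node 44 (.node 43 (.leaf 10 11 [3, 1, 3, 1, 3, 1, 3, 1, 3, 1, 3, 1, 3, 1, 3, 1, 3, 1, 3, 1, 3, 1]) (.leaf 30 15 [1,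 3, 1, 2, 1, 2, 1, 2, 1, 3, 1, 2, 1, 2, 1, 3, 11, 11, 11, 10, 12, 12, 10, 11, 9, 8, 9, 8, 9, 7, 9, 7, 9, 8, 9, 7, 9, 4, 6, 4, 5, 5, 4, 3, 1, 2, 1, 2, 1, 2, 1, 3, 1, 3, 1, 3, 1, 2])) (.node 45 (.leaf 31 15 [1, 3, 1, 2, 1, 3, 1, 3, 1, 2, 1, 2, 1, 3, 1, 2, 12, 10, 11, 11, 11, 8, 9, 7, 9, 7, 9, 7, 9, 7, 9, 4, 5, 4, 6, 6, 4, 6, 4, 6, 6, 3, 1, 2, 1, 3, 1, 3, 1, 2, 1, 2, 1, 3, 1, 2]) (.leaf 32 15 [1, 3, 1, 2, 1, 2, 1, 3, 1, 3, 1, 3, 1, 2, 1, 3, 10, 11, 11, 9, 7, 9, 8, 6, 4, 6, 4, 5, 4, 6, 6, 2, 1, 3, 1, 2, 1, 2, 1, 2, 1, 3, 1, 3, 1, 2]))))) (.node 54 (.node 50 (.node 48 (.node 47 (.leaf 33 15 [1, 3, 1, 3, 1, 2, 1, 3, 1, 3, 1, 3, 1, 3, 1, 3, 10, 11,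 10, 12, 8, 9, 7, 9, 8, 9, 8, 9, 7, 9, 7, 9, 8, 9, 8, 9, 8, 6, 4, 6, 4, 6, 4, 5, 5, 5, 4, 2, 1, 2, 1, 2, 1, 2, 1, 2, 1, 3, 1, 2, 1, 2]) (.leaf 11 25 [2, 2, 1, 2, 2, 1, 2, 2, 1, 2, 2, 1, 2, 2, 1, 2, 2, 1, 2, 2, 1, 2, 2, 1, 2, 2, 1, 2, 2, 1, 2, 2, 1])) (.node 49 (.leaf 34 16 [2, 1, 2, 1, 3, 1, 2, 1, 3, 1, 3, 1, 2, 1, 3, 1, 3, 10, 12, 10, 9, 7, 9, 7, 9, 8, 9, 5, 5, 5, 4, 6, 6, 4, 6, 6, 6, 6, 2, 1, 3, 1, 2, 1, 2, 1, 3, 1, 3, 1, 2, 1, 2, 1]) (.leaf 9 10 [1, 2, 1, 2, 1, 2, 1, 2, 1, 2, 1, 2, 1, 2, 1, 2, 1, 2, 1, 2, 1, 2]))) (.node 52 (.node 51 (.leaf 35 16 [2, 1, 3, 1, 3, 1, 2, 1, 3, 1, 3, 1, 3, 1, 2, 1, 3, 12, 12, 10, 11, 10, 12, 12, 9, 8, 9, 7, 9,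 8, 9, 8, 9, 5, 5, 4, 6, 6, 4, 6, 6, 2, 1, 2, 1, 3, 1, 2, 1, 2, 1, 3, 1, 3, 1, 3, 1]) (.leaf 36 16 [2, 1, 3, 1, 3, 1, 2, 1, 3, 1, 2, 1, 2, 1, 2, 1, 3, 11, 10, 12, 9, 8, 9, 7, 9, 8, 4, 5, 4, 5, 4, 6, 6, 6, 2, 1, 3, 1, 2, 1, 2, 1, 3, 1, 3, 1, 3, 1, 3, 1])) (.node 53 (.leaf 37 16 [2, 1, 2, 1, 3, 1, 3, 1, 3, 1, 2, 1, 3, 1, 2, 1, 3, 10, 12, 10, 11, 10, 12, 8, 9, 7, 9, 8, 9, 8, 9, 8, 9, 7, 9, 4, 6, 4, 5, 4, 6, 6, 6, 4, 5, 5, 3, 1, 3, 1, 2, 1, 2, 1, 2, 1, 2, 1, 3, 1, 2, 1]) (.leaf 9 11 [2, 1, 2, 1, 2, 1, 2, 1, 2, 1, 2, 1, 2, 1, 2, 1, 2, 1, 2, 1, 2, 1])))) (.node 58 (.node 56 (.node 55 (.leaf 38 16 [2, 1, 2, 1, 2, 1, 3, 1, 2, 1, 2, 1, 2, 1, 3, 1, 3,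 10, 11, 10, 12, 12, 12, 10, 11, 9, 8, 9, 8, 9, 7, 9, 7, 5, 5, 4, 5, 5, 4, 6, 6, 4, 6, 6, 2, 1, 3, 1, 2, 1, 3, 1, 2, 1, 2, 1, 3, 1, 3, 1]) (.leaf 9 16 [1, 2, 1, 2, 1, 2, 1, 2, 1, 2, 1, 2, 1, 2, 1, 2, 1, 2, 1, 2, 1, 2])) (.node 57 (.leaf 39 16 [2, 1, 2, 1, 3, 1, 2, 1, 2, 1, 2, 1, 3, 1, 2, 1, 2, 10, 11, 11, 10, 12, 10, 11, 9, 7, 9, 8, 9, 7, 9, 8, 9, 7, 9, 7, 9, 7, 9, 8, 4, 5, 4, 5, 5, 5, 4, 5, 5, 5, 3, 1, 2, 1, 3, 1, 2, 1, 2, 1, 3, 1, 3, 1, 2, 1]) (.leaf 40 16 [2, 1, 2, 1, 3, 1, 2, 1, 2, 1, 3, 1, 3, 1, 3, 1, 2, 10, 12, 10, 11, 11, 11, 10, 9, 8, 9, 8, 9, 8, 9, 7, 9, 7, 9, 7, 9, 7, 9, 8, 4, 5, 4, 5, 4, 6, 4, 6, 3, 1, 2, 1, 3, 1, 3, 1, 2, 1, 2, 1,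 2, 1, 3, 1]))) (.node 60 (.node 59 (.leaf 9 17 [2, 1, 2, 1, 2, 1, 2, 1, 2, 1, 2, 1, 2, 1, 2, 1, 2, 1, 2, 1, 2, 1]) (.leaf 41 16 [2, 1, 3, 1, 3, 1, 2, 1, 2, 1, 2, 1, 2, 1, 3, 1, 3, 12, 12, 12, 12, 12, 12, 8, 9, 7, 9, 7, 9, 7, 9, 8, 9, 7, 9, 8, 9, 7, 9, 8, 9, 5, 5, 5, 4, 5, 5, 5, 4, 6, 6, 3, 1, 2, 1, 3, 1, 2, 1, 3, 1, 3, 1, 3, 1, 2, 1])) (.node 61 (.leaf 42 17 [1, 2, 1, 3, 1, 3, 1, 2, 1, 2, 1, 3, 1, 3, 1, 3, 1, 3, 10, 8, 9, 8, 9, 7, 9, 7, 9, 7, 9, 4, 5, 4, 5, 5, 5, 4, 6, 4, 3, 1, 2, 1, 2, 1, 2, 1, 2, 1, 3, 1, 3, 1, 3, 1, 2]) (.leaf 9 13 [2, 1, 2, 1, 2, 1, 2, 1, 2, 1, 2, 1, 2, 1, 2, 1, 2, 1, 2, 1, 2, 1]))))))) (.node 93 (.node 77 (.node 69 (.node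 65 (.node 63 (.leaf 43 17 [1, 2, 1, 3, 1, 3, 1, 2, 1, 2, 1, 3, 1, 2, 1, 3, 1, 3, 11, 11, 11, 10, 12, 9, 7, 9, 7, 9, 7, 9, 8, 9, 7, 9, 8, 9, 7, 9, 8, 9, 7, 6, 4, 6, 6, 2, 1, 2, 1, 2, 1, 2, 1, 2, 1, 3, 1, 3, 1, 3, 1, 3]) (.node 64 (.leaf 10 3 [3, 1, 3, 1, 3, 1, 3, 1, 3, 1, 3, 1, 3, 1, 3, 1, 3, 1, 3, 1, 3, 1]) (.leaf 11 4 [2, 2, 1, 2, 2, 1, 2, 2, 1, 2, 2, 1, 2, 2, 1, 2, 2, 1, 2, 2, 1, 2, 2, 1, 2, 2, 1, 2, 2, 1, 2, 2, 1]))) (.node 67 (.node 66 (.leaf 9 4 [1, 2, 1, 2, 1, 2, 1, 2, 1, 2, 1, 2, 1, 2, 1, 2, 1, 2, 1, 2, 1, 2]) (.leaf 44 17 [1, 2, 1, 3, 1, 3, 1, 2, 1, 2, 1, 2, 1, 3, 1, 2, 1, 2, 10, 11, 11, 11, 8, 9, 7, 9, 8, 9, 7, 9, 8, 9, 8, 9, 7, 9,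 8, 9, 7, 9, 7, 4, 5, 4, 5, 4, 5, 5, 4, 5, 5, 2, 1, 2, 1, 3, 1, 3, 1, 2, 1, 2, 1, 3, 1, 2, 1, 2])) (.node 68 (.leaf 9 9 [2, 1, 2, 1, 2, 1, 2, 1, 2, 1, 2, 1, 2, 1, 2, 1, 2, 1, 2, 1, 2, 1]) (.leaf 12 13 [3, 3, 1, 3, 3, 1, 3, 3, 1, 3, 3, 1, 3, 3, 1, 3, 3, 1, 3, 3, 1, 3, 3, 1, 3, 3, 1, 3, 3, 1, 3, 3, 1])))) (.node 73 (.node 71 (.node 70 (.leaf 45 17 [1, 2, 1, 2, 1, 2, 1, 3, 1, 3, 1, 2, 1, 2, 1, 2, 1, 3, 11, 11, 10, 12, 10, 11, 10, 12, 12, 8, 9, 7, 9, 8, 9, 7, 9, 8, 9, 8, 9, 7, 9, 8, 4, 6, 6, 6, 6, 4, 5, 4, 3, 1, 2, 1, 3, 1, 3, 1, 2, 1, 3, 1, 3, 1, 3, 1, 2]) (.leaf 46 17 [1, 3, 1, 3, 1, 2, 1, 2, 1, 2, 1, 3, 1, 2, 1, 3, 1, 3, 11, 11, 10, 12, 10, 11,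 9, 8, 9, 7, 9, 7, 9, 7, 9, 8, 9, 8, 6, 4, 5, 5, 5, 5, 5, 5, 2, 1, 3, 1, 3, 1, 2, 1, 3, 1, 3, 1, 2, 1, 2, 1, 3])) (.node 72 (.leaf 10 13 [3, 1, 3, 1, 3, 1, 3, 1, 3, 1, 3, 1, 3, 1, 3, 1, 3, 1, 3, 1, 3, 1]) (.leaf 47 17 [1, 3, 1, 3, 1, 3, 1, 2, 1, 2, 1, 3, 1, 3, 1, 3, 1, 3, 10, 12, 12, 10, 11, 10, 12, 9, 7, 9, 7, 9, 8, 9, 8, 9, 7, 9, 7, 9, 8, 9, 8, 9, 7, 9, 8, 4, 5, 4, 5, 5, 4, 6, 4, 2, 1, 3, 1, 2, 1, 2, 1, 2, 1, 2, 1, 3, 1, 2, 1, 3]))) (.node 75 (.node 74 (.leaf 10 15 [3, 1, 3, 1, 3, 1, 3, 1, 3, 1, 3, 1, 3, 1, 3, 1, 3, 1, 3, 1, 3, 1]) (.leaf 48 17 [1, 2, 1, 3, 1, 3, 1, 2, 1, 2, 1, 3, 1, 2, 1, 3, 1, 2, 12, 12, 10, 11, 11, 10, 9, 7, 9, 8, 9, 7,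 9, 8, 9, 8, 9, 8, 9, 7, 9, 6, 4, 6, 4, 5, 5, 3, 1, 3, 1, 3, 1, 2, 1, 2, 1, 2, 1, 3, 1, 3, 1, 2])) (.node 76 (.leaf 49 17 [1, 2, 1, 3, 1, 2, 1, 2, 1, 2, 1, 3, 1, 2, 1, 2, 1, 2, 11, 10, 12, 10, 11, 10, 8, 9, 8, 9, 7, 9, 8, 9, 7, 9, 7, 9, 8, 9, 4, 5, 4, 6, 6, 6, 6, 4, 6, 3, 1, 2, 1, 2, 1, 2, 1, 3, 1, 3, 1, 2, 1, 2, 1, 3]) (.leaf 50 17 [1, 3, 1, 2, 1, 3, 1, 3, 1, 2, 1, 2, 1, 2, 1, 3, 1, 3, 11, 10, 12, 12, 12, 9, 7, 9, 7, 9, 8, 9, 8, 9, 7, 9, 8, 9, 7, 4, 5, 4, 6, 6, 4, 5, 5, 5, 5, 3, 1, 2, 1, 3, 1, 2, 1, 3, 1, 2, 1, 3, 1, 2, 1, 2]))))) (.node 85 (.node 81 (.node 79 (.node 78 (.leaf 51 17 [1, 2, 1, 3, 1, 2, 1, 2, 1, 2, 1, 3, 1, 3, 1, 3, 1, 3, 10,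 12, 10, 11, 11, 11, 10, 12, 9, 8, 9, 8, 9, 7, 9, 7, 9, 8, 9, 7, 9, 8, 9, 4, 6, 4, 5, 4, 6, 4, 5, 4, 2, 1, 3, 1, 2, 1, 3, 1, 3, 1, 2, 1, 2, 1, 3, 1, 2]) (.leaf 52 17 [1, 2, 1, 3, 1, 2, 1, 3, 1, 2, 1, 3, 1, 3, 1, 2, 1, 3, 10, 11, 10, 12, 12, 12, 10, 11, 9, 7, 9, 8, 9, 4, 6, 6, 4, 6, 6, 4, 5, 4, 5, 5, 2, 1, 3, 1, 3, 1, 2, 1, 3, 1, 3, 1, 3, 1, 3, 1, 2])) (.node 80 (.leaf 9 6 [1, 2, 1, 2, 1, 2, 1, 2, 1, 2, 1, 2, 1, 2, 1, 2, 1, 2, 1, 2, 1, 2]) (.leaf 53 17 [1, 3, 1, 2, 1, 2, 1, 2, 1, 3, 1, 2, 1, 3, 1, 3, 1, 3, 10, 11, 10, 12, 10, 11, 11, 10, 8, 9, 8, 9, 7, 9, 7, 9, 7, 9, 7, 9, 7, 4, 6, 6, 6, 4, 6, 4, 6, 6, 2, 1, 2, 1, 2, 1, 3, 1, 2, 1, 3, 1, 3, 1,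 3, 1, 2]))) (.node 83 (.node 82 (.leaf 54 17 [1, 3, 1, 2, 1, 2, 1, 3, 1, 2, 1, 2, 1, 2, 1, 2, 1, 3, 11, 10, 12, 12, 12, 9, 8, 9, 8, 9, 7, 9, 8, 9, 7, 9, 7, 9, 7, 5, 5, 4, 5, 5, 5, 5, 4, 6, 2, 1, 3, 1, 3, 1, 3, 1, 3, 1, 2, 1, 3, 1, 3, 1, 2]) (.leaf 55 17 [1, 2, 1, 2, 1, 3, 1, 3, 1, 2, 1, 3, 1, 3, 1, 3, 1, 2, 10, 11, 11, 10, 9, 8, 9, 8, 9, 7, 9, 8, 9, 8, 9, 8, 9, 4, 5, 4, 6, 4, 5, 4, 6, 6, 6, 3, 1, 3, 1, 3, 1, 2, 1, 2, 1, 3, 1, 3, 1, 3, 1, 3])) (.node 84 (.leaf 11 5 [2, 1, 2, 2, 1, 2, 2, 1, 2, 2, 1, 2, 2, 1, 2, 2, 1, 2, 2, 1, 2, 2, 1, 2, 2, 1, 2, 2, 1, 2, 2, 1, 2]) (.leaf 56 17 [1, 2, 1, 3, 1, 2, 1, 2, 1, 3, 1, 3, 1, 2, 1, 3, 1, 3, 10, 11, 11,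 11, 11, 9, 7, 9, 8, 9, 8, 9, 7, 9, 8, 9, 7, 9, 8, 9, 8, 6, 6, 6, 4, 6, 4, 5, 3, 1, 2, 1, 3, 1, 2, 1, 2, 1, 3, 1, 3, 1, 3, 1, 2])))) (.node 89 (.node 87 (.node 86 (.leaf 12 20 [3, 1, 3, 3, 1, 3, 3, 1, 3, 3, 1, 3, 3, 1, 3, 3, 1, 3, 3, 1, 3, 3, 1, 3, 3, 1, 3, 3, 1, 3, 3, 1, 3]) (.leaf 57 17 [1, 3, 1, 2, 1, 2, 1, 3, 1, 2, 1, 2, 1, 3, 1, 2, 1, 3, 12, 12, 12, 12, 12, 12, 9, 7, 9, 8, 9, 8, 9, 7, 9, 8, 9, 7, 9, 8, 9, 7, 4, 6, 6, 4, 5, 4, 6, 3, 1, 3, 1, 3, 1, 2, 1, 3, 1, 3, 1, 3, 1, 2, 1, 2])) (.node 88 (.leaf 58 17 [1, 3, 1, 2, 1, 2, 1, 3, 1, 3, 1, 2, 1, 2, 1, 2, 1, 2, 10, 12, 10, 11, 11, 11, 10, 9, 8, 9, 7, 9, 7, 9, 8, 9, 7, 9, 7, 9, 7, 9, 5, 4, 6,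 4, 5, 5, 4, 6, 4, 6, 2, 1, 3, 1, 2, 1, 2, 1, 3, 1, 2, 1, 3, 1, 2, 1, 2]) (.leaf 59 17 [1, 2, 1, 2, 1, 2, 1, 3, 1, 2, 1, 3, 1, 3, 1, 3, 1, 2, 10, 8, 9, 7, 9, 8, 9, 7, 9, 7, 9, 7, 9, 7, 5, 4, 5, 5, 5, 5, 5, 4, 6, 3, 1, 2, 1, 2, 1, 2, 1, 3, 1, 2, 1, 3, 1, 3, 1, 3]))) (.node 91 (.node 90 (.leaf 60 17 [1, 2, 1, 3, 1, 2, 1, 3, 1, 2, 1, 3, 1, 3, 1, 3, 1, 2, 10, 11, 10, 12, 12, 8, 9, 7, 9, 8, 9, 8, 9, 7, 9, 8, 9, 8, 9, 8, 9, 7, 4, 5, 4, 5, 4, 5, 3, 1, 2, 1, 2, 1, 2, 1, 3, 1, 2, 1, 3, 1, 2, 1, 3]) (.leaf 61 17 [1, 3, 1, 2, 1, 2, 1, 3, 1, 2, 1, 2, 1, 3, 1, 2, 1, 2, 10, 11, 11, 11, 10, 12, 10, 9, 8, 9, 8, 9, 8, 9, 7, 9, 8, 9, 8, 9, 7, 9, 8, 5, 5, 4, 6,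 4, 5, 5, 3, 1, 3, 1, 2, 1, 3, 1, 3, 1, 2, 1, 3, 1, 3, 1, 2])) (.node 92 (.leaf 62 17 [1, 3, 1, 2, 1, 3, 1, 2, 1, 2, 1, 2, 1, 3, 1, 3, 1, 3, 11, 11, 10, 12, 10, 11, 9, 7, 9, 8, 9, 7, 9, 7, 9, 8, 9, 8, 9, 7, 9, 7, 6, 6, 4, 6, 6, 4, 6, 2, 1, 2, 1, 2, 1, 3, 1, 3, 1, 2, 1, 3, 1, 2, 1, 2]) (.leaf 63 17 [1, 3, 1, 3, 1, 2, 1, 3, 1, 3, 1, 2, 1, 2, 1, 2, 1, 2, 12, 10, 9, 7, 9, 7, 9, 7, 9, 8, 9, 8, 9, 7, 9, 8, 9, 8, 9, 7, 9, 4, 5, 4, 5, 5, 5, 4, 6, 4, 5, 4, 3, 1, 3, 1, 3, 1, 2, 1, 2, 1, 2, 1, 2, 1, 3, 1, 3])))))) (.node 108 (.node 100 (.node 96 (.node 94 (.leaf 11 16 [2, 2, 1, 2, 2, 1, 2, 2, 1, 2, 2, 1, 2, 2, 1, 2, 2, 1, 2, 2, 1, 2, 2, 1, 2, 2, 1, 2, 2,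 1, 2, 2, 1]) (.node 95 (.leaf 64 17 [1, 2, 1, 2, 1, 3, 1, 2, 1, 2, 1, 2, 1, 3, 1, 3, 1, 3, 10, 11, 10, 12, 10, 11, 10, 9, 7, 9, 7, 9, 7, 9, 7, 9, 8, 9, 8, 9, 8, 9, 7, 9, 7, 4, 6, 4, 5, 5, 2, 1, 2, 1, 2, 1, 3, 1, 3, 1, 2, 1, 2, 1, 3, 1, 2]) (.leaf 9 15 [2, 1, 2, 1, 2, 1, 2, 1, 2, 1, 2, 1, 2, 1, 2, 1, 2, 1, 2, 1, 2, 1]))) (.node 98 (.node 97 (.leaf 65 17 [1, 3, 1, 2, 1, 2, 1, 2, 1, 3, 1, 3, 1, 3, 1, 2, 1, 3, 10, 11, 11, 10, 12, 10, 9, 8, 9, 7, 9, 8, 9, 7, 9, 7, 9, 8, 9, 8, 6, 6, 6, 4, 5, 5, 4, 6, 6, 3, 1, 3, 1, 2, 1, 3, 1, 3, 1, 2, 1, 3, 1, 2, 1, 2]) (.leaf 9 3 [2, 1, 2, 1, 2, 1, 2, 1, 2, 1, 2, 1, 2, 1, 2, 1, 2, 1, 2, 1, 2, 1])) (.node 99 (.leaf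 12 4 [3, 3, 1, 3, 3, 1, 3, 3, 1, 3, 3, 1, 3, 3, 1, 3, 3, 1, 3, 3, 1, 3, 3, 1, 3, 3, 1, 3, 3, 1, 3, 3, 1]) (.leaf 11 3 [1, 2, 2, 1, 2, 2, 1, 2, 2, 1, 2, 2, 1, 2, 2, 1, 2, 2, 1, 2, 2, 1, 2, 2, 1, 2, 2, 1, 2, 2, 1, 2, 2])))) (.node 104 (.node 102 (.node 101 (.leaf 66 18 [2, 1, 3, 1, 2, 1, 2, 1, 2, 1, 2, 1, 3, 1, 3, 1, 3, 1, 2, 11, 10, 12, 12, 10, 8, 9, 7, 9, 8, 9, 8, 9, 8, 9, 7, 9, 8, 9, 8, 9, 7, 9, 6, 4, 5, 4, 6, 4, 3, 1, 3, 1, 3, 1, 2, 1, 3, 1, 2, 1, 2, 1, 2, 1, 3, 1]) (.leaf 67 18 [2, 1, 2, 1, 2, 1, 3, 1, 2, 1, 2, 1, 2, 1, 2, 1, 3, 1, 3, 12, 10, 11, 11, 11, 10, 12, 9, 7, 9, 7, 9, 7, 9, 7, 9, 8, 9, 8, 9, 8, 6, 4, 5, 4, 6, 4, 5, 3, 1, 2, 1, 3,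 1, 3, 1, 2, 1, 3, 1, 3, 1, 3, 1, 3, 1])) (.node 103 (.leaf 68 18 [2, 1, 3, 1, 3, 1, 3, 1, 3, 1, 2, 1, 2, 1, 2, 1, 3, 1, 3, 12, 10, 11, 10, 9, 8, 9, 8, 9, 8, 9, 7, 9, 8, 9, 7, 9, 8, 9, 4, 6, 4, 6, 4, 6, 4, 5, 5, 4, 6, 6, 2, 1, 2, 1, 3, 1, 3, 1, 2, 1, 3, 1, 3, 1, 3, 1, 2, 1]) (.leaf 69 18 [2, 1, 3, 1, 3, 1, 2, 1, 3, 1, 2, 1, 3, 1, 2, 1, 2, 1, 2, 10, 12, 12, 10, 9, 8, 9, 7, 9, 8, 9, 8, 9, 8, 4, 6, 4, 6, 4, 5, 5, 5, 5, 5, 2, 1, 2, 1, 2, 1, 3, 1, 3, 1, 2, 1, 2, 1, 2, 1, 3, 1]))) (.node 106 (.node 105 (.leaf 11 24 [1, 2, 2, 1, 2, 2, 1, 2, 2, 1, 2, 2, 1, 2, 2, 1, 2, 2, 1, 2, 2, 1, 2, 2, 1, 2, 2, 1, 2, 2, 1, 2, 2]) (.leaf 70 18 [2, 1, 3, 1, 3, 1, 3,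 1, 2, 1, 2, 1, 3, 1, 3, 1, 3, 1, 2, 7, 5, 4, 5, 4, 5, 4, 5, 4, 5, 4, 3, 1, 3, 1, 2, 1, 2, 1, 2, 1, 2, 1, 3, 1, 3, 1, 3, 1])) (.node 107 (.leaf 11 30 [1, 2, 2, 1, 2, 2, 1, 2, 2, 1, 2, 2, 1, 2, 2, 1, 2, 2, 1, 2, 2, 1, 2, 2, 1, 2, 2, 1, 2, 2, 1, 2, 2]) (.leaf 71 18 [2, 1, 3, 1, 3, 1, 2, 1, 3, 1, 2, 1, 2, 1, 3, 1, 2, 1, 3, 12, 12, 12, 12, 10, 9, 7, 9, 7, 9, 8, 9, 8, 9, 7, 9, 8, 9, 4, 6, 4, 6, 6, 6, 4, 6, 4, 5, 2, 1, 3, 1, 3, 1, 2, 1, 3, 1, 2, 1, 3, 1, 3, 1, 2, 1]))))) (.node 116 (.node 112 (.node 110 (.node 109 (.leaf 72 18 [2, 1, 3, 1, 3, 1, 3, 1, 2, 1, 3, 1, 3, 1, 2, 1, 2, 1, 2, 10, 11, 10, 12, 10, 11, 11, 11, 9, 8, 9, 8, 9, 8, 9, 7, 9, 5, 4,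 6, 4, 6, 4, 6, 6, 2, 1, 2, 1, 3, 1, 3, 1, 3, 1, 2, 1, 3, 1, 3, 1, 2, 1]) (.leaf 73 18 [2, 1, 3, 1, 2, 1, 3, 1, 3, 1, 2, 1, 2, 1, 2, 1, 3, 1, 2, 10, 11, 10, 12, 12, 12, 10, 11, 9, 7, 9, 8, 9, 7, 9, 8, 9, 7, 9, 8, 9, 7, 9, 7, 9, 6, 6, 6, 4, 6, 4, 5, 4, 6, 4, 5, 3, 1, 3, 1, 3, 1, 3, 1, 2, 1, 2, 1, 2, 1, 2, 1, 3, 1])) (.node 111 (.leaf 74 18 [2, 1, 3, 1, 2, 1, 3, 1, 3, 1, 2, 1, 3, 1, 2, 1, 2, 1, 3, 12, 10, 11, 11, 11, 9, 8, 9, 7, 9, 7, 9, 8, 9, 7, 9, 7, 9, 7, 9, 4, 6, 6, 6, 4, 6, 4, 2, 1, 3, 1, 3, 1, 2, 1, 3, 1, 3, 1, 2, 1, 2, 1, 2, 1]) (.leaf 75 18 [2, 1, 2, 1, 2, 1, 3, 1, 3, 1, 2, 1, 3, 1, 3, 1, 2, 1, 3, 10, 12, 12, 12, 12, 12, 8, 9, 7, 9, 8,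 9, 7, 9, 8, 9, 8, 9, 7, 9, 7, 9, 7, 9, 8, 9, 4, 5, 5, 4, 6, 6, 6, 4, 6, 2, 1, 2, 1, 3, 1, 2, 1, 3, 1, 2, 1, 3, 1, 2, 1, 3, 1]))) (.node 114 (.node 113 (.leaf 11 11 [2, 1, 2, 2, 1, 2, 2, 1, 2, 2, 1, 2, 2, 1, 2, 2, 1, 2, 2, 1, 2, 2, 1, 2, 2, 1, 2, 2, 1, 2, 2, 1, 2]) (.leaf 76 18 [2, 1, 3, 1, 2, 1, 3, 1, 3, 1, 3, 1, 2, 1, 2, 1, 2, 1, 2, 10, 11, 11, 10, 8, 9, 8, 9, 8, 9, 7, 9, 7, 9, 7, 9, 7, 4, 5, 4, 6, 4, 6, 6, 6, 2, 1, 3, 1, 2, 1, 3, 1, 2, 1, 2, 1, 2, 1, 3, 1, 2, 1])) (.node 115 (.leaf 77 18 [2, 1, 2, 1, 3, 1, 3, 1, 3, 1, 2, 1, 2, 1, 2, 1, 3, 1, 3, 12, 12, 10, 11, 11, 9, 7, 9, 8, 9, 8, 9, 8, 9, 8, 9, 8, 9, 7, 5, 4, 6, 6, 4, 5, 4, 5, 4, 6, 6, 4,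 2, 1, 3, 1, 2, 1, 2, 1, 2, 1, 2, 1, 3, 1, 3, 1, 3, 1]) (.leaf 9 0 [1, 2, 1, 2, 1, 2, 1, 2, 1, 2, 1, 2, 1, 2, 1, 2, 1, 2, 1, 2, 1, 2])))) (.node 120 (.node 118 (.node 117 (.leaf 78 18 [2, 1, 2, 1, 2, 1, 3, 1, 2, 1, 3, 1, 3, 1, 3, 1, 2, 1, 3, 10, 12, 10, 11, 10, 12, 12, 8, 9, 8, 9, 7, 9, 7, 9, 7, 9, 7, 9, 8, 9, 7, 9, 5, 5, 5, 5, 5, 4, 5, 4, 6, 6, 3, 1, 2, 1, 3, 1, 2, 1, 3, 1, 2, 1, 2, 1, 2, 1, 3, 1]) (.leaf 9 18 [1, 2, 1, 2, 1, 2, 1, 2, 1, 2, 1, 2, 1, 2, 1, 2, 1, 2, 1, 2, 1, 2])) (.node 119 (.leaf 79 18 [2, 1, 2, 1, 2, 1, 3, 1, 2, 1, 3, 1, 2, 1, 2, 1, 3, 1, 2, 10, 12, 12, 10, 11, 11, 10, 9, 7, 9, 8, 9, 8, 9, 8, 9, 8, 9, 8, 9, 7, 9, 7, 4, 6, 6,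 6, 6, 4, 6, 4, 6, 2, 1, 3, 1, 2, 1, 3, 1, 3, 1, 2, 1, 2, 1, 2, 1, 3, 1]) (.leaf 80 18 [2, 1, 2, 1, 3, 1, 3, 1, 2, 1, 3, 1, 3, 1, 3, 1, 3, 1, 2, 10, 11, 10, 12, 10, 11, 10, 12, 10, 8, 9, 7, 9, 7, 9, 7, 9, 7, 9, 7, 9, 7, 5, 5, 4, 5, 5, 5, 4, 5, 4, 6, 3, 1, 3, 1, 2, 1, 3, 1, 3, 1, 2, 1, 3, 1, 3, 1, 3, 1]))) (.node 122 (.node 121 (.leaf 11 6 [1, 2, 2, 1, 2, 2, 1, 2, 2, 1, 2, 2, 1, 2, 2, 1, 2, 2, 1, 2, 2, 1, 2, 2, 1, 2, 2, 1, 2, 2, 1, 2, 2]) (.leaf 81 18 [2, 1, 2, 1, 3, 1, 2, 1, 3, 1, 3, 1, 2, 1, 2, 1, 3, 1, 3, 11, 11, 11, 10, 12, 10, 8, 9, 8, 9, 8, 9, 7, 9, 8, 9, 8, 5, 4, 6, 4, 5, 5, 5, 3, 1, 3, 1, 3, 1, 3, 1, 2, 1, 2, 1, 3, 1, 2, 1, 3, 1])) (.node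 123 (.leaf 82 18 [2, 1, 2, 1, 3, 1, 3, 1, 3, 1, 2, 1, 2, 1, 2, 1, 3, 1, 2, 12, 10, 11, 10, 12, 10, 11, 9, 8, 9, 8, 9, 7, 9, 8, 9, 8, 9, 7, 9, 8, 9, 7, 9, 5, 4, 5, 5, 5, 4, 2, 1, 2, 1, 2, 1, 2, 1, 2, 1, 3, 1, 3, 1, 2, 1, 2, 1]) (.leaf 83 18 [2, 1, 3, 1, 2, 1, 3, 1, 2, 1, 2, 1, 2, 1, 2, 1, 3, 1, 3, 11, 10, 12, 8, 9, 7, 9, 7, 9, 7, 9, 8, 9, 7, 9, 8, 9, 7, 9, 5, 4, 5, 5, 5, 4, 6, 6, 6, 6, 2, 1, 2, 1, 3, 1, 2, 1, 3, 1, 2, 1, 3, 1, 3, 1, 3, 1])))))))) (.node 186 (.node 155 (.node 139 (.node 131 (.node 127 (.node 125 (.leaf 84 18 [2, 1, 2, 1, 2, 1, 3, 1, 3, 1, 2, 1, 2, 1, 3, 1, 3, 1, 3, 10, 12, 12, 10, 11, 11, 10, 12, 12, 9, 8, 9, 7, 9, 8, 9, 7, 9,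 7, 9, 8, 9, 8, 6, 6, 6, 6, 6, 6, 4, 6, 6, 2, 1, 2, 1, 3, 1, 3, 1, 2, 1, 3, 1, 3, 1, 3, 1, 3, 1]) (.node 126 (.leaf 85 18 [2, 1, 3, 1, 2, 1, 2, 1, 2, 1, 3, 1, 2, 1, 2, 1, 2, 1, 3, 11, 11, 10, 12, 10, 9, 7, 9, 8, 9, 7, 9, 7, 9, 8, 9, 7, 9, 7, 9, 7, 9, 4, 6, 6, 6, 4, 6, 6, 4, 5, 2, 1, 2, 1, 3, 1, 2, 1, 3, 1, 3, 1, 3, 1, 3, 1, 2, 1]) (.leaf 86 18 [2, 1, 3, 1, 3, 1, 3, 1, 2, 1, 3, 1, 2, 1, 3, 1, 2, 1, 3, 10, 11, 11, 10, 12, 12, 12, 9, 8, 9, 8, 9, 5, 5, 5, 5, 4, 5, 2, 1, 3, 1, 3, 1, 2, 1, 3, 1, 3, 1, 2, 1, 3, 1, 3, 1]))) (.node 129 (.node 128 (.leaf 87 18 [2, 1, 2, 1, 3, 1, 3, 1, 3, 1, 2, 1, 3, 1, 2, 1, 2, 1, 3, 10, 12, 12, 10, 11, 11, 9, 8, 9, 8,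 9, 7, 9, 8, 9, 8, 9, 7, 9, 8, 9, 7, 4, 5, 5, 5, 5, 4, 6, 4, 3, 1, 2, 1, 3, 1, 2, 1, 3, 1, 2, 1, 2, 1, 3, 1, 2, 1]) (.leaf 88 19 [1, 2, 1, 2, 1, 2, 1, 3, 1, 3, 1, 2, 1, 3, 1, 2, 1, 3, 1, 3, 11, 11, 11, 10, 12, 12, 8, 9, 8, 9, 8, 9, 7, 9, 7, 9, 8, 9, 8, 9, 8, 5, 4, 5, 5, 4, 6, 6, 3, 1, 2, 1, 3, 1, 3, 1, 2, 1, 2, 1, 3, 1, 3, 1, 3, 1, 3])) (.node 130 (.leaf 89 19 [1, 3, 1, 2, 1, 3, 1, 2, 1, 3, 1, 2, 1, 2, 1, 2, 1, 2, 1, 3, 10, 12, 12, 12, 12, 9, 8, 9, 8, 9, 7, 9, 7, 9, 8, 9, 8, 9, 6, 4, 5, 4, 6, 4, 6, 3, 1, 2, 1, 3, 1, 3, 1, 2, 1, 3, 1, 2, 1, 2, 1, 2, 1, 3]) (.leaf 90 19 [1, 2, 1, 2, 1, 3, 1, 2, 1, 3, 1, 2, 1, 3, 1, 2, 1, 2, 1, 2, 10, 12, 10, 9,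 7, 9, 7, 9, 7, 9, 7, 9, 8, 9, 7, 9, 8, 9, 7, 5, 4, 5, 5, 5, 5, 5, 4, 3, 1, 3, 1, 3, 1, 2, 1, 3, 1, 2, 1, 3, 1, 2, 1, 3, 1, 3])))) (.node 135 (.node 133 (.node 132 (.leaf 91 19 [1, 3, 1, 2, 1, 2, 1, 2, 1, 3, 1, 3, 1, 2, 1, 2, 1, 3, 1, 2, 12, 10, 11, 11, 10, 12, 12, 9, 8, 9, 7, 9, 8, 9, 7, 9, 7, 9, 7, 9, 7, 9, 8, 9, 7, 4, 6, 6, 4, 5, 4, 5, 5, 2, 1, 2, 1, 2, 1, 3, 1, 3, 1, 2, 1, 2, 1, 2, 1, 2, 1, 3]) (.leaf 12 25 [3, 3, 1, 3, 3, 1, 3, 3, 1, 3, 3, 1, 3, 3, 1, 3, 3, 1, 3, 3, 1, 3, 3, 1, 3, 3, 1, 3, 3, 1, 3, 3, 1])) (.node 134 (.leaf 92 19 [1, 3, 1, 3, 1, 2, 1, 2, 1, 2, 1, 2, 1, 3, 1, 2, 1, 2, 1, 2, 11, 10, 12, 12, 10, 11, 11, 10, 12, 9, 7, 9, 7,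 9, 7, 9, 7, 9, 8, 9, 8, 9, 8, 9, 5, 4, 6, 6, 4, 5, 4, 5, 4, 6, 6, 3, 1, 3, 1, 3, 1, 2, 1, 3, 1, 3, 1, 3, 1, 3, 1, 2, 1, 2]) (.leaf 93 19 [1, 3, 1, 2, 1, 3, 1, 2, 1, 2, 1, 2, 1, 3, 1, 3, 1, 2, 1, 3, 10, 11, 11, 10, 12, 10, 11, 8, 9, 7, 9, 8, 9, 8, 9, 7, 9, 8, 9, 7, 9, 7, 9, 5, 4, 6, 4, 5, 5, 5, 3, 1, 2, 1, 3, 1, 3, 1, 2, 1, 3, 1, 2, 1, 2, 1, 3, 1, 3]))) (.node 137 (.node 136 (.leaf 94 19 [1, 3, 1, 3, 1, 2, 1, 2, 1, 2, 1, 2, 1, 3, 1, 2, 1, 3, 1, 2, 10, 12, 12, 10, 11, 10, 8, 9, 8, 9, 7, 9, 8, 9, 8, 9, 8, 9, 8, 9, 8, 9, 7, 9, 4, 6, 4, 5, 4, 6, 6, 4, 3, 1, 3, 1, 3, 1, 2, 1, 2, 1, 3, 1, 2, 1, 2, 1, 3, 1, 3]) (.leaf 11 17 [2, 1, 2, 2, 1, 2, 2, 1,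 2, 2, 1, 2, 2, 1, 2, 2, 1, 2, 2, 1, 2, 2, 1, 2, 2, 1, 2, 2, 1, 2, 2, 1, 2])) (.node 138 (.leaf 95 19 [1, 2, 1, 3, 1, 2, 1, 3, 1, 3, 1, 2, 1, 3, 1, 3, 1, 2, 1, 3, 11, 11, 10, 12, 12, 12, 10, 11, 9, 7, 9, 7, 9, 8, 9, 7, 9, 7, 9, 7, 9, 8, 9, 7, 9, 8, 4, 6, 4, 5, 4, 5, 4, 6, 4, 2, 1, 3, 1, 2, 1, 2, 1, 3, 1, 3, 1, 2, 1, 3, 1, 3, 1, 2]) (.leaf 96 19 [1, 3, 1, 3, 1, 2, 1, 3, 1, 2, 1, 2, 1, 3, 1, 3, 1, 2, 1, 2, 12, 12, 12, 10, 8, 9, 8, 9, 7, 9, 8, 9, 8, 9, 8, 9, 8, 9, 7, 9, 7, 6, 6, 4, 5, 3, 1, 2, 1, 3, 1, 3, 1, 3, 1, 3, 1, 2, 1, 2, 1, 2, 1, 3]))))) (.node 147 (.node 143 (.node 141 (.node 140 (.leaf 97 19 [1, 2, 1, 3, 1, 2, 1, 3, 1, 2, 1, 2, 1, 3, 1,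 2, 1, 2, 1, 3, 11, 11, 10, 12, 10, 11, 9, 8, 9, 8, 9, 7, 9, 8, 9, 7, 9, 7, 9, 7, 9, 7, 9, 4, 5, 4, 5, 4, 6, 6, 4, 6, 6, 2, 1, 2, 1, 2, 1, 3, 1, 3, 1, 3, 1, 2, 1, 2, 1, 3, 1, 2]) (.leaf 98 19 [1, 3, 1, 2, 1, 3, 1, 2, 1, 3, 1, 3, 1, 3, 1, 2, 1, 2, 1, 2, 11, 10, 12, 8, 9, 7, 9, 8, 9, 7, 9, 8, 9, 8, 9, 7, 9, 8, 9, 7, 5, 4, 6, 4, 5, 4, 6, 4, 6, 4, 5, 5, 2, 1, 2, 1, 2, 1, 3, 1, 3, 1, 3, 1, 2, 1, 2, 1, 2, 1, 2])) (.node 142 (.leaf 9 2 [1, 2, 1, 2, 1, 2, 1, 2, 1, 2, 1, 2, 1, 2, 1, 2, 1, 2, 1, 2, 1, 2]) (.leaf 99 19 [1, 3, 1, 2, 1, 3, 1, 2, 1, 3, 1, 3, 1, 2, 1, 3, 1, 2, 1, 3, 12, 12, 12, 10, 11, 10, 12, 9, 8, 9, 8, 9, 8, 9, 7, 9, 7, 9, 7, 9, 5, 4, 5,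 4, 5, 4, 5, 4, 5, 5, 4, 2, 1, 3, 1, 2, 1, 3, 1, 2, 1, 3, 1, 3, 1, 3, 1, 2, 1, 3]))) (.node 145 (.node 144 (.leaf 100 19 [1, 2, 1, 3, 1, 2, 1, 3, 1, 2, 1, 3, 1, 3, 1, 3, 1, 3, 1, 3, 10, 11, 11, 11, 10, 12, 12, 9, 7, 9, 7, 9, 7, 9, 7, 4, 5, 5, 5, 5, 5, 4, 6, 6, 4, 5, 2, 1, 2, 1, 2, 1, 2, 1, 2, 1, 3, 1, 2, 1, 3, 1, 2, 1, 3]) (.leaf 101 19 [1, 2, 1, 3, 1, 3, 1, 3, 1, 2, 1, 3, 1, 3, 1, 2, 1, 3, 1, 2, 12, 12, 12, 10, 11, 9, 8, 9, 7, 9, 7, 9, 7, 9, 8, 9, 7, 6, 6, 6, 6, 6, 4, 6, 4, 6, 6, 2, 1, 2, 1, 2, 1, 3, 1, 3, 1, 2, 1, 3, 1, 2, 1, 3, 1, 2])) (.node 146 (.leaf 102 19 [1, 3, 1, 2, 1, 3, 1, 2, 1, 2, 1, 2, 1, 2, 1, 3, 1, 2, 1, 2, 10, 12, 10, 11, 11,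 11, 8, 9, 7, 9, 7, 9, 7, 9, 7, 9, 6, 4, 6, 6, 6, 4, 5, 4, 6, 4, 2, 1, 3, 1, 2, 1, 3, 1, 3, 1, 2, 1, 3, 1, 2, 1, 2, 1, 2]) (.leaf 11 22 [2, 2, 1, 2, 2, 1, 2, 2, 1, 2, 2, 1, 2, 2, 1, 2, 2, 1, 2, 2, 1, 2, 2, 1, 2, 2, 1, 2, 2, 1, 2, 2, 1])))) (.node 151 (.node 149 (.node 148 (.leaf 103 19 [1, 2, 1, 3, 1, 3, 1, 2, 1, 2, 1, 2, 1, 3, 1, 3, 1, 2, 1, 3, 12, 10, 11, 11, 10, 9, 7, 9, 7, 9, 7, 9, 7, 9, 8, 9, 5, 5, 4, 5, 5, 5, 4, 6, 2, 1, 2, 1, 2, 1, 3, 1, 3, 1, 3, 1, 2, 1, 2, 1, 3, 1, 3]) (.leaf 104 19 [1, 2, 1, 3, 1, 2, 1, 2, 1, 2, 1, 2, 1, 3, 1, 2, 1, 3, 1, 2, 12, 10, 11, 11, 10, 12, 9, 7, 9, 7, 9, 7, 9, 7, 9, 8, 9, 6, 6, 6, 6, 4, 6, 4, 6, 6, 6, 4, 3,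 1, 2, 1, 3, 1, 3, 1, 2, 1, 3, 1, 3, 1, 2, 1, 2, 1, 3])) (.node 150 (.leaf 10 5 [3, 1, 3, 1, 3, 1, 3, 1, 3, 1, 3, 1, 3, 1, 3, 1, 3, 1, 3, 1, 3, 1]) (.leaf 11 7 [2, 2, 1, 2, 2, 1, 2, 2, 1, 2, 2, 1, 2, 2, 1, 2, 2, 1, 2, 2, 1, 2, 2, 1, 2, 2, 1, 2, 2, 1, 2, 2, 1]))) (.node 153 (.node 152 (.leaf 70 43 [4, 5, 4, 5, 4, 3, 1, 3, 1, 2, 1, 2, 1, 2, 1, 2, 1, 3, 1, 3, 1, 3, 1, 2, 1, 3, 1, 3, 1, 3, 1, 2, 1, 2, 1, 3, 1, 3, 1, 3, 1, 2, 7, 5, 4, 5, 4, 5]) (.leaf 105 19 [1, 3, 1, 3, 1, 2, 1, 2, 1, 3, 1, 3, 1, 3, 1, 3, 1, 2, 1, 2, 11, 11, 10, 12, 12, 10, 11, 10, 9, 8, 9, 7, 9, 7, 9, 7, 9, 7, 9, 7, 9, 7, 9, 8, 9, 8, 5, 5, 4, 6, 4, 6, 6, 4, 3, 1, 2, 1, 3, 1, 3,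 1, 2, 1, 3, 1, 2, 1, 3, 1, 2, 1, 3])) (.node 154 (.leaf 106 19 [1, 3, 1, 2, 1, 3, 1, 2, 1, 3, 1, 2, 1, 3, 1, 2, 1, 2, 1, 2, 11, 10, 12, 10, 11, 11, 10, 8, 9, 7, 9, 7, 9, 7, 9, 8, 9, 8, 9, 7, 9, 5, 4, 5, 4, 5, 5, 4, 5, 5, 5, 5, 2, 1, 2, 1, 3, 1, 3, 1, 2, 1, 2, 1, 2, 1, 3, 1, 3, 1, 2]) (.leaf 10 18 [1, 3, 1, 3, 1, 3, 1, 3, 1, 3, 1, 3, 1, 3, 1, 3, 1, 3, 1, 3, 1, 3])))))) (.node 170 (.node 162 (.node 158 (.node 156 (.leaf 107 19 [1, 3, 1, 2, 1, 2, 1, 3, 1, 2, 1, 2, 1, 3, 1, 2, 1, 3, 1, 3, 10, 12, 10, 11, 11, 10, 12, 9, 8, 9, 8, 9, 8, 9, 7, 9, 7, 9, 7, 9, 8, 9, 4, 5, 4, 6, 4, 6, 4, 5, 5, 2, 1, 2, 1, 3, 1, 2, 1, 3, 1, 2, 1, 2, 1, 3, 1, 2, 1, 2]) (.node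 157 (.leaf 108 19 [1, 3, 1, 3, 1, 2, 1, 3, 1, 3, 1, 3, 1, 2, 1, 2, 1, 3, 1, 3, 12, 10, 11, 11, 10, 9, 7, 9, 8, 9, 7, 9, 8, 9, 8, 6, 4, 6, 4, 6, 4, 5, 5, 4, 2, 1, 2, 1, 3, 1, 3, 1, 2, 1, 2, 1, 2, 1, 3, 1, 2, 1, 2]) (.leaf 109 19 [1, 2, 1, 3, 1, 3, 1, 2, 1, 2, 1, 3, 1, 3, 1, 3, 1, 3, 1, 2, 11, 11, 11, 11, 11, 8, 9, 7, 9, 8, 9, 7, 9, 8, 9, 8, 9, 7, 9, 8, 9, 7, 6, 6, 4, 6, 6, 6, 2, 1, 2, 1, 3, 1, 3, 1, 3, 1, 2, 1, 3, 1, 2, 1, 3, 1, 2]))) (.node 160 (.node 159 (.leaf 110 19 [1, 2, 1, 3, 1, 2, 1, 3, 1, 3, 1, 3, 1, 3, 1, 2, 1, 2, 1, 2, 10, 11, 11, 11, 10, 9, 8, 9, 8, 9, 7, 9, 7, 9, 7, 9, 4, 6, 6, 4, 5, 5, 4, 5, 5, 5, 3, 1, 2, 1, 2, 1, 2, 1, 2, 1, 3,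 1, 2, 1, 2, 1, 2, 1, 3]) (.leaf 111 19 [1, 2, 1, 3, 1, 2, 1, 3, 1, 2, 1, 2, 1, 3, 1, 2, 1, 3, 1, 2, 11, 10, 12, 10, 11, 11, 8, 9, 7, 9, 8, 9, 7, 9, 8, 9, 7, 6, 4, 5, 4, 5, 4, 6, 6, 6, 4, 2, 1, 3, 1, 2, 1, 3, 1, 2, 1, 3, 1, 2, 1, 3, 1, 2, 1, 3])) (.node 161 (.leaf 112 19 [1, 2, 1, 2, 1, 3, 1, 3, 1, 2, 1, 3, 1, 2, 1, 3, 1, 2, 1, 3, 11, 10, 12, 10, 11, 11, 9, 8, 9, 7, 9, 7, 9, 7, 9, 8, 9, 7, 4, 6, 4, 5, 4, 6, 6, 6, 6, 4, 3, 1, 3, 1, 3, 1, 2, 1, 2, 1, 3, 1, 2, 1, 3, 1, 3, 1, 3]) (.leaf 113 19 [1, 3, 1, 3, 1, 3, 1, 3, 1, 2, 1, 2, 1, 3, 1, 2, 1, 3, 1, 2, 10, 12, 10, 11, 11, 11, 8, 9, 7, 9, 8, 9, 8, 9, 7, 6, 6, 4, 6, 6, 4, 5, 2, 1, 3, 1, 3, 1, 3, 1,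 2, 1, 3, 1, 2, 1, 3, 1, 3, 1, 2])))) (.node 166 (.node 164 (.node 163 (.leaf 114 19 [1, 3, 1, 3, 1, 2, 1, 2, 1, 2, 1, 3, 1, 2, 1, 3, 1, 2, 1, 3, 10, 11, 11, 11, 11, 10, 12, 8, 9, 7, 9, 8, 9, 8, 9, 7, 9, 8, 9, 8, 9, 7, 9, 5, 4, 6, 4, 6, 4, 5, 5, 3, 1, 2, 1, 2, 1, 2, 1, 2, 1, 3, 1, 2, 1, 3, 1, 3, 1, 2]) (.leaf 115 19 [1, 3, 1, 3, 1, 2, 1, 2, 1, 3, 1, 2, 1, 3, 1, 2, 1, 3, 1, 2, 11, 8, 9, 7, 9, 7, 9, 7, 9, 8, 9, 8, 9, 5, 4, 6, 4, 5, 4, 3, 1, 2, 1, 3, 1, 2, 1, 3, 1, 2, 1, 3, 1, 3, 1, 2, 1, 2])) (.node 165 (.leaf 116 19 [1, 2, 1, 3, 1, 2, 1, 2, 1, 2, 1, 3, 1, 2, 1, 2, 1, 2, 1, 2, 11, 10, 12, 10, 11, 11, 10, 9, 7, 9, 8, 9, 7, 9, 7, 9, 7, 9, 8, 9, 8,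 9, 7, 9, 8, 5, 4, 5, 4, 6, 4, 6, 6, 6, 6, 4, 5, 3, 1, 3, 1, 3, 1, 3, 1, 2, 1, 3, 1, 3, 1, 3, 1, 2, 1, 3]) (.leaf 9 20 [1, 2, 1, 2, 1, 2, 1, 2, 1, 2, 1, 2, 1, 2, 1, 2, 1, 2, 1, 2, 1, 2]))) (.node 168 (.node 167 (.leaf 117 19 [1, 2, 1, 2, 1, 3, 1, 2, 1, 2, 1, 2, 1, 3, 1, 3, 1, 2, 1, 3, 10, 12, 10, 11, 11, 11, 8, 9, 8, 9, 8, 9, 7, 9, 7, 9, 7, 9, 7, 4, 6, 6, 6, 6, 4, 6, 2, 1, 3, 1, 2, 1, 2, 1, 3, 1, 3, 1, 3, 1, 2, 1, 3, 1, 3]) (.leaf 118 19 [1, 2, 1, 2, 1, 3, 1, 2, 1, 3, 1, 2, 1, 2, 1, 2, 1, 2, 1, 3, 10, 11, 10, 12, 12, 10, 11, 9, 8, 9, 7, 9, 7, 9, 8, 9, 7, 9, 8, 9, 8, 9, 8, 9, 7, 4, 5, 4, 5, 4, 6, 6, 6, 4, 6, 6, 6, 2, 1, 3, 1, 3, 1, 3, 1, 3, 1,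 2, 1, 3, 1, 2, 1, 3, 1, 3])) (.node 169 (.leaf 70 38 [5, 4, 5, 4, 5, 4, 5, 4, 5, 4, 3, 1, 3, 1, 2, 1, 2, 1, 2, 1, 2, 1, 3, 1, 3, 1, 3, 1, 2, 1, 3, 1, 3, 1, 3, 1, 2, 1, 2, 1, 3, 1, 3, 1, 3, 1, 2, 7]) (.leaf 2 3 [1, 3, 1, 2, 1, 2, 1, 2, 1, 3, 1, 3, 1, 2, 6, 2, 1, 3]))))) (.node 178 (.node 174 (.node 172 (.node 171 (.leaf 70 45 [4, 5, 4, 3, 1, 3, 1, 2, 1, 2, 1, 2, 1, 2, 1, 3, 1, 3, 1, 3, 1, 2, 1, 3, 1, 3, 1, 3, 1, 2, 1, 2, 1, 3, 1, 3, 1, 3, 1, 2, 7, 5, 4, 5, 4, 5, 4, 5]) (.leaf 70 37 [7, 5, 4, 5, 4, 5, 4, 5, 4, 5, 4, 3, 1, 3, 1, 2, 1, 2, 1, 2, 1, 2, 1, 3, 1, 3, 1, 3, 1, 2, 1, 3, 1, 3, 1, 3, 1, 2, 1, 2, 1, 3, 1, 3, 1, 3, 1, 2])) (.node 173 (.leaf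 119 19 [1, 2, 1, 2, 1, 3, 1, 2, 1, 3, 1, 2, 1, 3, 1, 2, 1, 3, 1, 2, 11, 10, 12, 12, 10, 11, 8, 9, 8, 9, 8, 9, 7, 9, 8, 9, 7, 9, 7, 9, 7, 9, 7, 9, 8, 5, 4, 5, 4, 5, 5, 4, 5, 4, 2, 1, 3, 1, 2, 1, 2, 1, 3, 1, 3, 1, 2, 1, 3, 1, 2, 1, 3]) (.leaf 120 19 [1, 3, 1, 2, 1, 2, 1, 2, 1, 2, 1, 3, 1, 2, 1, 3, 1, 2, 1, 3, 12, 12, 10, 9, 8, 9, 8, 9, 7, 9, 7, 9, 8, 9, 7, 4, 6, 4, 5, 5, 5, 4, 6, 6, 6, 3, 1, 2, 1, 3, 1, 2, 1, 2, 1, 3, 1, 3, 1, 3, 1, 3, 1, 2]))) (.node 176 (.node 175 (.leaf 10 14 [1, 3, 1, 3, 1, 3, 1, 3, 1, 3, 1, 3, 1, 3, 1, 3, 1, 3, 1, 3, 1, 3]) (.leaf 12 8 [3, 1, 3, 3, 1, 3, 3, 1, 3, 3, 1, 3, 3, 1, 3, 3, 1, 3, 3, 1, 3, 3, 1, 3, 3, 1, 3, 3, 1,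 3, 3, 1, 3])) (.node 177 (.leaf 70 2 [3, 1, 2, 1, 2, 1, 2, 1, 2, 1, 3, 1, 3, 1, 3, 1, 2, 1, 3, 1, 3, 1, 3, 1, 2, 1, 2, 1, 3, 1, 3, 1, 3, 1, 2, 7, 5, 4, 5, 4, 5, 4, 5, 4, 5, 4, 3, 1]) (.leaf 8 2 [3, 3, 3])))) (.node 182 (.node 180 (.node 179 (.leaf 12 3 [1, 3, 3, 1, 3, 3, 1, 3, 3, 1, 3, 3, 1, 3, 3, 1, 3, 3, 1, 3, 3, 1, 3, 3, 1, 3, 3, 1, 3, 3, 1, 3, 3]) (.leaf 2 11 [1, 3, 1, 3, 1, 2, 6, 2, 1, 3, 1, 3, 1, 2, 1, 2, 1, 2])) (.node 181 (.leaf 10 19 [3, 1, 3, 1, 3, 1, 3, 1, 3, 1, 3, 1, 3, 1, 3, 1, 3, 1, 3, 1, 3, 1]) (.leaf 11 28 [2, 2, 1, 2, 2, 1, 2, 2, 1, 2, 2, 1, 2, 2, 1, 2, 2, 1, 2, 2, 1, 2, 2, 1, 2, 2, 1, 2, 2, 1, 2, 2, 1]))) (.node 184 (.node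 183 (.leaf 70 44 [5, 4, 5, 4, 3, 1, 3, 1, 2, 1, 2, 1, 2, 1, 2, 1, 3, 1, 3, 1, 3, 1, 2, 1, 3, 1, 3, 1, 3, 1, 2, 1, 2, 1, 3, 1, 3, 1, 3, 1, 2, 7, 5, 4, 5, 4, 5, 4]) (.leaf 2 1 [1, 3, 1, 3, 1, 2, 1, 2, 1, 2, 1, 3, 1, 3, 1, 2, 6, 2])) (.node 185 (.leaf 3 7 [5, 5, 8, 4, 5, 5, 5, 4, 6, 4]) (.leaf 3 1 [5, 5, 5, 4, 6, 4, 5, 5, 8, 4]))))))) (.node 217 (.node 201 (.node 193 (.node 189 (.node 187 (.leaf 70 40 [5, 4, 5, 4, 5, 4, 5, 4, 3, 1, 3, 1, 2, 1, 2, 1, 2, 1, 2, 1, 3, 1, 3, 1, 3, 1, 2, 1, 3, 1, 3, 1, 3, 1, 2, 1, 2, 1, 3, 1, 3, 1, 3, 1, 2, 7, 5, 4]) (.node 188 (.leaf 2 2 [3, 1, 3, 1, 2, 1, 2, 1, 2, 1, 3, 1, 3, 1, 2, 6, 2, 1]) (.leaf 70 46 [5, 4, 3,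 1, 3, 1, 2, 1, 2, 1, 2, 1, 2, 1, 3, 1, 3, 1, 3, 1, 2, 1, 3, 1, 3, 1, 3, 1, 2, 1, 2, 1, 3, 1, 3, 1, 3, 1, 2, 7, 5, 4, 5, 4, 5, 4, 5, 4]))) (.node 191 (.node 190 (.leaf 3 8 [5, 8, 4, 5, 5, 5, 4, 6, 4, 5]) (.leaf 2 9 [1, 2, 1, 3, 1, 3, 1, 2, 6, 2, 1, 3, 1, 3, 1, 2, 1, 2])) (.node 192 (.leaf 70 16 [3, 1, 2, 1, 3, 1, 3, 1, 3, 1, 2, 1, 2, 1, 3, 1, 3, 1, 3, 1, 2, 7, 5, 4, 5, 4, 5, 4, 5, 4, 5, 4, 3, 1, 3, 1, 2, 1, 2, 1, 2, 1, 2, 1, 3, 1, 3, 1]) (.leaf 2 7 [1, 2, 1, 2, 1, 3, 1, 3, 1, 2, 6, 2, 1, 3, 1, 3, 1, 2])))) (.node 197 (.node 195 (.node 194 (.leaf 10 21 [3, 1, 3, 1, 3, 1, 3, 1, 3, 1, 3, 1, 3, 1, 3, 1, 3, 1, 3, 1, 3, 1]) (.leaf 11 8 [2, 1, 2, 2,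 1, 2, 2, 1, 2, 2, 1, 2, 2, 1, 2, 2, 1, 2, 2, 1, 2, 2, 1, 2, 2, 1, 2, 2, 1, 2, 2, 1, 2])) (.node 196 (.leaf 12 22 [3, 3, 1, 3, 3, 1, 3, 3, 1, 3, 3, 1, 3, 3, 1, 3, 3, 1, 3, 3, 1, 3, 3, 1, 3, 3, 1, 3, 3, 1, 3, 3, 1]) (.leaf 70 23 [1, 3, 1, 2, 1, 2, 1, 3, 1, 3, 1, 3, 1, 2, 7, 5, 4, 5, 4, 5, 4, 5, 4, 5, 4, 3, 1, 3, 1, 2, 1, 2, 1, 2, 1, 2, 1, 3, 1, 3, 1, 3, 1, 2, 1, 3, 1, 3]))) (.node 199 (.node 198 (.leaf 10 16 [1, 3, 1, 3, 1, 3, 1, 3, 1, 3, 1, 3, 1, 3, 1, 3, 1, 3, 1, 3, 1, 3]) (.leaf 70 19 [1, 3, 1, 3, 1, 3, 1, 2, 1, 2, 1, 3, 1, 3, 1, 3, 1, 2, 7, 5, 4, 5, 4, 5, 4, 5, 4, 5, 4, 3, 1, 3, 1, 2, 1, 2, 1, 2, 1, 2, 1, 3, 1, 3, 1, 3, 1, 2])) (.node 200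 (.leaf 3 2 [5, 5, 4, 6, 4, 5, 5, 8, 4, 5]) (.leaf 70 42 [5, 4, 5, 4, 5, 4, 3, 1, 3, 1, 2, 1, 2, 1, 2, 1, 2, 1, 3, 1, 3, 1, 3, 1, 2, 1, 3, 1, 3, 1, 3, 1, 2, 1, 2, 1, 3, 1, 3, 1, 3, 1, 2, 7, 5, 4, 5, 4]))))) (.node 209 (.node 205 (.node 203 (.node 202 (.leaf 2 12 [3, 1, 3, 1, 2, 6, 2, 1, 3, 1, 3, 1, 2, 1, 2, 1, 2, 1]) (.leaf 8 1 [3, 3, 3])) (.node 204 (.leaf 2 15 [1, 2, 6, 2, 1, 3, 1, 3, 1, 2, 1, 2, 1, 2, 1, 3, 1, 3]) (.leaf 121 19 [1, 2, 1, 2, 1, 2, 1, 3, 1, 3, 1, 2, 1, 2, 1, 3, 1, 2, 1, 3, 11, 11, 11, 10, 12, 10, 11, 8, 9, 7, 9, 8, 9, 7, 9, 8, 9, 8, 9, 8, 9, 4, 6, 4, 5, 5, 5, 4, 6, 3, 1, 3, 1, 3, 1, 2, 1, 2, 1, 2, 1, 3, 1, 3, 1, 3, 1, 3])))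 (.node 207 (.node 206 (.leaf 2 4 [3, 1, 2, 1, 2, 1, 2, 1, 3, 1, 3, 1, 2, 6, 2, 1, 3, 1]) (.leaf 14 7 [2, 1, 2, 2, 2, 1, 2, 2])) (.node 208 (.leaf 3 5 [6, 4, 5, 5, 8, 4, 5, 5, 5, 4]) (.leaf 9 19 [2, 1, 2, 1, 2, 1, 2, 1, 2, 1, 2, 1, 2, 1, 2, 1, 2, 1, 2, 1, 2, 1])))) (.node 213 (.node 211 (.node 210 (.leaf 2 14 [3, 1, 2, 6, 2, 1, 3, 1, 3, 1, 2, 1, 2, 1, 2, 1, 3, 1]) (.leaf 3 3 [5, 4, 6, 4, 5, 5, 8, 4, 5, 5])) (.node 212 (.leaf 10 17 [3, 1, 3, 1, 3, 1, 3, 1, 3, 1, 3, 1, 3, 1, 3, 1, 3, 1, 3, 1, 3, 1]) (.leaf 12 11 [3, 1, 3, 3, 1, 3, 3, 1, 3, 3, 1, 3, 3, 1, 3, 3, 1, 3, 3, 1, 3, 3, 1, 3, 3, 1, 3, 3, 1, 3, 3, 1, 3]))) (.node 215 (.node 214 (.leaf 10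 20 [1, 3, 1, 3, 1, 3, 1, 3, 1, 3, 1, 3, 1, 3, 1, 3, 1, 3, 1, 3, 1, 3]) (.leaf 9 14 [1, 2, 1, 2, 1, 2, 1, 2, 1, 2, 1, 2, 1, 2, 1, 2, 1, 2, 1, 2, 1, 2])) (.node 216 (.leaf 12 17 [3, 1, 3, 3, 1, 3, 3, 1, 3, 3, 1, 3, 3, 1, 3, 3, 1, 3, 3, 1, 3, 3, 1, 3, 3, 1, 3, 3, 1, 3, 3, 1, 3]) (.leaf 2 16 [2, 6, 2, 1, 3, 1, 3, 1, 2, 1, 2, 1, 2, 1, 3, 1, 3, 1])))))) (.node 232 (.node 224 (.node 220 (.node 218 (.leaf 12 28 [3, 3, 1, 3, 3, 1, 3, 3, 1, 3, 3, 1, 3, 3, 1, 3, 3, 1, 3, 3, 1, 3, 3, 1, 3, 3, 1, 3, 3, 1, 3, 3, 1]) (.node 219 (.leaf 2 5 [1, 2, 1, 2, 1, 2, 1, 3, 1, 3, 1, 2, 6, 2, 1, 3, 1, 3]) (.leaf 70 47 [4, 3, 1, 3, 1, 2, 1, 2, 1, 2, 1, 2, 1, 3, 1, 3, 1,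 3, 1, 2, 1, 3, 1, 3, 1, 3, 1, 2, 1, 2, 1, 3, 1, 3, 1, 3, 1, 2, 7, 5, 4, 5, 4, 5, 4, 5, 4, 5]))) (.node 222 (.node 221 (.leaf 70 35 [1, 2, 7, 5, 4, 5, 4, 5, 4, 5, 4, 5, 4, 3, 1, 3, 1, 2, 1, 2, 1, 2, 1, 2, 1, 3, 1, 3, 1, 3, 1, 2, 1, 3, 1, 3, 1, 3, 1, 2, 1, 2, 1, 3, 1, 3, 1, 3]) (.leaf 10 0 [1, 3, 1, 3, 1, 3, 1, 3, 1, 3, 1, 3, 1, 3, 1, 3, 1, 3, 1, 3, 1, 3])) (.node 223 (.leaf 70 27 [1, 2, 1, 3, 1, 3, 1, 3, 1, 2, 7, 5, 4, 5, 4, 5, 4, 5, 4, 5, 4, 3, 1, 3, 1, 2, 1, 2, 1, 2, 1, 2, 1, 3, 1, 3, 1, 3, 1, 2, 1, 3, 1, 3, 1, 3, 1, 2]) (.leaf 70 17 [1, 2, 1, 3, 1, 3, 1, 3, 1, 2, 1, 2, 1, 3, 1, 3, 1, 3, 1, 2, 7, 5, 4, 5, 4, 5, 4, 5, 4, 5, 4, 3, 1, 3, 1, 2,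 1, 2, 1, 2, 1, 2, 1, 3, 1, 3, 1, 3])))) (.node 228 (.node 226 (.node 225 (.leaf 10 8 [1, 3, 1, 3, 1, 3, 1, 3, 1, 3, 1, 3, 1, 3, 1, 3, 1, 3, 1, 3, 1, 3]) (.leaf 70 10 [2, 1, 3, 1, 3, 1, 3, 1, 2, 1, 3, 1, 3, 1, 3, 1, 2, 1, 2, 1, 3, 1, 3, 1, 3, 1, 2, 7, 5, 4, 5, 4, 5, 4, 5, 4, 5, 4, 3, 1, 3, 1, 2, 1, 2, 1, 2, 1])) (.node 227 (.leaf 2 6 [2, 1, 2, 1, 2, 1, 3, 1, 3, 1, 2, 6, 2, 1, 3, 1, 3, 1]) (.leaf 70 24 [3, 1, 2, 1, 2, 1, 3, 1, 3, 1, 3, 1, 2, 7, 5, 4, 5, 4, 5, 4, 5, 4, 5, 4, 3, 1, 3, 1, 2, 1, 2, 1, 2, 1, 2, 1, 3, 1, 3, 1, 3, 1, 2, 1, 3, 1, 3, 1]))) (.node 230 (.node 229 (.leaf 12 15 [1, 3, 3, 1, 3, 3, 1, 3, 3, 1, 3, 3, 1, 3, 3, 1, 3, 3, 1, 3, 3,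 1, 3, 3, 1, 3, 3, 1, 3, 3, 1, 3, 3]) (.leaf 70 5 [1, 2, 1, 2, 1, 2, 1, 3, 1, 3, 1, 3, 1, 2, 1, 3, 1, 3, 1, 3, 1, 2, 1, 2, 1, 3, 1, 3, 1, 3, 1, 2, 7, 5, 4, 5, 4, 5, 4, 5, 4, 5, 4, 3, 1, 3, 1, 2])) (.node 231 (.leaf 9 1 [2, 1, 2, 1, 2, 1, 2, 1, 2, 1, 2, 1, 2, 1, 2, 1, 2, 1, 2, 1, 2, 1]) (.leaf 12 2 [3, 1, 3, 3, 1, 3, 3, 1, 3, 3, 1, 3, 3, 1, 3, 3, 1, 3, 3, 1, 3, 3, 1, 3, 3, 1, 3, 3, 1, 3, 3, 1, 3]))))) (.node 240 (.node 236 (.node 234 (.node 233 (.leaf 12 26 [3, 1, 3, 3, 1, 3, 3, 1, 3, 3, 1, 3, 3, 1, 3, 3, 1, 3, 3, 1, 3, 3, 1, 3, 3, 1, 3, 3, 1, 3, 3, 1, 3]) (.leaf 2 0 [2, 1, 3, 1, 3, 1, 2, 1, 2, 1, 2, 1, 3, 1, 3, 1, 2, 6])) (.node 235 (.leaf 70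 7 [1, 2, 1, 2, 1, 3, 1, 3, 1, 3, 1, 2, 1, 3, 1, 3, 1, 3, 1, 2, 1, 2, 1, 3, 1, 3, 1, 3, 1, 2, 7, 5, 4, 5, 4, 5, 4, 5, 4, 5, 4, 3, 1, 3, 1, 2, 1, 2]) (.leaf 2 13 [1, 3, 1, 2, 6, 2, 1, 3, 1, 3, 1, 2, 1, 2, 1, 2, 1, 3]))) (.node 238 (.node 237 (.leaf 70 3 [1, 2, 1, 2, 1, 2, 1, 2, 1, 3, 1, 3, 1, 3, 1, 2, 1, 3, 1, 3, 1, 3, 1, 2, 1, 2, 1, 3, 1, 3, 1, 3, 1, 2, 7, 5, 4, 5, 4, 5, 4, 5, 4, 5, 4, 3, 1, 3]) (.leaf 10 4 [1, 3, 1, 3, 1, 3, 1, 3, 1, 3, 1, 3, 1, 3, 1, 3, 1, 3, 1, 3, 1, 3])) (.node 239 (.leaf 70 30 [3, 1, 3, 1, 3, 1, 2, 7, 5, 4, 5, 4, 5, 4, 5, 4, 5, 4, 3, 1, 3, 1, 2, 1, 2, 1, 2, 1, 2, 1, 3, 1, 3, 1, 3, 1, 2, 1, 3, 1, 3, 1, 3, 1, 2, 1, 2, 1])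 (.leaf 12 30 [1, 3, 3, 1, 3, 3, 1, 3, 3, 1, 3, 3, 1, 3, 3, 1, 3, 3, 1, 3, 3, 1, 3, 3, 1, 3, 3, 1, 3, 3, 1, 3, 3])))) (.node 244 (.node 242 (.node 241 (.leaf 70 8 [2, 1, 2, 1, 3, 1, 3, 1, 3, 1, 2, 1, 3, 1, 3, 1, 3, 1, 2, 1, 2, 1, 3, 1, 3, 1, 3, 1, 2, 7, 5, 4, 5, 4, 5, 4, 5, 4, 5, 4, 3, 1, 3, 1, 2, 1, 2, 1]) (.leaf 70 32 [3, 1, 3, 1, 2, 7, 5, 4, 5, 4, 5, 4, 5, 4, 5, 4, 3, 1, 3, 1, 2, 1, 2, 1, 2, 1, 2, 1, 3, 1, 3, 1, 3, 1, 2, 1, 3, 1, 3, 1, 3, 1, 2, 1, 2, 1, 3, 1])) (.node 243 (.leaf 13 2 [3, 3, 3]) (.leaf 11 9 [1, 2, 2, 1, 2, 2, 1, 2, 2, 1, 2, 2, 1, 2, 2, 1, 2, 2, 1, 2, 2, 1, 2, 2, 1, 2, 2, 1, 2, 2, 1, 2, 2]))) (.node 246 (.node 245 (.leaf 70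 15 [1, 3, 1, 2, 1, 3, 1, 3, 1, 3, 1, 2, 1, 2, 1, 3, 1, 3, 1, 3, 1, 2, 7, 5, 4, 5, 4, 5, 4, 5, 4, 5, 4, 3, 1, 3, 1, 2, 1, 2, 1, 2, 1, 2, 1, 3, 1, 3]) (.leaf 12 31 [3, 3, 1, 3, 3, 1, 3, 3, 1, 3, 3, 1, 3, 3, 1, 3, 3, 1, 3, 3, 1, 3, 3, 1, 3, 3, 1, 3, 3, 1, 3, 3, 1])) (.node 247 (.leaf 15 5 [3, 3, 3, 1, 3, 3, 3, 1]) (.leaf 11 18 [1, 2, 2, 1, 2, 2, 1, 2, 2, 1, 2, 2, 1, 2, 2, 1, 2, 2, 1, 2, 2, 1, 2, 2, 1, 2, 2, 1, 2, 2, 1, 2, 2])))))))))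

theorem b0 : allR (guardB 32 (blk fc sc rt.get Cfsg.Agent.Lib.Helper3.Suz.INV isH)) 5 0 = true := by decide +kernel
theorem c0 : allR (guardB 56 (cblk fc nc cc 8192 1782 79228162514264337593543950336 gens)) 5 0 = true := by decide +kernel
theorem c1 : allR (guardB 56 (cblk fc nc cc 8192 1782 79228162514264337593543950336 gens)) 5 32 = true := by decide +kernel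

theorem chkAll : ∀ j < 32, blk fc sc rt.get Cfsg.Agent.Lib.Helper3.Suz.INV isH j = true :=
  guardB_spec (D := 5) b0 (by norm_num)

theorem clAll : ∀ jb < 56, cblk fc nc cc (256 * 32) 1782 79228162514264337593543950336 gens jb = true :=
  guardB_spec (D := 6) (allR_join c0 c1 (by norm_num)) (by norm_num)

theorem card_eq : Nat.card (lgrp (vL Cfsg.Agent.Lib.Helper3.Suz.ntl Cfsg.Agent.Lib.Helper3.Suz.deg) gens) = 1782 * Nat.card (lgrp (vL Cfsg.Agent.Lib.Helper3.Suz.ntl Cfsg.Agent.Lib.Helper3.Suz.deg) hl) :=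
  Cfsg.Agent.Lib.Helper3.Suz.setup.level gens hl dl BR (by decide +kernel) (by decide +kernel) (by decide +kernel) (by decide +kernel)
    (by decide +kernel) rt (by decide +kernel) isH (fun l h => of_decide_eq_true h) fc sc nc cc 32 56 1782 79228162514264337593543950336
    (by norm_num) (by norm_num) (by decide +kernel) (by decide) chkAll clAll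
    0 0 18 (by norm_num [Cfsg.Agent.Lib.Helper3.Suz.deg]) (by norm_num [Cfsg.Agent.Lib.Helper3.Suz.deg]) (by decide +kernel) (by decide +kernel)

theorem ub {M : Type*} [Group M] (w : ℕ → M) (h0 : w 0 = 1) (hinv : ∀ l, w (invL Cfsg.Agent.Lib.Helper3.Suz.INV l) = (w l)⁻¹)
    (hBR : ∀ r ∈ BR, (r.map w).prod = 1)
    (hdlr : ∀ r ∈ dl.map (fun p => p.1 ++ [p.2]), (r.map w).prod = 1) (N : ℕ) (hN : Bd w hl N) :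
    Bd w gens (1782 * N) :=
  level_bd w Cfsg.Agent.Lib.Helper3.Suz.INV h0 hinv gens hl dl BR (by decide +kernel) hdlr hBR (by decide +kernel) (by decide +kernel)
    rt (by decide +kernel) isH (fun l h => of_decide_eq_true h) fc sc nc cc 32 56 1782 79228162514264337593543950336
    (by norm_num) (by norm_num) (by decide +kernel) (by decide) chkAll clAll N hN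

end Cfsg.Agent.Lib.Helper3.Suz.L1
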