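import Cfsg.Agent.Lib.Helper3.Suz.L2D
import Cfsg.Agent.Lib.Helper3.Suz.Net

set_option autoImplicit false
set_option maxRecDepth 100000

namespace Cfsg.Agent.Lib.Helper3.Suz.L2

open Cfsg.Agent.Lib.Helper11 Cfsg.Agent.Lib.Helper3

set_option maxHeartbeats 0

noncomputable def fc (i : ℕ) : ℕ := (Bool.rec (fc0_0 i) (fc0_1 i) (Nat.ble 16 i))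
noncomputable def sc (i : ℕ) : ℕ := (Bool.rec (sc0_0 i) (sc0_1 i) (Nat.ble 16 i))
noncomputable def nc (i : ℕ) : ℕ := (nc0_0 i)
noncomputable def cc (i : ℕ) : ℕ := (Bool.rec (cc0_0 i) (Bool.rec (cc0_1 i) (cc0_2 i) (Nat.ble 32 i)) (Nat.ble 16 i))

def isH (l : ℕ) : Bool := decide (l ∈ [7, 9])
def gens : List ℕ := [4, 5]
def hl : List ℕ := [7, 9]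
def dl : List (List ℕ × ℕ) := [([5], 6), ([4, 5, 5, 5, 4, 6, 4, 5, 5], 8), ([8], 7), ([6, 4, 5, 4, 6, 6, 4, 5, 5, 4, 6, 4, 5], 9), ([7, 9, 8], 10), ([9, 7, 9, 7, 9, 7, 9, 7, 9, 7, 9, 7, 9, 8, 9, 7, 9, 7, 9, 7, 9, 8, 9], 12), ([12], 11)]
def BR : List (List ℕ) := [[], [4, 5, 5, 5, 4, 6, 4, 5, 5, 8], [6, 4, 5, 4, 6, 6, 4, 5, 5, 4, 6, 4, 5, 9], [7, 9, 8, 10], [9, 7, 9, 7, 9, 7, 9, 7, 9, 7, 9, 7, 9, 8, 9, 7, 9, 7, 9, 7, 9, 8, 9, 12], [5, 5, 5, 5, 5, 5, 5, 5, 5, 5, 5, 5, 5], [6, 6, 6, 6, 6, 6, 6, 6, 6, 6, 6, 6, 6], [4, 5, 4, 6, 4, 5, 4, 6, 4, 5, 4, 6, 4, 5, 4, 6, 4, 5, 4, 6, 4, 5, 4, 6, 4, 5, 4, 6, 4, 5, 4, 6, 4, 5, 4, 6, 4, 5, 4, 6], [4, 5, 5, 5, 4, 5, 5, 5, 4,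 5, 5, 5, 4, 5, 5, 5, 4, 5, 5, 5, 4, 5, 5, 5, 4, 5, 5, 5, 4, 5, 5, 5], [4, 6, 6, 6, 4, 6, 6, 6, 4, 6, 6, 6, 4, 6, 6, 6, 4, 6, 6, 6, 4, 6, 6, 6, 4, 6, 6, 6, 4, 6, 6, 6], [4, 5, 5, 4, 5, 5, 5, 4, 6, 12, 12, 12, 12, 12, 12, 12, 8, 9, 7, 9, 8, 9, 8, 9, 8, 9, 8, 9, 8, 9, 8], [5, 4, 5, 5, 5, 4, 5, 4, 6, 6, 4, 5, 10, 11, 11, 10, 12, 12, 12, 8, 9, 8, 9, 7, 9, 8, 9, 8, 9, 8, 9, 7, 9], [5, 5, 5, 5, 4, 5, 4, 6, 4, 5, 5, 4, 5, 11, 11, 10, 9, 7, 9, 7, 9, 8, 9, 8, 9, 7, 9, 7, 9, 7, 9, 7], [4, 5, 4, 5, 5, 4, 5, 4, 6, 4, 6, 6, 6, 10, 11, 10, 12, 12, 12, 12, 9, 8, 9, 8, 9, 7, 9, 8, 9, 8, 9, 8, 9, 7, 9, 7], [6, 6, 6, 4, 5, 5, 5, 4, 5, 4, 6, 6, 6, 10, 11, 10, 12, 10, 11, 10,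 8, 9, 7, 9, 8, 9, 8, 9, 8, 9, 8, 9, 8, 9, 8, 9], [4, 6, 4, 6, 6, 4, 6, 4, 5, 5, 5, 5, 5, 4, 10, 11, 11, 11, 10, 8, 9, 8, 9, 7, 9, 8, 9, 8, 9, 8, 9, 8, 9, 7, 9, 8], [5, 4, 6, 4, 6, 4, 6, 4, 5, 4, 5, 5, 4, 5, 10, 12, 10, 11, 11, 11, 10, 9, 8, 9, 7, 9, 7, 9, 8, 9, 7, 9, 7, 9, 7, 9, 8, 9, 7], [5, 4, 5, 4, 6, 4, 6, 4, 6, 6, 4, 5, 4, 5, 10, 12, 10, 11, 10, 12, 10, 11, 10, 8, 9, 7, 9, 8, 9, 8, 9, 7, 9, 8, 9, 7, 9, 7, 9, 7], [4, 6, 6, 4, 6, 4, 5, 5, 5, 4, 5, 4, 5, 4, 10, 8, 9, 7, 9, 8, 9, 8, 9, 7, 9, 8, 9, 7, 9, 7, 9, 8], [5, 4, 5, 5, 4, 6, 4, 5, 4, 6, 6, 6, 6, 6, 10, 12, 10, 11, 11, 10, 12, 8, 9, 7, 9, 7, 9, 8, 9, 7, 9, 7, 9, 7, 9, 8], [5, 4, 5, 4, 5, 4, 6, 4, 5,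 4, 6, 4, 6, 6, 12, 12, 12, 10, 11, 9, 8, 9, 7, 9, 7, 9, 8, 9, 7, 9, 8, 9, 8, 9], [6, 4, 5, 4, 5, 4, 5, 5, 5, 4, 6, 6, 4, 6, 12, 10, 11, 11, 8, 9, 8, 9, 8, 9, 8, 9, 8, 9, 7, 9, 8, 9, 8, 9, 7], [5, 4, 5, 4, 5, 5, 5, 5, 4, 5, 5, 5, 4, 5, 10, 11, 11, 10, 12, 10, 11, 9, 8, 9, 8, 9, 8, 9, 7, 9, 7, 9], [5, 5, 4, 5, 4, 5, 5, 4, 6, 4, 6, 4, 6, 4, 11, 10, 12, 10, 11, 10, 12, 12, 8, 9, 7, 9, 7, 9, 7, 9, 8, 9, 7, 9, 8, 9, 7, 9, 8, 9], [6, 6, 4, 6, 6, 4, 5, 4, 6, 4, 5, 5, 4, 5, 5, 10, 11, 10, 12, 12, 10, 8, 9, 7, 9, 7, 9, 7, 9, 7, 9, 7, 9, 8, 9, 7, 9], [6, 6, 6, 4, 6, 4, 5, 5, 5, 5, 5, 5, 4, 6, 6, 10, 12, 12, 12, 12, 9, 8, 9, 8, 9, 8, 9, 7, 9, 8, 9], [6, 4, 5, 5, 5, 4,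 6, 4, 6, 6, 6, 6, 4, 6, 4, 10, 12, 10, 11, 10, 12, 12, 12, 8, 9, 8, 9, 8, 9, 8, 9, 7, 9], [4, 6, 4, 5, 4, 5, 4, 5, 5, 5, 4, 5, 5, 5, 5, 11, 10, 12, 12, 12, 9, 8, 9, 8, 9, 7, 9, 7, 9, 7, 9, 8, 9, 7, 9, 7], [5, 4, 6, 4, 5, 4, 5, 4, 6, 4, 6, 6, 4, 5, 5, 11, 11, 11, 8, 9, 8, 9, 7, 9, 8, 9, 8, 9, 8], [5, 4, 6, 4, 6, 6, 6, 4, 5, 5, 5, 5, 5, 5, 4, 9, 7, 9, 8, 9, 7, 9, 8, 9, 8, 9, 8, 9, 8], [6, 6, 4, 6, 6, 6, 4, 5, 4, 5, 4, 6, 6, 4, 6, 12, 12, 10, 11, 10, 12, 10, 11, 8, 9, 7, 9, 8, 9, 8, 9, 8, 9, 7, 9, 8, 9, 8, 9, 7], [5, 4, 6, 4, 5, 5, 5, 4, 6, 6, 6, 4, 5, 4, 6, 10, 12, 10, 11, 11, 10, 8, 9, 7, 9, 8, 9, 8, 9, 7, 9, 8, 9, 8, 9, 8, 9], [6, 4, 5, 5, 5, 4, 5, 5, 4, 5,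 5, 4, 5, 5, 4, 10, 12, 10, 9, 8, 9, 8, 9, 8, 9, 7, 9, 8, 9, 7, 9, 8, 9, 8, 9, 8], [4, 6, 6, 6, 4, 6, 4, 5, 5, 4, 5, 4, 5, 4, 5, 10, 11, 10, 12, 10, 8, 9, 7, 9, 7, 9, 8, 9, 7, 9, 8, 9, 8], [6, 4, 5, 5, 5, 5, 4, 5, 4, 6, 4, 5, 4, 5, 4, 12, 10, 11, 11, 11, 10, 9, 7, 9, 7, 9, 8, 9, 8, 9, 7, 9, 8, 9, 8], [6, 6, 6, 6, 4, 6, 4, 5, 5, 5, 4, 6, 4, 6, 6, 11, 11, 10, 12, 10, 11, 10, 9, 7, 9, 8, 9, 8, 9, 8, 9, 8, 9], [4, 6, 6, 4, 5, 4, 6, 4, 6, 6, 4, 6, 4, 5, 4, 10, 11, 11, 10, 12, 12, 10, 11, 9, 8, 9, 8, 9, 8, 9, 7, 9, 7, 9, 7, 9], [5, 5, 4, 6, 4, 6, 4, 5, 4, 5, 4, 5, 4, 6, 4, 10, 11, 10, 12, 12, 12, 9, 7, 9, 7, 9, 7, 9, 8, 9, 7, 9, 8, 9, 8, 9, 7, 9, 7], [6, 4, 6, 4,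 5, 4, 5, 5, 4, 6, 4, 6, 4, 6, 6, 12, 10, 11, 11, 10, 12, 12, 10, 8, 9, 8, 9, 7, 9, 8, 9, 8, 9, 8, 9, 8, 9, 7, 9, 8], [5, 4, 6, 6, 4, 6, 4, 5, 4, 6, 4, 6, 4, 5, 5, 4, 11, 10, 12, 10, 11, 10, 12, 8, 9, 7, 9, 8, 9, 7, 9, 7, 9, 8, 9, 8, 9, 7], [4, 6, 4, 6, 6, 6, 4, 5, 4, 5, 4, 5, 4, 6, 6, 4, 11, 10, 12, 12, 10, 11, 11, 10, 12, 9, 8, 9, 7, 9, 7, 9, 8, 9, 8, 9, 8, 9, 7, 9, 7, 9], [5, 5, 5, 5, 5, 4, 5, 5, 4, 5, 4, 6, 6, 6, 4, 6, 10, 11, 10, 12, 10, 11, 9, 7, 9, 7, 9, 8, 9, 8, 9, 7], [5, 4, 5, 4, 6, 4, 5, 4, 5, 5, 5, 5, 5, 5, 4, 5, 12, 10, 11, 10, 12, 12, 10, 8, 9, 7, 9, 7, 9, 7, 9, 7, 9, 7, 9, 7], [5, 4, 6, 4, 5, 5, 5, 5, 5, 4, 6, 6, 6, 6, 6, 6, 12, 10, 11, 10, 12,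 10, 9, 8, 9, 8, 9, 7, 9, 8, 9, 8, 9, 8, 9, 7, 9, 8, 9], [6, 6, 6, 4, 6, 6, 6, 4, 6, 4, 6, 6, 4, 6, 4, 5, 12, 10, 11, 11, 11, 9, 8, 9, 7, 9, 7, 9, 8, 9, 8, 9, 8, 9, 7, 9, 7], [4, 5, 5, 5, 5, 5, 5, 4, 5, 5, 5, 4, 5, 5, 5, 4, 11, 11, 10, 12, 10, 11, 9, 7, 9, 7, 9, 8, 9, 8, 9, 7, 9, 7, 9, 8, 9, 7, 9], [6, 4, 5, 5, 4, 5, 4, 5, 4, 5, 5, 5, 4, 5, 4, 5, 10, 11, 11, 11, 10, 12, 12, 10, 9, 8, 9, 8, 9, 8, 9, 7, 9, 7, 9, 8, 9, 8, 9], [5, 4, 5, 4, 6, 4, 6, 6, 4, 6, 6, 4, 5, 5, 5, 5, 12, 10, 11, 10, 12, 10, 11, 10, 9, 7, 9, 7, 9, 7, 9, 8, 9, 8, 9, 7, 9, 7, 9], [5, 4, 5, 5, 4, 6, 6, 4, 5, 4, 5, 4, 5, 4, 5, 5, 10, 11, 11, 10, 12, 12, 10, 11, 9, 7, 9, 7, 9, 7, 9, 8, 9, 7,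 9, 8, 9, 7, 9], [4, 5, 4, 5, 4, 6, 4, 5, 5, 5, 5, 5, 4, 5, 4, 5, 10, 12, 12, 12, 10, 11, 8, 9, 7, 9, 7, 9, 7, 9, 8, 9, 7, 9, 7, 9, 7, 9], [6, 6, 4, 6, 6, 4, 6, 4, 5, 4, 6, 6, 6, 4, 5, 4, 11, 10, 12, 10, 11, 10, 12, 12, 8, 9, 8, 9, 8, 9, 7], [6, 4, 6, 4, 5, 5, 5, 5, 5, 4, 6, 4, 5, 5, 4, 6, 12, 10, 11, 9, 8, 9, 7, 9, 7, 9, 7, 9, 7, 9, 8, 9, 8, 9, 7, 9], [6, 4, 6, 6, 4, 5, 5, 4, 5, 4, 6, 6, 4, 6, 4, 6, 12, 10, 11, 11, 10, 8, 9, 7, 9, 7, 9, 8, 9, 7, 9, 8, 9, 7, 9, 8, 9, 7], [5, 5, 4, 6, 6, 6, 6, 4, 5, 4, 5, 4, 5, 5, 4, 6, 11, 10, 12, 10, 9, 8, 9, 8, 9, 7, 9, 8, 9, 7, 9, 7, 9, 7, 9, 7, 9, 7], [5, 5, 4, 6, 4, 5, 5, 5, 5, 5, 4, 6, 6, 6, 4, 5, 10, 12, 12, 12, 10,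 11, 10, 9, 7, 9, 7, 9, 7, 9, 7, 9, 7, 9, 8, 9], [5, 5, 5, 5, 4, 5, 5, 4, 5, 4, 5, 5, 5, 5, 4, 5, 11, 11, 10, 12, 12, 8, 9, 7, 9, 7, 9, 7, 9, 8, 9, 7, 9, 7], [4, 6, 4, 5, 5, 5, 5, 4, 5, 4, 5, 4, 5, 4, 5, 4, 10, 11, 11, 10, 8, 9, 7, 9, 8, 9, 8, 9, 7, 9, 8, 9], [6, 6, 6, 4, 5, 5, 4, 5, 5, 4, 5, 5, 5, 4, 6, 6, 12, 10, 11, 10, 12, 12, 12, 8, 9, 7, 9, 7, 9, 8, 9, 7, 9, 8, 9, 8], [5, 5, 5, 4, 6, 6, 4, 5, 5, 5, 4, 6, 6, 4, 5, 5, 12, 12, 12, 12, 10, 9, 7, 9, 7, 9, 7, 9, 8, 9, 8, 9, 7, 9, 7, 9, 8, 9, 8], [5, 4, 6, 6, 4, 5, 5, 5, 5, 5, 4, 5, 5, 4, 5, 5, 10, 11, 10, 12, 12, 12, 10, 9, 7, 9, 8, 9, 7, 9, 7, 9, 8, 9, 7, 9, 7, 9, 7, 9], [5, 5, 4, 6, 6, 6, 4, 5, 5, 4, 6, 4,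 5, 4, 5, 4, 6, 12, 10, 11, 11, 11, 10, 12, 9, 8, 9, 7, 9, 7, 9, 7, 9, 7], [4, 6, 6, 4, 5, 5, 4, 6, 4, 5, 4, 5, 4, 6, 4, 5, 4, 12, 12, 12, 12, 12, 12, 9, 7, 9, 8, 9, 8, 9, 8, 9, 8, 9, 8, 9, 7, 9, 8, 9, 8, 9, 8], [4, 6, 4, 5, 4, 6, 6, 4, 5, 4, 6, 6, 6, 6, 4, 5, 4, 11, 11, 11, 10, 12, 12, 10, 11, 9, 7, 9, 7, 9, 7, 9, 8, 9, 8, 9, 7, 9, 8, 9, 8], [4, 5, 4, 6, 6, 4, 6, 6, 4, 6, 6, 4, 5, 4, 6, 6, 6, 11, 10, 12, 12, 12, 9, 8, 9, 8, 9, 8], [4, 6, 6, 6, 4, 5, 5, 4, 5, 4, 5, 4, 6, 4, 5, 4, 5, 12, 10, 11, 10, 12, 12, 12, 9, 7, 9, 7, 9, 7, 9, 7, 9, 7, 9, 8, 9, 8, 9, 8], [6, 6, 6, 6, 4, 5, 4, 6, 4, 5, 5, 4, 5, 4, 6, 4, 5, 10, 12, 12, 10, 11, 10, 8, 9, 8, 9, 8, 9, 8, 9,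 7, 9], [4, 6, 4, 5, 5, 4, 6, 4, 5, 4, 5, 5, 4, 6, 4, 6, 6, 10, 12, 12, 12, 9, 7, 9, 7, 9, 7, 9, 8, 9], [6, 4, 5, 5, 5, 5, 4, 6, 4, 6, 6, 4, 5, 5, 4, 6, 4, 11, 11, 10, 12, 12, 10, 11, 8, 9, 7, 9, 8, 9, 7, 9, 8, 9, 8, 9, 7, 9, 8, 9, 7, 9, 8], [5, 5, 4, 5, 4, 5, 4, 5, 5, 5, 5, 5, 4, 5, 4, 6, 4, 8, 9, 8, 9, 7, 9, 7, 9, 8, 9, 7, 9, 7, 9, 8, 9, 8], [6, 6, 6, 4, 6, 6, 4, 6, 4, 6, 4, 5, 5, 4, 5, 5, 5, 11, 10, 12, 12, 10, 11, 9, 8, 9, 7, 9, 8, 9, 7, 9, 7], [4, 6, 4, 6, 4, 6, 6, 4, 5, 5, 5, 4, 5, 4, 5, 4, 6, 10, 11, 10, 12, 10, 11, 11, 9, 8, 9, 7, 9, 8], [4, 6, 6, 4, 5, 4, 5, 5, 4, 5, 4, 6, 6, 4, 6, 4, 5, 10, 11, 11, 10, 12, 10, 11, 9, 7, 9, 7, 9, 7, 9, 8, 9, 8, 9,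 7, 9, 7, 9, 8, 9], [4, 6, 6, 4, 5, 4, 5, 5, 5, 5, 5, 5, 4, 6, 4, 6, 4, 10, 12, 12, 12, 12, 12, 12, 12, 9, 8, 9, 7, 9, 7, 9, 7, 9, 8, 9, 7], [4, 6, 6, 6, 4, 5, 5, 5, 4, 5, 4, 6, 6, 6, 4, 5, 5, 10, 12, 12, 12, 9, 7, 9, 8, 9, 7, 9, 7, 9, 8, 9, 7, 9, 7, 9, 8, 9], [6, 6, 4, 6, 6, 4, 5, 5, 4, 6, 6, 4, 5, 5, 4, 5, 5, 11, 10, 12, 12, 10, 11, 11, 10, 9, 8, 9, 8, 9, 8, 9, 7, 9, 8, 9, 7, 9, 7], [5, 5, 5, 4, 5, 5, 5, 5, 4, 5, 5, 4, 6, 4, 6, 4, 5, 12, 10, 11, 10, 12, 10, 11, 10, 8, 9, 8, 9, 8, 9, 7, 9, 8, 9, 8], [5, 4, 5, 5, 4, 5, 4, 5, 5, 4, 5, 5, 4, 5, 4, 6, 4, 11, 11, 11, 11, 11, 11, 8, 9, 7, 9, 8, 9, 8, 9, 8, 9, 7, 9, 8, 9, 7], [6, 4, 5, 5, 4, 5, 4, 5, 5, 4, 5, 4,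 5, 4, 5, 5, 5, 11, 11, 10, 12, 10, 11, 9, 8, 9, 7, 9, 8, 9, 7, 9, 7, 9, 7, 9], [4, 6, 6, 4, 6, 6, 6, 4, 5, 4, 6, 4, 5, 4, 5, 4, 5, 10, 12, 12, 10, 11, 11, 10, 12, 8, 9, 8, 9, 8, 9, 7, 9, 7, 9, 8, 9, 8, 9, 8, 9, 7], [4, 5, 4, 6, 4, 5, 4, 5, 5, 5, 5, 4, 6, 6, 4, 6, 4, 11, 11, 10, 12, 12, 9, 8, 9, 7, 9, 7, 9, 7, 9, 8, 9, 8], [6, 6, 6, 6, 4, 5, 5, 5, 4, 5, 5, 5, 5, 4, 6, 6, 4, 10, 12, 12, 12, 12, 12, 12, 9, 7, 9, 8, 9, 8, 9, 7, 9, 8, 9, 7, 9, 7], [5, 4, 5, 4, 6, 6, 6, 4, 5, 5, 5, 5, 5, 5, 4, 5, 4, 11, 11, 10, 12, 12, 12, 10, 11, 8, 9, 7, 9], [4, 5, 5, 4, 6, 6, 4, 6, 4, 6, 4, 6, 6, 6, 4, 6, 4, 11, 11, 11, 10, 12, 10, 11, 9, 7, 9, 8, 9, 7, 9, 7, 9, 8, 9, 8, 9, 7,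 9, 8], [4, 6, 6, 6, 4, 5, 4, 6, 4, 6, 4, 5, 5, 5, 5, 5, 5, 10, 11, 11, 10, 12, 12, 10, 9, 7, 9, 8, 9, 7, 9, 8, 9, 8, 9, 8, 9, 8, 9, 8], [6, 4, 6, 6, 6, 4, 5, 5, 4, 5, 4, 6, 4, 5, 4, 6, 6, 11, 11, 10, 12, 8, 9, 7, 9, 8, 9], [6, 4, 6, 6, 4, 6, 6, 6, 4, 6, 6, 4, 5, 4, 6, 6, 4, 10, 11, 10, 12, 12, 9, 7, 9, 8, 9, 8, 9, 7, 9, 8, 9, 7, 9, 8, 9], [4, 5, 5, 5, 5, 4, 6, 4, 5, 4, 6, 4, 5, 5, 4, 6, 6, 11, 11, 11, 11, 10, 8, 9, 7, 9, 8, 9, 8, 9, 7, 9, 7, 9, 8, 9, 7], [4, 5, 4, 6, 6, 4, 5, 4, 5, 5, 4, 6, 6, 4, 6, 4, 6, 10, 12, 10, 11, 10, 12, 12, 10, 8, 9, 7, 9, 8, 9, 7, 9, 8, 9, 8, 9, 8, 9], [6, 6, 6, 4, 5, 4, 6, 4, 5, 4, 5, 5, 4, 5, 5, 4, 6, 11, 11, 11, 11, 10, 8, 9,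 8, 9, 7, 9, 8, 9, 8, 9, 8, 9, 8, 9, 8, 9, 7, 9], [4, 5, 4, 6, 6, 6, 6, 4, 5, 4, 5, 4, 6, 6, 4, 5, 5, 12, 10, 11, 10, 9, 7, 9, 7, 9, 7, 9, 7, 9, 8, 9, 7, 9, 8, 9, 8, 9, 8], [4, 5, 5, 4, 6, 4, 5, 5, 5, 5, 5, 4, 5, 5, 4, 6, 4, 12, 12, 12, 12, 12, 9, 7, 9, 8], [5, 5, 4, 6, 4, 6, 6, 6, 4, 5, 5, 4, 5, 5, 4, 5, 4, 12, 12, 8, 9, 7, 9, 8, 9, 7, 9, 8, 9, 8, 9, 8, 9], [6, 4, 5, 5, 5, 5, 5, 4, 5, 5, 4, 6, 6, 6, 4, 6, 4, 11, 11, 10, 12, 10, 11, 11, 9, 7, 9, 7, 9, 7, 9, 8, 9, 8, 9, 8, 9, 7, 9], [5, 5, 4, 6, 4, 5, 4, 5, 5, 4, 6, 4, 5, 5, 4, 5, 4, 12, 12, 10, 11, 10, 12, 12, 9, 8, 9, 8, 9, 8, 9, 7, 9, 8, 9, 8, 9, 7, 9, 7], [5, 5, 5, 5, 4, 6, 4, 5, 4, 6, 4, 5, 4, 6, 6, 6,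 6, 11, 11, 10, 12, 12, 12, 8, 9, 7, 9, 7, 9, 8, 9, 7], [5, 5, 5, 5, 4, 6, 4, 5, 5, 4, 6, 4, 6, 4, 5, 4, 5, 10, 11, 10, 12, 12, 10, 9, 8, 9, 7, 9, 7, 9, 7, 9, 7, 9, 8, 9, 8, 9, 7, 9], [6, 4, 5, 5, 4, 5, 5, 5, 4, 6, 6, 6, 4, 6, 6, 4, 5, 11, 11, 10, 12, 12, 12, 8, 9, 7, 9, 7, 9, 7, 9, 8, 9, 7, 9, 8, 9, 7, 9, 8], [5, 4, 6, 4, 5, 4, 6, 4, 5, 5, 5, 4, 5, 5, 4, 5, 4, 12, 10, 11, 8, 9, 8, 9, 8, 9, 8, 9, 8, 9, 7, 9, 8, 9, 8, 9, 8], [5, 5, 5, 4, 6, 4, 5, 5, 5, 4, 5, 5, 5, 4, 6, 4, 5, 10, 12, 10, 11, 11, 10, 9, 7, 9, 8, 9, 7, 9, 8, 9, 7, 9, 7, 9, 7], [4, 6, 4, 6, 6, 4, 5, 4, 5, 4, 6, 4, 6, 4, 5, 5, 5, 12, 10, 11, 11, 10, 9, 8, 9, 8, 9, 8, 9, 7, 9, 8, 9, 7, 9, 7, 9, 7,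 9], [5, 4, 6, 4, 6, 4, 6, 6, 4, 5, 5, 4, 5, 4, 5, 4, 6, 10, 12, 12, 12, 9, 8, 9, 8, 9, 7, 9, 7, 9, 7, 9, 8, 9, 8, 9, 8, 9, 8], [6, 6, 6, 6, 6, 4, 6, 4, 5, 4, 6, 4, 6, 6, 4, 5, 4, 12, 10, 11, 11, 10, 9, 7, 9, 8, 9, 7, 9, 7, 9, 7], [4, 5, 4, 6, 4, 6, 4, 5, 4, 6, 4, 6, 4, 5, 5, 5, 5, 12, 12, 10, 11, 10, 12, 8, 9, 8, 9, 7, 9, 8, 9, 8, 9, 8, 9, 8, 9, 7, 9], [5, 5, 4, 5, 5, 4, 5, 4, 5, 5, 5, 5, 4, 5, 4, 5, 5, 12, 12, 10, 11, 10, 8, 9, 7, 9, 7], [6, 4, 6, 6, 6, 4, 5, 4, 5, 5, 5, 4, 6, 4, 6, 4, 6, 11, 10, 12, 12, 12, 8, 9, 7, 9, 7, 9, 8, 9, 8, 9, 8, 9], [5, 4, 6, 6, 4, 6, 6, 4, 5, 4, 6, 6, 4, 5, 5, 5, 4, 10, 12, 10, 11, 10, 8, 9, 7, 9, 8, 9, 7, 9, 7, 9, 7, 9, 7, 9,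 8, 9], [6, 4, 6, 6, 4, 5, 5, 5, 5, 5, 4, 6, 4, 5, 4, 5, 5, 10, 11, 10, 12, 12, 10, 9, 7, 9, 7, 9, 8, 9, 8, 9, 7, 9, 7, 9, 8, 9, 8, 9], [4, 5, 5, 4, 6, 6, 4, 5, 5, 5, 5, 4, 5, 4, 6, 4, 5, 4, 10, 11, 11, 10, 8, 9, 7, 9, 8, 9, 8, 9, 8, 9, 7, 9, 8, 9, 7, 9], [6, 6, 4, 6, 4, 6, 4, 5, 4, 6, 4, 6, 4, 5, 4, 5, 4, 5, 11, 11, 10, 12, 12, 12, 10, 11, 8, 9, 7, 9, 8, 9, 7, 9, 7, 9, 7, 9, 7], [5, 5, 4, 6, 4, 6, 6, 4, 5, 4, 5, 4, 6, 6, 4, 6, 6, 6, 11, 11, 10, 12, 9, 7, 9, 7, 9, 7, 9, 8, 9, 8, 9, 7, 9, 7, 9, 8, 9, 8], [4, 6, 6, 6, 6, 4, 6, 4, 5, 5, 4, 6, 6, 6, 6, 6, 6, 4, 10, 11, 10, 12, 12, 12, 10, 11, 8, 9, 7, 9, 7, 9, 8, 9, 7, 9, 7, 9, 8, 9, 7], [6, 6, 6, 4, 5, 4, 6, 6,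 4, 5, 4, 5, 4, 5, 5, 4, 6, 4, 10, 11, 10, 12, 12, 10, 11, 8, 9, 7, 9, 8, 9, 8, 9, 8, 9, 8, 9, 8, 9], [6, 4, 6, 4, 5, 4, 5, 4, 5, 5, 4, 5, 5, 5, 4, 5, 5, 4, 11, 10, 12, 12, 9, 7, 9, 8, 9, 7, 9, 7, 9, 8, 9, 8, 9, 8, 9, 7, 9, 8], [5, 5, 4, 6, 4, 6, 4, 6, 4, 6, 6, 6, 4, 6, 6, 4, 6, 6, 12, 12, 12, 12, 8, 9, 8, 9, 7, 9, 7, 9, 7, 9, 7, 9], [4, 6, 4, 6, 6, 6, 6, 4, 5, 4, 5, 4, 5, 5, 4, 6, 6, 6, 11, 11, 10, 12, 10, 9, 8, 9, 8, 9, 8, 9, 7, 9, 8, 9, 7, 9, 7, 9], [4, 6, 4, 6, 6, 6, 6, 4, 5, 5, 5, 5, 4, 6, 4, 5, 4, 6, 12, 10, 11, 10, 12, 10, 11, 8, 9, 7, 9, 7, 9, 7, 9, 8, 9, 7, 9, 8, 9, 8, 9, 7, 9], [5, 5, 4, 6, 6, 4, 5, 4, 5, 4, 5, 4, 5, 4, 6, 6, 6, 6, 10, 11, 10, 12,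 10, 11, 9, 8, 9, 7, 9], [4, 5, 4, 6, 4, 5, 5, 5, 4, 5, 5, 5, 5, 5, 4, 6, 6, 6, 10, 11, 11, 11, 10, 12, 9, 7, 9, 8, 9, 7, 9, 7, 9, 7, 9, 8], [5, 5, 4, 6, 6, 4, 6, 4, 6, 4, 6, 6, 6, 4, 6, 6, 6, 6, 10, 12, 10, 11, 11, 10, 12, 9, 7, 9, 8, 9, 7], [5, 4, 5, 4, 6, 6, 4, 6, 4, 6, 4, 6, 4, 6, 4, 5, 5, 4, 9, 7, 9, 7, 9, 7, 9, 7, 9, 8, 9, 7, 9, 8, 9, 7], [6, 4, 5, 4, 6, 6, 6, 6, 4, 6, 4, 5, 4, 6, 6, 4, 6, 4, 11, 11, 10, 12, 8, 9, 7, 9, 8, 9, 7, 9, 8, 9, 7, 9, 7, 9, 8, 9, 7, 9], [5, 4, 6, 4, 6, 6, 4, 5, 5, 4, 5, 4, 5, 4, 5, 5, 5, 5, 11, 11, 11, 11, 11, 11, 9, 7, 9, 8, 9, 7, 9, 7, 9, 8, 9, 8, 9, 7, 9], [5, 4, 6, 4, 6, 6, 4, 5, 4, 5, 4, 6, 4, 5, 4, 6, 6, 4, 10, 11, 11,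 10, 12, 10, 9, 8, 9, 8, 9, 7, 9, 7, 9, 7, 9, 7, 9, 8, 9, 7], [4, 6, 6, 4, 6, 4, 6, 6, 4, 5, 4, 5, 5, 5, 5, 4, 6, 4, 12, 12, 12, 12, 12, 12, 9, 7, 9, 7, 9, 7, 9, 7, 9, 7, 9, 8, 9, 8, 9], [5, 5, 4, 5, 4, 6, 6, 4, 5, 4, 5, 5, 4, 6, 4, 6, 4, 6, 12, 12, 12, 12, 10, 8, 9, 8, 9, 7, 9, 8, 9, 7, 9, 7], [4, 6, 4, 5, 5, 4, 6, 6, 4, 5, 4, 5, 5, 4, 6, 4, 5, 4, 11, 10, 12, 10, 11, 11, 8, 9, 7, 9, 8, 9, 7, 9, 7, 9, 7, 9], [5, 4, 6, 6, 4, 5, 5, 4, 5, 4, 6, 4, 5, 5, 4, 5, 5, 4, 11, 10, 12, 12, 12, 12, 9, 7, 9, 8, 9, 7, 9, 7, 9, 8, 9, 7, 9, 7, 9], [6, 6, 4, 6, 4, 5, 4, 5, 4, 6, 6, 6, 4, 6, 6, 4, 5, 5, 10, 9, 8], [5, 4, 6, 4, 5, 4, 5, 5, 4, 5, 5, 4, 5, 5, 4, 5, 5, 5, 10, 11,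 11, 11, 10, 12, 12, 8, 9, 7, 9, 8, 9, 7, 9, 8, 9, 8, 9, 8, 9], [5, 5, 4, 5, 5, 4, 5, 5, 5, 5, 5, 4, 5, 5, 5, 4, 5, 5, 10, 11, 10, 12, 10, 11, 10, 12, 9, 7, 9, 7, 9, 7, 9, 8, 9, 8, 9, 8, 9, 8, 9, 7, 9, 8], [4, 5, 4, 5, 4, 6, 6, 6, 4, 5, 4, 6, 4, 6, 4, 6, 6, 6, 10, 11, 11, 11, 8, 9, 8, 9, 7, 9, 8, 9, 7, 9, 8], [4, 5, 5, 4, 6, 4, 5, 4, 5, 5, 5, 5, 4, 6, 6, 4, 5, 4, 10, 11, 10, 12, 10, 11, 10, 12, 10, 8, 9, 8, 9, 7, 9, 8, 9, 8, 9, 8, 9, 8, 9, 7], [5, 5, 5, 4, 5, 5, 4, 5, 5, 4, 5, 5, 5, 5, 5, 4, 6, 4, 10, 11, 11, 11, 11, 9, 8, 9, 7, 9, 7, 9, 8, 9, 7, 9], [6, 4, 5, 4, 6, 4, 5, 4, 5, 4, 5, 4, 6, 4, 6, 6, 4, 6, 11, 11, 8, 9, 7, 9, 8, 9, 8, 9, 7, 9, 8, 9, 7, 9, 7],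 [5, 5, 5, 5, 5, 5, 4, 5, 4, 5, 4, 5, 4, 6, 6, 4, 6, 6, 12, 12, 10, 11, 10, 8, 9, 7, 9, 7, 9, 7, 9, 7, 9, 7], [5, 5, 5, 5, 5, 5, 4, 5, 5, 4, 6, 6, 4, 5, 5, 4, 5, 4, 11, 11, 10, 12, 12, 10, 11, 11, 9, 8, 9, 8, 9, 8, 9, 7, 9, 8, 9, 8, 9, 7], [6, 4, 5, 4, 5, 5, 5, 4, 5, 4, 5, 4, 6, 4, 5, 4, 6, 4, 10, 12, 10, 11, 10, 12, 12, 12, 9, 8, 9, 8, 9, 7, 9, 8, 9, 7, 9, 8, 9], [6, 4, 6, 6, 4, 6, 6, 4, 5, 4, 5, 4, 6, 6, 6, 4, 6, 4, 11, 11, 11, 10, 12, 12, 10, 11, 8, 9, 8, 9, 7, 9, 8, 9, 7, 9], [5, 4, 6, 6, 4, 6, 6, 6, 6, 4, 5, 5, 5, 5, 4, 5, 5, 5, 11, 10, 12, 12, 12, 9, 8, 9, 7, 9, 8, 9, 7, 9, 7, 9, 8, 9, 7, 9], [4, 5, 4, 5, 5, 4, 6, 4, 6, 4, 5, 4, 5, 4, 5, 5, 5, 4, 10,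 11, 11, 10, 12, 12, 10, 9, 8, 9, 7, 9, 7, 9, 7, 9, 7, 9], [4, 5, 4, 6, 4, 5, 5, 4, 6, 4, 5, 5, 4, 5, 5, 4, 6, 6, 10, 12, 10, 11, 10, 12, 8, 9, 8, 9, 8, 9, 8, 9, 7, 9, 7, 9, 7, 9], [5, 4, 6, 4, 5, 4, 5, 5, 5, 5, 4, 6, 6, 4, 5, 4, 5, 5, 11, 10, 12, 12, 10, 11, 11, 8, 9, 8, 9, 8, 9, 8, 9, 7, 9, 7], [6, 6, 4, 6, 6, 6, 6, 6, 4, 6, 4, 6, 6, 6, 4, 5, 5, 4, 11, 10, 12, 10, 11, 11, 11, 9, 7, 9, 8, 9, 7, 9, 8, 9, 8, 9, 8, 9, 8, 9, 7, 9], [5, 4, 6, 6, 4, 6, 4, 6, 6, 4, 5, 4, 6, 6, 4, 5, 5, 5, 10, 12, 12, 12, 9, 8, 9, 7, 9, 7, 9, 8, 9, 8, 9, 8, 9, 8, 9], [4, 5, 5, 4, 6, 6, 6, 4, 5, 4, 5, 4, 5, 5, 5, 5, 5, 5, 12, 12, 10, 9, 8, 9, 8, 9, 7, 9, 7, 9, 8, 9, 8, 9], [4, 5, 4,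 6, 4, 6, 4, 5, 5, 5, 4, 6, 6, 6, 4, 6, 4, 6, 11, 11, 11, 11, 11, 11, 11, 9, 8, 9, 7, 9, 8, 9, 7, 9, 7, 9, 8, 9, 7, 9, 7, 9, 7], [6, 6, 4, 5, 5, 5, 4, 5, 4, 5, 5, 4, 5, 5, 4, 6, 6, 4, 10, 11, 10, 12, 12, 12, 8, 9, 7, 9, 7, 9, 7, 9, 8, 9, 7, 9, 8, 9, 8, 9, 7, 9], [4, 6, 6, 6, 6, 4, 6, 6, 4, 5, 4, 5, 4, 6, 4, 6, 4, 5, 10, 11, 10, 12, 10, 11, 11, 11, 8, 9, 7, 9, 8, 9, 7, 9, 7, 9, 8, 9, 8, 9, 7, 9, 8, 9, 8], [6, 4, 5, 4, 6, 6, 6, 4, 5, 4, 5, 5, 4, 6, 4, 5, 4, 6, 11, 11, 10, 12, 12, 12, 10, 11, 9, 8, 9, 8, 9, 8, 9, 7, 9, 8, 9, 7, 9, 8, 9, 8, 9, 8], [5, 5, 4, 5, 5, 4, 6, 6, 4, 5, 4, 6, 4, 6, 6, 6, 4, 5, 10, 9, 7, 9, 8, 9, 7, 9, 8, 9, 7], [6, 6, 4, 5, 5, 4, 5, 5,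 4, 6, 6, 6, 4, 5, 4, 6, 4, 5, 10, 12, 10, 11, 10, 12, 10, 11, 10, 8, 9, 8, 9, 8, 9, 7, 9, 7], [4, 5, 4, 5, 5, 5, 5, 5, 4, 5, 5, 5, 4, 5, 4, 5, 5, 4, 11, 11, 10, 12, 8, 9, 7, 9, 8, 9, 8, 9, 7, 9, 8, 9, 8, 9, 8, 9], [5, 4, 5, 5, 4, 5, 5, 5, 5, 4, 6, 6, 6, 6, 4, 5, 5, 4, 10, 11, 10, 12, 12, 10, 9, 7, 9, 7, 9, 7, 9, 8, 9, 7, 9, 8, 9, 8, 9, 7], [6, 6, 6, 6, 4, 5, 5, 5, 5, 5, 4, 6, 4, 5, 5, 5, 5, 5, 11, 11, 10, 12, 10, 11, 10, 9, 7, 9, 7, 9, 8, 9, 8, 9, 7, 9, 7, 9, 8, 9, 7, 9, 8], [4, 6, 6, 6, 6, 4, 6, 4, 6, 4, 6, 4, 5, 5, 4, 6, 6, 6, 10, 12, 10, 11, 10, 12, 10, 11, 10, 9, 7, 9, 7, 9, 7, 9, 8, 9, 7, 9, 8, 9, 8, 9], [6, 6, 6, 6, 6, 6, 4, 5, 5, 5, 5, 5, 5, 4, 6, 6,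 6, 6, 10, 11, 10, 12, 12, 9, 8, 9, 8, 9, 7, 9, 8, 9, 8, 9, 8, 9], [5, 4, 5, 4, 5, 4, 5, 4, 6, 4, 6, 6, 4, 6, 6, 4, 6, 6, 11, 11, 10, 12, 10, 9, 8, 9, 8, 9, 8, 9, 7, 9, 8, 9, 7, 9, 8], [6, 6, 6, 4, 6, 6, 4, 5, 5, 5, 4, 5, 5, 4, 5, 5, 4, 5, 11, 10, 9, 7, 9, 8, 9, 7, 9, 7, 9, 8, 9, 8, 9, 7, 9, 8], [4, 5, 4, 5, 4, 6, 4, 6, 4, 5, 5, 4, 5, 5, 4, 5, 4, 5, 10, 11, 11, 10, 12, 8, 9, 7, 9, 8, 9, 7, 9, 8, 9, 8, 9, 7, 9, 7, 9, 7, 9, 7], [5, 4, 5, 4, 5, 4, 5, 5, 4, 5, 4, 6, 6, 6, 4, 5, 4, 5, 11, 11, 10, 12, 10, 11, 11, 9, 7, 9, 8, 9, 8, 9, 8, 9, 8, 9, 8, 9, 7, 9, 8, 9], [5, 5, 5, 5, 4, 5, 5, 5, 5, 4, 6, 6, 4, 5, 5, 5, 5, 4, 11, 11, 11, 11, 10, 12, 9, 7, 9, 7, 9, 7, 9,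 8, 9, 8, 9, 8], [6, 6, 4, 6, 6, 6, 6, 4, 5, 5, 4, 6, 6, 4, 6, 6, 4, 6, 10, 11, 11, 11, 8, 9, 7, 9, 8, 9, 8, 9, 7, 9, 8, 9, 7, 9, 7, 9, 7, 9], [4, 6, 4, 5, 5, 4, 5, 4, 5, 4, 5, 5, 4, 6, 6, 6, 6, 4, 11, 10, 12, 12, 10, 11, 11, 10, 8, 9, 8, 9, 7, 9, 7, 9, 8, 9, 7, 9, 7, 9, 8, 9], [4, 6, 6, 6, 4, 5, 5, 5, 5, 5, 4, 5, 4, 5, 4, 5, 4, 5, 10, 12, 10, 11, 10, 12, 12, 10, 9, 8, 9, 8, 9, 7, 9, 8, 9, 7, 9, 7], [6, 6, 6, 4, 6, 4, 5, 4, 5, 4, 6, 6, 6, 4, 5, 4, 6, 4, 10, 12, 10, 11, 10, 12, 10, 11, 8, 9, 8, 9, 8, 9, 8, 9, 8, 9, 7, 9, 8, 9, 8, 9], [5, 4, 5, 5, 5, 5, 5, 4, 5, 4, 6, 4, 6, 6, 4, 5, 5, 4, 10, 12, 12, 12, 8, 9, 7, 9, 8], [4, 6, 4, 6, 4, 5, 5, 5, 4, 5, 4, 5, 4,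 6, 4, 5, 5, 5, 10, 11, 10, 12, 10, 11, 10, 9, 7, 9, 7, 9, 7, 9, 7, 9, 8, 9, 8, 9, 7], [5, 4, 6, 4, 6, 4, 5, 5, 5, 4, 5, 5, 5, 5, 5, 4, 5, 4, 11, 11, 10, 12, 12, 12, 10, 11, 8, 9, 7, 9, 7], [4, 6, 4, 5, 4, 5, 4, 6, 4, 5, 5, 4, 5, 4, 5, 4, 6, 6, 12, 10, 11, 11, 8, 9, 7, 9, 8, 9, 8, 9, 7, 9, 8], [6, 6, 6, 6, 6, 4, 5, 5, 5, 4, 6, 6, 4, 6, 6, 6, 6, 4, 11, 11, 11, 11, 8, 9, 8, 9, 8, 9], [6, 4, 6, 4, 6, 6, 4, 5, 5, 4, 5, 5, 4, 6, 6, 4, 5, 5, 4, 11, 11, 10, 12, 12, 12, 10, 9, 8, 9, 7, 9, 8, 9, 7, 9, 8, 9, 7, 9, 7, 9, 8, 9, 8], [4, 5, 5, 4, 6, 6, 4, 5, 5, 4, 6, 6, 4, 5, 5, 4, 6, 6, 4, 10, 12, 12, 10, 11, 11, 10, 9, 8, 9, 7, 9, 7, 9, 8, 9, 7, 9, 8, 9, 8, 9, 7, 9], [6,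 6, 4, 6, 6, 6, 4, 6, 4, 5, 5, 4, 5, 5, 4, 5, 4, 5, 4, 10, 11, 10, 12, 10, 11, 10, 9, 8, 9, 8, 9, 8, 9, 7], [4, 5, 4, 5, 4, 5, 5, 5, 4, 5, 5, 4, 5, 5, 4, 5, 4, 6, 6, 10, 12, 12, 12, 10, 11, 10, 9, 7, 9, 7, 9, 7, 9, 7, 9, 8, 9, 7, 9, 8, 9, 8, 9, 8, 9, 8, 9], [6, 4, 5, 4, 5, 5, 4, 5, 5, 4, 6, 6, 4, 5, 4, 5, 4, 5, 5, 10, 12, 10, 11, 10, 12, 12, 8, 9, 7, 9, 8, 9, 8, 9], [4, 6, 6, 6, 4, 6, 6, 4, 6, 4, 5, 4, 5, 5, 4, 5, 5, 5, 4, 11, 10, 12, 12, 10, 11, 11, 10, 12, 9, 7, 9, 7, 9, 7, 9, 7, 9, 8, 9, 7, 9, 8, 9, 8, 9, 8, 9, 8, 9], [4, 6, 6, 4, 6, 6, 6, 4, 6, 4, 6, 6, 4, 6, 4, 5, 5, 5, 4, 11, 10, 9, 7, 9, 7, 9, 8, 9, 8, 9, 7, 9, 7, 9, 7], [5, 5, 4, 6, 6, 4, 6, 4, 5, 5,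 4, 6, 4, 6, 4, 6, 4, 6, 4, 10, 11, 10, 12, 12, 12, 8, 9, 7, 9, 7, 9, 7, 9, 8, 9, 7], [6, 6, 6, 4, 5, 5, 4, 6, 6, 4, 6, 6, 6, 4, 6, 4, 5, 5, 5, 12, 12, 10, 11, 10, 8, 9, 7, 9, 7, 9, 7, 9, 8, 9, 7, 9, 8], [5, 4, 5, 5, 4, 5, 5, 4, 5, 4, 6, 4, 5, 5, 4, 5, 5, 5, 5, 11, 10, 12, 10, 11, 11, 10, 9, 8, 9, 8, 9, 7, 9, 7, 9, 8, 9, 8, 9, 8, 9, 8], [5, 4, 5, 5, 4, 5, 5, 4, 5, 5, 5, 5, 4, 6, 6, 6, 6, 6, 4, 10, 12, 12, 10, 11, 11, 10, 12, 9, 8, 9, 7, 9, 8, 9, 7], [4, 6, 4, 5, 5, 4, 5, 5, 4, 5, 5, 4, 5, 5, 4, 6, 6, 6, 6, 11, 10, 12, 10, 11, 11, 10, 8, 9, 7, 9, 8, 9, 7, 9, 8, 9, 8, 9, 7, 9, 8, 9, 8], [4, 5, 4, 6, 6, 6, 4, 5, 4, 5, 4, 5, 4, 5, 5, 5, 4, 6, 4, 10, 12, 12, 12,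 10, 11, 8, 9, 7, 9, 7, 9, 7, 9, 8, 9, 7, 9, 7, 9, 8], [6, 4, 6, 4, 6, 4, 5, 5, 4, 5, 4, 5, 4, 6, 6, 6, 6, 4, 6, 11, 11, 11, 8, 9, 8, 9, 7, 9, 7], [4, 5, 5, 5, 5, 4, 5, 4, 6, 4, 6, 4, 6, 6, 6, 4, 6, 6, 6, 11, 11, 10, 12, 10, 8, 9, 7, 9, 7, 9, 8, 9, 7, 9, 7, 9, 7, 9, 7], [4, 6, 4, 6, 6, 4, 5, 5, 5, 5, 5, 4, 6, 4, 6, 6, 6, 6, 4, 11, 11, 11, 10, 12, 12, 10, 11, 8, 9, 7, 9, 8, 9, 8, 9, 8, 9, 7, 9, 8, 9, 7, 9, 7], [4, 6, 6, 4, 5, 5, 5, 5, 4, 5, 4, 5, 4, 6, 4, 5, 5, 4, 6, 10, 12, 10, 11, 10, 12, 12, 10, 9, 8, 9, 7, 9, 7, 9, 8, 9, 7, 9, 8, 9, 8, 9], [4, 6, 6, 4, 5, 5, 4, 5, 5, 4, 6, 4, 5, 4, 5, 4, 6, 6, 4, 10, 12, 12, 12, 10, 9, 8, 9, 8, 9, 8, 9, 7, 9, 7, 9, 7, 9,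 7, 9, 8], [5, 4, 5, 4, 5, 5, 5, 4, 5, 4, 6, 4, 6, 4, 6, 6, 6, 6, 6, 10, 11, 11, 11, 10, 12, 9, 7, 9, 8, 9, 8, 9, 7, 9, 7], [5, 4, 5, 4, 5, 5, 5, 4, 5, 5, 5, 4, 6, 6, 6, 6, 6, 4, 6, 12, 10, 11, 10, 12, 12, 10, 9, 8, 9, 8, 9, 8, 9, 7, 9, 7, 9, 8, 9, 8, 9, 8], [4, 6, 6, 4, 5, 5, 4, 5, 4, 5, 4, 6, 6, 4, 5, 5, 4, 6, 6, 12, 8, 9, 7, 9, 7, 9, 8, 9, 8, 9, 8, 9, 7], [4, 5, 4, 5, 4, 6, 6, 4, 6, 4, 5, 5, 5, 5, 5, 5, 4, 6, 4, 12, 10, 9, 7, 9, 7, 9, 7, 9, 8, 9, 8, 9, 8, 9, 8, 9, 7, 9, 8], [5, 5, 5, 4, 6, 4, 5, 4, 5, 4, 6, 4, 6, 4, 5, 4, 6, 6, 6, 9, 7, 9, 8, 9], [6, 4, 6, 4, 5, 4, 6, 4, 5, 4, 5, 5, 5, 4, 6, 6, 6, 6, 4, 12, 10, 11, 10, 12, 9, 7, 9, 7, 9, 8, 9, 8, 9, 7, 9,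 7, 9, 8, 9, 8, 9, 7, 9, 8], [4, 6, 4, 6, 4, 5, 4, 5, 5, 4, 6, 4, 6, 6, 4, 5, 4, 5, 5, 10, 12, 12, 10, 11, 9, 8, 9, 8, 9, 8, 9, 7, 9, 7, 9, 7, 9, 8, 9], [4, 5, 4, 6, 6, 6, 4, 6, 6, 4, 6, 6, 4, 5, 5, 4, 5, 5, 4, 11, 11, 10, 12, 10, 11, 10, 12, 12, 8, 9, 8, 9, 7, 9, 8, 9, 8, 9, 8, 9, 8, 9, 8, 9, 7], [6, 6, 6, 6, 4, 5, 4, 5, 5, 4, 6, 6, 4, 6, 4, 5, 5, 5, 5, 12, 10, 11, 11, 10, 8, 9, 7, 9, 7, 9, 8, 9, 8, 9, 8, 9, 7], [4, 5, 4, 5, 4, 5, 5, 4, 6, 4, 5, 5, 4, 6, 4, 6, 4, 5, 4, 10, 12, 10, 11, 10, 12, 12, 10, 8, 9, 8, 9, 7, 9, 7, 9, 8, 9, 7, 9, 8], [5, 5, 5, 4, 5, 4, 5, 5, 5, 4, 5, 5, 5, 4, 5, 5, 5, 5, 4, 12, 12, 12, 12, 8, 9, 8, 9, 7, 9, 8, 9, 8, 9, 8], [6, 6, 6,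 6, 6, 6, 4, 6, 6, 4, 5, 4, 5, 5, 4, 6, 6, 6, 6, 10, 12, 10, 11, 11, 10, 12, 8, 9, 8, 9, 8, 9, 7, 9, 8, 9, 7, 9, 7, 9, 7, 9], [5, 5, 4, 6, 4, 5, 4, 5, 4, 5, 4, 6, 6, 4, 5, 4, 5, 4, 6, 12, 10, 11, 8, 9, 8, 9, 7, 9, 7, 9, 7], [5, 4, 6, 4, 6, 6, 6, 6, 4, 5, 4, 5, 4, 5, 5, 4, 5, 4, 5, 11, 10, 12, 12, 10, 11, 11, 8, 9, 8, 9, 8, 9, 7, 9], [4, 6, 4, 5, 5, 5, 4, 6, 6, 4, 6, 4, 5, 4, 6, 6, 6, 4, 6, 12, 12, 10, 11, 10, 12, 8, 9, 7, 9, 7, 9, 7, 9, 8, 9, 7, 9, 8, 9, 8, 9, 8, 9], [4, 5, 4, 6, 6, 6, 6, 6, 4, 5, 5, 5, 4, 5, 4, 5, 5, 5, 4, 11, 11, 10, 12, 10, 11, 9, 7, 9, 7, 9, 7, 9, 8, 9, 8, 9, 7, 9, 7, 9, 8, 9, 8, 9, 8], [6, 4, 5, 4, 6, 6, 6, 6, 6, 4, 6, 6, 6, 6, 4, 5, 4,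 5, 4, 10, 12, 12, 9, 8, 9, 8, 9, 7, 9, 7, 9, 8, 9, 8, 9, 8], [4, 6, 4, 5, 5, 4, 5, 5, 5, 4, 5, 4, 5, 4, 6, 6, 6, 6, 4, 10, 12, 10, 11, 10, 12, 12, 10, 8, 9, 8, 9, 7, 9, 8, 9, 7, 9, 8], [5, 4, 5, 5, 5, 5, 4, 5, 4, 5, 4, 6, 6, 6, 4, 5, 4, 5, 5, 12, 10, 11, 11, 10, 12, 12, 10, 9, 8, 9, 7, 9, 7, 9, 7, 9, 7, 9, 7, 9, 7, 9, 8], [5, 4, 5, 5, 4, 5, 5, 5, 4, 5, 4, 5, 5, 5, 5, 4, 6, 6, 6, 10, 12, 10, 11, 11, 11, 10, 9, 8, 9, 7, 9, 8, 9, 8, 9, 8], [6, 6, 6, 4, 6, 4, 6, 4, 5, 4, 5, 5, 4, 5, 5, 4, 6, 4, 6, 10, 12, 10, 11, 8, 9, 8, 9, 8, 9, 7, 9, 7], [6, 6, 6, 4, 6, 4, 6, 4, 5, 5, 5, 5, 4, 6, 4, 5, 5, 5, 4, 11, 10, 12, 12, 10, 11, 11, 10, 8, 9, 8, 9, 7, 9, 7, 9, 7, 9, 8,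 9], [4, 5, 4, 6, 6, 4, 5, 5, 5, 4, 6, 6, 4, 6, 4, 5, 4, 5, 5, 11, 10, 12, 10, 11, 10, 12, 10, 9, 7, 9, 7, 9, 7, 9, 7, 9, 8, 9, 7, 9, 8, 9, 8, 9, 8, 9], [6, 4, 6, 6, 4, 6, 6, 6, 6, 4, 6, 6, 6, 4, 5, 5, 5, 4, 5, 10, 12, 12, 10, 11, 11, 8, 9, 7, 9, 8, 9, 8, 9, 7, 9, 7], [6, 6, 6, 6, 4, 5, 4, 6, 6, 4, 6, 4, 5, 4, 6, 4, 6, 4, 5, 10, 11, 11, 10, 12, 12, 10, 8, 9, 7, 9, 8, 9, 7, 9, 8, 9, 8, 9, 7, 9, 7], [4, 5, 5, 5, 5, 5, 4, 6, 4, 5, 4, 6, 6, 6, 6, 6, 4, 6, 6, 10, 12, 10, 11, 8, 9, 7, 9, 7, 9, 8, 9, 7, 9, 8, 9, 7, 9, 8, 9, 8, 9], [4, 6, 4, 6, 4, 5, 4, 5, 4, 5, 5, 5, 5, 5, 4, 5, 5, 4, 5, 10, 11, 11, 11, 10, 12, 10, 9, 7, 9, 7, 9, 8, 9, 8, 9, 7, 9, 7, 9, 8, 9, 7, 9],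 [6, 6, 6, 6, 6, 4, 5, 4, 5, 4, 6, 4, 6, 4, 5, 5, 5, 5, 4, 12, 12, 12, 12, 10, 8, 9, 8, 9, 7, 9, 8, 9, 8, 9, 8, 9, 7], [6, 4, 6, 4, 5, 5, 5, 4, 5, 5, 5, 4, 6, 4, 5, 5, 4, 6, 4, 11, 10, 12, 12, 10, 11, 9, 8, 9, 8, 9, 8, 9], [4, 6, 4, 6, 4, 6, 4, 5, 5, 5, 5, 4, 6, 6, 6, 6, 6, 4, 5, 10, 11, 10, 12, 10, 11, 11, 10, 9, 8, 9, 7, 9, 7, 9, 7, 9, 7, 9, 8, 9, 8, 9, 7], [4, 5, 4, 6, 6, 4, 6, 4, 5, 5, 5, 4, 6, 6, 6, 4, 5, 5, 4, 8, 9, 7, 9, 8, 9, 8, 9, 7, 9, 7, 9, 8, 9, 8, 9, 8, 9, 8], [4, 5, 4, 6, 4, 6, 4, 5, 5, 4, 5, 4, 6, 6, 6, 4, 6, 6, 6, 12, 10, 11, 11, 11, 10, 9, 8, 9, 7, 9, 8, 9, 8, 9, 8], [6, 6, 4, 5, 5, 5, 5, 5, 5, 4, 5, 5, 5, 4, 5, 5, 5, 5, 5, 10, 12, 12, 10,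 11, 10, 12, 10, 9, 7, 9, 8, 9, 7, 9, 7, 9, 7, 9, 8, 9, 8, 9, 8], [6, 4, 6, 6, 4, 6, 6, 4, 6, 4, 5, 4, 5, 5, 4, 5, 5, 4, 5, 12, 12, 12, 12, 12, 12, 9, 8, 9, 7, 9, 8, 9, 8, 9, 8, 9], [4, 6, 4, 6, 4, 5, 5, 4, 5, 5, 4, 6, 6, 6, 6, 6, 6, 4, 5, 10, 12, 12, 10, 11, 9, 7, 9, 8, 9, 7, 9, 8, 9, 7, 9, 7, 9, 7, 9, 7], [4, 5, 4, 6, 4, 5, 4, 5, 4, 5, 4, 6, 6, 6, 6, 6, 4, 5, 5, 10, 12, 12, 12, 8, 9, 8, 9, 8, 9, 7, 9, 8, 9, 7, 9, 7, 9, 7, 9, 8, 9], [6, 4, 6, 6, 4, 5, 5, 5, 4, 5, 4, 6, 4, 6, 4, 6, 6, 4, 6, 10, 11, 10, 12, 12, 10, 11, 8, 9, 8, 9, 8, 9, 8, 9, 8, 9], [4, 6, 6, 6, 6, 4, 5, 4, 5, 5, 5, 4, 6, 6, 4, 5, 4, 5, 4, 12, 10, 11, 10, 12, 10, 11, 11, 8, 9, 7, 9, 8, 9, 7,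 9, 8, 9, 8, 9, 7, 9, 8, 9, 7], [5, 4, 5, 5, 4, 5, 4, 5, 4, 5, 4, 5, 4, 5, 5, 5, 4, 5, 4, 12, 12, 12, 12, 12, 8, 9, 7, 9, 7, 9, 8, 9, 7, 9, 8, 9, 7], [5, 5, 5, 5, 4, 6, 6, 6, 6, 4, 5, 5, 4, 5, 5, 4, 6, 6, 6, 12, 12, 10, 11, 10, 12, 12, 9, 7, 9, 7, 9, 8, 9, 8, 9, 7, 9, 7, 9, 8, 9, 7, 9, 8], [4, 6, 4, 5, 4, 6, 4, 5, 5, 4, 6, 6, 6, 4, 5, 4, 6, 4, 6, 10, 12, 10, 11, 11, 9, 8, 9, 7, 9, 8, 9, 7, 9, 7, 9, 7, 9, 7], [6, 6, 6, 4, 5, 4, 5, 5, 5, 5, 5, 4, 5, 5, 4, 5, 5, 5, 4, 10, 11, 10, 12, 10, 11, 11, 10, 9, 7, 9, 8, 9, 7, 9, 8], [5, 5, 5, 4, 5, 5, 4, 5, 4, 5, 4, 6, 6, 4, 6, 4, 5, 4, 6, 12, 10, 11, 10, 12, 12, 9, 7, 9, 8, 9, 7, 9, 7, 9, 7, 9], [6, 4, 5, 4, 6, 4, 5,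 5, 4, 5, 4, 5, 4, 6, 6, 6, 6, 6, 4, 11, 10, 12, 12, 12, 12, 8, 9, 7, 9, 8, 9, 8, 9, 7, 9, 7, 9, 8, 9, 8, 9, 7, 9], [6, 6, 6, 6, 6, 4, 6, 6, 4, 5, 4, 5, 5, 5, 5, 4, 5, 4, 6, 11, 11, 11, 10, 12, 12, 10, 8, 9, 8, 9, 8, 9, 7, 9, 7], [4, 5, 5, 5, 5, 5, 4, 5, 4, 5, 5, 4, 6, 4, 5, 4, 6, 4, 5, 11, 10, 12, 12, 10, 11, 10, 8, 9, 7, 9, 7, 9, 8, 9, 7, 9, 7, 9, 7, 9], [4, 5, 4, 6, 4, 6, 6, 6, 4, 5, 4, 6, 4, 5, 5, 4, 6, 4, 6, 10, 12, 10, 11, 10, 12, 9, 7, 9, 8, 9, 8, 9, 8, 9, 8, 9], [6, 4, 5, 4, 5, 5, 5, 5, 5, 5, 4, 6, 4, 5, 4, 5, 4, 5, 4, 12, 12, 12, 12, 12, 12, 8, 9, 7, 9, 8, 9, 8, 9, 7, 9, 8, 9, 8, 9, 7, 9, 7, 9, 8], [6, 4, 5, 4, 6, 4, 5, 5, 5, 5, 5, 4, 6, 6, 4, 6, 6,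 4, 5, 10, 11, 11, 11, 10, 9, 7, 9, 8, 9, 8, 9, 8, 9, 8, 9, 8, 9, 8, 9, 7], [4, 5, 4, 5, 4, 5, 4, 5, 4, 5, 4, 5, 4, 5, 5, 4, 5, 4, 6, 10, 12, 10, 11, 11, 10, 12, 12, 9, 8, 9, 7, 9, 8, 9, 7], [5, 4, 5, 4, 6, 4, 5, 5, 4, 5, 4, 6, 4, 6, 6, 4, 6, 4, 6, 12, 12, 10, 11, 10, 12, 10, 11, 8, 9, 7, 9, 8, 9, 7, 9, 7, 9, 8, 9, 8, 9, 7, 9, 7], [5, 4, 5, 5, 5, 5, 5, 4, 6, 4, 5, 5, 5, 4, 5, 4, 6, 6, 6, 6, 10, 12, 12, 10, 11, 10, 12, 9, 7, 9, 7, 9, 8, 9, 8, 9, 7, 9, 7, 9, 8], [6, 4, 5, 4, 5, 5, 4, 5, 5, 5, 5, 5, 5, 4, 5, 5, 4, 5, 4, 6, 10, 11, 10, 12, 10, 11, 10, 12, 9, 8, 9, 7, 9, 7, 9, 7, 9, 7, 9, 8, 9, 8], [5, 4, 5, 4, 5, 5, 4, 5, 5, 4, 5, 4, 5, 4, 5, 4, 6, 4, 6, 4, 10,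 11, 11, 10, 9, 7, 9, 8, 9, 8, 9, 7], [5, 5, 4, 5, 5, 5, 5, 4, 6, 4, 5, 5, 4, 6, 6, 4, 6, 6, 6, 6, 10, 11, 9, 7, 9, 8, 9, 7, 9, 7, 9, 8, 9, 7, 9, 7, 9, 8], [6, 4, 5, 4, 5, 5, 4, 6, 6, 4, 6, 6, 6, 6, 6, 4, 6, 4, 5, 4, 10, 12, 12, 10, 11, 11, 8, 9, 8, 9, 8, 9, 7, 9, 8, 9, 7, 9, 7, 9, 7, 9, 7, 9, 7], [5, 4, 6, 6, 4, 5, 4, 6, 4, 5, 4, 5, 4, 6, 4, 6, 6, 4, 6, 6, 10, 11, 10, 12, 10, 11, 11, 10, 9, 8, 9, 7, 9, 7, 9, 8, 9, 7, 9, 8, 9, 8, 9, 8], [5, 5, 4, 5, 5, 4, 6, 4, 5, 4, 5, 4, 6, 6, 6, 4, 5, 5, 4, 6, 11, 11, 11, 11, 11, 11, 11, 9, 7, 9, 8, 9, 7, 9, 7, 9, 8, 9, 8, 9, 7, 9], [5, 5, 4, 5, 5, 5, 4, 5, 4, 5, 4, 6, 4, 6, 4, 6, 4, 5, 5, 5, 11, 11, 11, 10, 9, 7, 9, 7,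 9, 7, 9, 8, 9, 8, 9, 7, 9, 7, 9, 8, 9, 7], [5, 5, 4, 6, 4, 6, 6, 4, 6, 4, 5, 4, 6, 6, 4, 5, 4, 6, 4, 5, 10, 11, 11, 10, 12, 10, 9, 7, 9, 8, 9, 7, 9, 7, 9, 8, 9, 8, 9, 8, 9], [5, 4, 5, 4, 5, 5, 4, 5, 4, 5, 5, 5, 4, 5, 4, 6, 6, 4, 6, 4, 11, 10, 12, 12, 12, 10, 11, 8, 9, 8, 9, 8, 9], [6, 4, 5, 4, 6, 4, 6, 4, 6, 4, 6, 4, 5, 4, 5, 5, 5, 4, 6, 4, 11, 11, 9, 8, 9, 7, 9, 7, 9, 7, 9, 7, 9, 8, 9, 8, 9, 7], [5, 4, 5, 5, 5, 5, 4, 6, 6, 6, 4, 5, 4, 5, 5, 5, 5, 4, 5, 5, 10, 12, 10, 11, 10, 12, 12, 12, 9, 7, 9, 8, 9, 7, 9, 8, 9, 8, 9, 8, 9, 7, 9], [5, 5, 4, 6, 6, 4, 6, 6, 6, 4, 5, 4, 6, 4, 6, 6, 4, 5, 4, 6, 10, 12, 12, 12, 10, 11, 10, 8, 9, 7, 9, 7, 9, 7, 9, 8, 9, 7, 9,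 8, 9, 7, 9, 8], [6, 6, 4, 6, 4, 6, 6, 4, 5, 5, 5, 4, 6, 6, 4, 6, 4, 5, 5, 5, 12, 12, 10, 8, 9, 7, 9, 8, 9, 7, 9, 8, 9, 7, 9, 7, 9, 8, 9, 7], [5, 4, 5, 4, 6, 6, 6, 6, 6, 4, 6, 6, 6, 4, 5, 5, 4, 6, 4, 6, 12, 10, 11, 11, 10, 9, 8, 9, 7, 9, 8, 9, 7, 9, 8, 9, 7, 9, 7, 9, 8, 9, 8], [6, 6, 6, 4, 5, 4, 6, 6, 6, 4, 5, 4, 5, 5, 5, 4, 5, 5, 4, 6, 12, 12, 12, 12, 12, 12, 12, 9, 7, 9, 8, 9, 7, 9, 7, 9, 7, 9, 8, 9, 8, 9, 7, 9, 8], [5, 4, 5, 4, 6, 4, 5, 5, 4, 6, 4, 5, 5, 5, 5, 5, 5, 4, 5, 5, 10, 11, 10, 12, 12, 10, 9, 7, 9, 7, 9, 8, 9, 8, 9, 7, 9, 7, 9, 8, 9, 7, 9, 7], [6, 4, 6, 6, 6, 6, 4, 5, 5, 5, 5, 5, 4, 5, 5, 4, 5, 4, 5, 5, 10, 12, 10, 11, 11, 11, 10, 9, 8, 9, 8, 9,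 8, 9, 7, 9, 7, 9, 8], [4, 5, 5, 4, 6, 4, 5, 4, 6, 6, 4, 6, 6, 4, 6, 6, 6, 4, 5, 4, 12, 10, 11, 11, 10, 12, 10, 9, 8, 9, 8, 9, 8, 9, 7, 9, 8, 9, 7, 9], [5, 4, 5, 4, 6, 4, 6, 6, 6, 4, 5, 4, 5, 5, 5, 4, 5, 4, 6, 4, 11, 11, 11, 10, 8, 9, 7, 9, 7, 9, 7, 9, 7, 9], [4, 6, 6, 4, 6, 4, 6, 4, 6, 4, 5, 5, 4, 5, 5, 5, 5, 4, 5, 5, 10, 12, 12, 10, 11, 11, 10, 12, 12, 9, 7, 9, 8, 9, 7, 9, 8, 9, 7, 9, 7, 9, 7], [6, 6, 6, 4, 5, 4, 5, 4, 5, 5, 5, 4, 6, 4, 6, 6, 4, 5, 4, 6, 10, 11, 11, 11, 10, 12, 10, 9, 7, 9, 7, 9, 8, 9, 7, 9, 7], [4, 5, 5, 4, 6, 6, 6, 4, 6, 4, 5, 5, 4, 6, 4, 5, 5, 5, 5, 4, 12, 12, 10, 8, 9, 7, 9, 8, 9, 7, 9, 8, 9, 7], [6, 6, 4, 5, 5, 5, 4, 6, 6, 4, 6, 6, 4,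 6, 4, 5, 4, 5, 4, 6, 12, 10, 11, 10, 12, 12, 8, 9, 7, 9, 8, 9, 7, 9, 7, 9, 7, 9, 7, 9, 8, 9, 8, 9], [6, 4, 6, 6, 6, 6, 6, 4, 6, 6, 4, 6, 6, 6, 4, 5, 5, 4, 5, 5, 10, 12, 10, 11, 10, 12, 12, 9, 8, 9, 8, 9, 7, 9, 7, 9, 7, 9, 8, 9, 8, 9], [5, 5, 5, 4, 6, 6, 6, 4, 6, 4, 5, 4, 6, 6, 4, 5, 4, 5, 4, 5, 10, 12, 12, 10, 11, 8, 9, 8, 9, 8, 9, 8, 9, 8, 9, 8, 9, 7, 9, 7, 9, 8, 9], [4, 5, 5, 5, 5, 4, 6, 6, 4, 5, 5, 5, 4, 5, 4, 5, 4, 6, 4, 5, 10, 12, 12, 12, 10, 11, 10, 8, 9, 8, 9, 8, 9, 7, 9, 8, 9, 7, 9, 7, 9, 7, 9, 7], [4, 5, 4, 6, 6, 6, 4, 6, 4, 5, 5, 4, 5, 5, 4, 5, 5, 5, 5, 4, 10, 11, 11, 11, 11, 10, 12, 9, 8, 9, 7, 9, 7, 9, 8, 9, 8, 9, 8, 9, 8, 9, 8], [6, 4, 6, 6, 6,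 6, 6, 4, 6, 4, 5, 4, 5, 4, 6, 4, 6, 4, 5, 4, 11, 11, 10, 12, 12, 10, 11, 8, 9], [4, 6, 4, 5, 4, 6, 4, 5, 5, 5, 5, 4, 6, 6, 6, 6, 6, 4, 5, 4, 10, 12, 12, 10, 11, 11, 10, 8, 9, 7, 9, 8, 9, 7, 9, 8, 9, 8, 9, 7, 9, 8], [5, 5, 4, 6, 6, 6, 4, 5, 4, 5, 5, 4, 6, 4, 6, 6, 6, 6, 6, 4, 12, 10, 11, 11, 10, 12, 10, 8, 9, 8, 9, 8, 9, 7, 9, 7, 9, 7], [6, 6, 6, 6, 4, 5, 4, 5, 5, 5, 4, 6, 4, 5, 5, 4, 6, 4, 6, 4, 12, 10, 11, 10, 12, 12, 12, 9, 7, 9, 8, 9, 7, 9, 7, 9, 8, 9, 8, 9, 7], [5, 5, 5, 5, 5, 4, 5, 4, 5, 5, 5, 4, 5, 5, 4, 6, 4, 5, 5, 4, 10, 12, 12, 10, 11, 10, 12, 10, 8, 9, 8, 9, 7, 9, 8, 9, 7, 9], [5, 5, 4, 5, 4, 5, 4, 5, 4, 5, 4, 5, 4, 5, 5, 5, 5, 4, 5, 4, 11, 11, 10,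 12, 10, 11, 10, 12, 12, 8, 9, 8, 9, 8, 9, 7, 9, 7, 9, 8, 9, 8, 9, 8, 9, 8, 9, 7], [4, 5, 5, 4, 6, 6, 4, 5, 4, 6, 4, 6, 4, 5, 4, 6, 6, 4, 5, 5, 12, 10, 11, 11, 10, 12, 12, 10, 8, 9, 8, 9, 8], [6, 4, 5, 4, 5, 5, 5, 5, 4, 5, 4, 6, 6, 4, 6, 6, 6, 4, 6, 4, 12, 12, 10, 11, 11, 8, 9, 7, 9, 8, 9, 8, 9, 8, 9, 8, 9, 8, 9, 7], [6, 4, 6, 6, 6, 6, 4, 5, 4, 5, 4, 5, 5, 4, 6, 4, 6, 6, 4, 5, 10, 11, 10, 12, 12, 12, 12, 8, 9, 8, 9, 7, 9, 8, 9, 8, 9, 8, 9, 8, 9, 8, 9, 7], [5, 4, 5, 5, 5, 5, 4, 6, 6, 4, 6, 6, 6, 6, 4, 6, 6, 6, 6, 4, 10, 12, 12, 10, 11, 10, 8, 9, 8, 9, 8, 9], [5, 5, 4, 6, 4, 5, 5, 5, 4, 5, 4, 6, 4, 5, 5, 4, 6, 6, 6, 6, 11, 10, 12, 12, 10, 8, 9, 7, 9, 7, 9, 8,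 9, 7, 9, 8, 9, 7, 9, 8, 9, 8, 9, 8], [5, 5, 5, 4, 5, 4, 5, 4, 5, 5, 4, 6, 4, 6, 6, 4, 5, 4, 5, 4, 10, 12, 10, 11, 10, 12, 10, 8, 9, 8, 9, 7, 9, 7, 9, 7, 9, 7, 9, 8, 9, 7, 9, 7], [5, 4, 5, 5, 4, 6, 6, 4, 6, 4, 5, 4, 5, 5, 5, 4, 6, 6, 6, 6, 12, 10, 11, 11, 10, 12, 12, 10, 9, 8, 9, 7, 9, 7, 9, 8, 9, 8, 9, 8, 9, 7, 9], [6, 6, 4, 5, 5, 5, 5, 5, 4, 5, 5, 4, 5, 5, 4, 6, 6, 4, 6, 4, 11, 11, 11, 10, 12, 9, 7, 9, 7, 9, 7, 9, 7, 9, 8, 9, 8, 9, 8, 9, 7, 9, 7], [5, 4, 6, 4, 5, 5, 4, 6, 4, 5, 4, 6, 6, 6, 4, 6, 4, 6, 4, 6, 10, 12, 10, 11, 9, 8, 9, 8, 9, 8, 9, 7, 9, 8, 9, 7], [5, 5, 4, 5, 5, 5, 5, 4, 5, 5, 4, 6, 4, 5, 4, 5, 5, 4, 6, 4, 10, 12, 12, 12, 10, 8, 9, 8, 9, 7, 9,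 8, 9, 8], [4, 5, 5, 4, 6, 6, 4, 5, 4, 5, 4, 5, 4, 5, 5, 4, 5, 4, 5, 4, 10, 11, 11, 10, 12, 12, 10, 11, 9, 7, 9, 8, 9, 7, 9, 7, 9, 8, 9, 8, 9, 8, 9, 7], [6, 4, 5, 4, 5, 4, 6, 4, 5, 5, 4, 5, 4, 5, 5, 4, 5, 4, 6, 6, 12, 12, 12, 12, 12, 12, 12, 9, 7, 9, 8, 9, 7, 9, 8, 9, 7, 9, 8, 9, 7, 9, 7, 9], [5, 5, 5, 4, 5, 4, 5, 5, 4, 5, 5, 5, 4, 5, 4, 6, 6, 4, 5, 4, 10, 11, 10, 12, 12, 12, 9, 7, 9, 7, 9, 8, 9, 8, 9, 8, 9, 7, 9], [4, 6, 6, 4, 6, 6, 6, 6, 4, 5, 5, 4, 6, 4, 5, 5, 5, 4, 6, 6, 10, 11, 10, 12, 12, 12, 10, 8, 9, 7, 9, 7, 9, 8, 9, 7, 9, 7, 9, 8, 9, 7, 9, 7, 9], [5, 5, 4, 6, 4, 5, 5, 4, 5, 5, 5, 5, 4, 5, 4, 6, 6, 6, 6, 4, 11, 10, 12, 10, 11, 10, 12, 12, 9, 8, 9,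 8, 9, 8, 9, 7, 9, 7, 9, 8], [6, 4, 5, 4, 5, 5, 5, 4, 6, 4, 5, 5, 5, 4, 6, 4, 6, 6, 4, 5, 10, 11, 11, 10, 12, 12, 10, 8, 9, 7, 9, 8, 9, 7, 9, 7, 9, 7, 9, 7, 9, 8, 9, 7, 9], [4, 6, 6, 6, 4, 6, 6, 4, 5, 4, 5, 5, 4, 5, 4, 5, 4, 5, 5, 4, 11, 11, 10, 12, 12, 12, 10, 9, 8, 9, 8, 9, 7, 9, 8, 9, 8, 9], [4, 6, 6, 4, 5, 5, 5, 5, 5, 4, 5, 5, 4, 6, 6, 6, 6, 4, 6, 6, 12, 8, 9, 7, 9, 8, 9, 7, 9, 7, 9, 7, 9, 7]]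
def rt : RT := (.node 314 (.node 157 (.node 78 (.node 39 (.node 19 (.node 9 (.node 4 (.node 2 (.node 1 (.leaf 0 0 []) (.leaf 1 4 [4, 6, 4, 5, 5, 8, 4, 5, 5, 5])) (.node 3 (.leaf 2 13 [9, 6, 4, 5, 4, 6, 6, 4, 5, 5, 4, 6, 4, 5]) (.leaf 1 9 [8, 4, 5, 5, 5, 4, 6, 4, 5, 5]))) (.node 6 (.node 5 (.leaf 5 6 [5, 5, 5, 5, 5, 5, 5, 5, 5, 5, 5, 5, 5]) (.leaf 2 6 [4, 5, 5, 4, 6, 4, 5, 9, 6, 4, 5, 4, 6, 6])) (.node 7 (.leaf 3 3 [10, 7, 9, 8]) (.node 8 (.leaf 4 23 [12, 9, 7, 9, 7, 9, 7, 9, 7, 9, 7, 9, 7, 9, 8, 9, 7, 9, 7, 9, 7, 9, 8, 9]) (.leaf 10 4 [5, 5, 5, 4, 6, 12, 12, 12, 12, 12, 12, 12, 8, 9, 7, 9, 8, 9, 8, 9, 8, 9, 8, 9, 8, 9, 8, 4, 5, 5, 4]))))) (.node 14 (.node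 11 (.node 10 (.leaf 5 8 [5, 5, 5, 5, 5, 5, 5, 5, 5, 5, 5, 5, 5]) (.leaf 11 6 [5, 4, 6, 6, 4, 5, 10, 11, 11, 10, 12, 12, 12, 8, 9, 8, 9, 7, 9, 8, 9, 8, 9, 8, 9, 7, 9, 5, 4, 5, 5, 5, 4])) (.node 12 (.leaf 12 6 [4, 6, 4, 5, 5, 4, 5, 11, 11, 10, 9, 7, 9, 7, 9, 8, 9, 8, 9, 7, 9, 7, 9, 7, 9, 7, 5, 5, 5, 5, 4, 5]) (.node 13 (.leaf 13 6 [5, 4, 6, 4, 6, 6, 6, 10, 11, 10, 12, 12, 12, 12, 9, 8, 9, 8, 9, 7, 9, 8, 9, 8, 9, 8, 9, 7, 9, 7, 4, 5, 4, 5, 5, 4]) (.leaf 14 6 [5, 4, 5, 4, 6, 6, 6, 10, 11, 10, 12, 10, 11, 10, 8, 9, 7, 9, 8, 9, 8, 9, 8, 9, 8, 9, 8, 9, 8, 9, 6, 6, 6, 4, 5, 5])))) (.node 16 (.node 15 (.leaf 15 7 [4, 5, 5, 5, 5, 5, 4, 10, 11, 11, 11, 10, 8, 9, 8, 9,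 7, 9, 8, 9, 8, 9, 8, 9, 8, 9, 7, 9, 8, 4, 6, 4, 6, 6, 4, 6]) (.leaf 16 7 [4, 5, 4, 5, 5, 4, 5, 10, 12, 10, 11, 11, 11, 10, 9, 8, 9, 7, 9, 7, 9, 8, 9, 7, 9, 7, 9, 7, 9, 8, 9, 7, 5, 4, 6, 4, 6, 4, 6])) (.node 17 (.leaf 17 7 [4, 6, 6, 4, 5, 4, 5, 10, 12, 10, 11, 10, 12, 10, 11, 10, 8, 9, 7, 9, 8, 9, 8, 9, 7, 9, 8, 9, 7, 9, 7, 9, 7, 5, 4, 5, 4, 6, 4, 6]) (.node 18 (.leaf 18 6 [5, 5, 5, 4, 5, 4, 5, 4, 10, 8, 9, 7, 9, 8, 9, 8, 9, 7, 9, 8, 9, 7, 9, 7, 9, 8, 4, 6, 6, 4, 6, 4]) (.leaf 19 7 [5, 4, 6, 6, 6, 6, 6, 10, 12, 10, 11, 11, 10, 12, 8, 9, 7, 9, 7, 9, 8, 9, 7, 9, 7, 9, 7, 9, 8, 5, 4, 5, 5, 4, 6, 4])))))) (.node 29 (.node 24 (.node 21 (.node 20 (.leaf 20 7 [4,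 5, 4, 6, 4, 6, 6, 12, 12, 12, 10, 11, 9, 8, 9, 7, 9, 7, 9, 8, 9, 7, 9, 8, 9, 8, 9, 5, 4, 5, 4, 5, 4, 6]) (.leaf 21 6 [5, 5, 5, 4, 6, 6, 4, 6, 12, 10, 11, 11, 8, 9, 8, 9, 8, 9, 8, 9, 8, 9, 7, 9, 8, 9, 8, 9, 7, 6, 4, 5, 4, 5, 4])) (.node 22 (.leaf 22 7 [5, 4, 5, 5, 5, 4, 5, 10, 11, 11, 10, 12, 10, 11, 9, 8, 9, 8, 9, 8, 9, 7, 9, 7, 9, 5, 4, 5, 4, 5, 5, 5]) (.node 23 (.leaf 5 4 [5, 5, 5, 5, 5, 5, 5, 5, 5, 5, 5, 5, 5]) (.leaf 23 6 [5, 4, 6, 4, 6, 4, 6, 4, 11, 10, 12, 10, 11, 10, 12, 12, 8, 9, 7, 9, 7, 9, 7, 9, 8, 9, 7, 9, 8, 9, 7, 9, 8, 9, 5, 5, 4, 5, 4, 5])))) (.node 26 (.node 25 (.leaf 24 7 [4, 6, 4, 5, 5, 4, 5, 5, 10, 11, 10, 12, 12, 10, 8, 9, 7, 9, 7, 9, 7,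 9, 7, 9, 7, 9, 8, 9, 7, 9, 6, 6, 4, 6, 6, 4, 5]) (.leaf 25 7 [5, 5, 5, 5, 5, 4, 6, 6, 10, 12, 12, 12, 12, 9, 8, 9, 8, 9, 8, 9, 7, 9, 8, 9, 6, 6, 6, 4, 6, 4, 5])) (.node 27 (.leaf 5 10 [5, 5, 5, 5, 5, 5, 5, 5, 5, 5, 5, 5, 5]) (.node 28 (.leaf 26 7 [4, 6, 6, 6, 6, 4, 6, 4, 10, 12, 10, 11, 10, 12, 12, 12, 8, 9, 8, 9, 8, 9, 8, 9, 7, 9, 6, 4, 5, 5, 5, 4, 6]) (.leaf 27 7 [5, 5, 5, 4, 5, 5, 5, 5, 11, 10, 12, 12, 12, 9, 8, 9, 8, 9, 7, 9, 7, 9, 7, 9, 8, 9, 7, 9, 7, 4, 6, 4, 5, 4, 5, 4]))))) (.node 34 (.node 31 (.node 30 (.leaf 28 7 [4, 6, 4, 6, 6, 4, 5, 5, 11, 11, 11, 8, 9, 8, 9, 7, 9, 8, 9, 8, 9, 8, 5, 4, 6, 4, 5, 4, 5]) (.leaf 29 7 [4, 5, 5, 5, 5, 5, 5, 4, 9, 7,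 9, 8, 9, 7, 9, 8, 9, 8, 9, 8, 9, 8, 5, 4, 6, 4, 6, 6, 6])) (.node 32 (.leaf 30 7 [5, 4, 5, 4, 6, 6, 4, 6, 12, 12, 10, 11, 10, 12, 10, 11, 8, 9, 7, 9, 8, 9, 8, 9, 8, 9, 7, 9, 8, 9, 8, 9, 7, 6, 6, 4, 6, 6, 6, 4]) (.node 33 (.leaf 31 7 [4, 6, 6, 6, 4, 5, 4, 6, 10, 12, 10, 11, 11, 10, 8, 9, 7, 9, 8, 9, 8, 9, 7, 9, 8, 9, 8, 9, 8, 9, 5, 4, 6, 4, 5, 5, 5]) (.leaf 32 7 [5, 4, 5, 5, 4, 5, 5, 4, 10, 12, 10, 9, 8, 9, 8, 9, 8, 9, 7, 9, 8, 9, 7, 9, 8, 9, 8, 9, 8, 6, 4, 5, 5, 5, 4, 5])))) (.node 36 (.node 35 (.leaf 33 7 [5, 5, 4, 5, 4, 5, 4, 5, 10, 11, 10, 12, 10, 8, 9, 7, 9, 7, 9, 8, 9, 7, 9, 8, 9, 8, 4, 6, 6, 6, 4, 6, 4]) (.leaf 34 7 [5, 4, 6, 4, 5, 4, 5, 4, 12, 10, 11,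 11, 11, 10, 9, 7, 9, 7, 9, 8, 9, 8, 9, 7, 9, 8, 9, 8, 6, 4, 5, 5, 5, 5, 4])) (.node 37 (.leaf 35 7 [5, 5, 5, 4, 6, 4, 6, 6, 11, 11, 10, 12, 10, 11, 10, 9, 7, 9, 8, 9, 8, 9, 8, 9, 8, 9, 6, 6, 6, 6, 4, 6, 4]) (.node 38 (.leaf 5 9 [5, 5, 5, 5, 5, 5, 5, 5, 5, 5, 5, 5, 5]) (.leaf 36 7 [4, 6, 6, 4, 6, 4, 5, 4, 10, 11, 11, 10, 12, 12, 10, 11, 9, 8, 9, 8, 9, 8, 9, 7, 9, 7, 9, 7, 9, 4, 6, 6, 4, 5, 4, 6]))))))) (.node 58 (.node 48 (.node 43 (.node 41 (.node 40 (.leaf 37 7 [5, 4, 5, 4, 5, 4, 6, 4, 10, 11, 10, 12, 12, 12, 9, 7, 9, 7, 9, 7, 9, 8, 9, 7, 9, 8, 9, 8, 9, 7, 9, 7, 5, 5, 4, 6, 4, 6, 4]) (.leaf 38 7 [5, 4, 6, 4, 6, 4, 6, 6, 12, 10, 11, 11, 10, 12, 12, 10, 8,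 9, 8, 9, 7, 9, 8, 9, 8, 9, 8, 9, 8, 9, 7, 9, 8, 6, 4, 6, 4, 5, 4, 5])) (.node 42 (.leaf 39 7 [5, 4, 6, 4, 6, 4, 5, 5, 4, 11, 10, 12, 10, 11, 10, 12, 8, 9, 7, 9, 8, 9, 7, 9, 7, 9, 8, 9, 8, 9, 7, 5, 4, 6, 6, 4, 6, 4]) (.leaf 40 7 [5, 4, 5, 4, 5, 4, 6, 6, 4, 11, 10, 12, 12, 10, 11, 11, 10, 12, 9, 8, 9, 7, 9, 7, 9, 8, 9, 8, 9, 8, 9, 7, 9, 7, 9, 4, 6, 4, 6, 6, 6, 4]))) (.node 45 (.node 44 (.leaf 41 7 [5, 4, 5, 4, 6, 6, 6, 4, 6, 10, 11, 10, 12, 10, 11, 9, 7, 9, 7, 9, 8, 9, 8, 9, 7, 5, 5, 5, 5, 5, 4, 5]) (.leaf 42 8 [5, 5, 5, 5, 5, 5, 4, 5, 12, 10, 11, 10, 12, 12, 10, 8, 9, 7, 9, 7, 9, 7, 9, 7, 9, 7, 9, 7, 5, 4, 5, 4, 6, 4, 5, 4])) (.node 46 (.leaf 5 12 [5, 5, 5,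 5, 5, 5, 5, 5, 5, 5, 5, 5, 5]) (.node 47 (.leaf 43 8 [5, 4, 6, 6, 6, 6, 6, 6, 12, 10, 11, 10, 12, 10, 9, 8, 9, 8, 9, 7, 9, 8, 9, 8, 9, 8, 9, 7, 9, 8, 9, 5, 4, 6, 4, 5, 5, 5, 5]) (.leaf 44 7 [4, 6, 4, 6, 6, 4, 6, 4, 5, 12, 10, 11, 11, 11, 9, 8, 9, 7, 9, 7, 9, 8, 9, 8, 9, 8, 9, 7, 9, 7, 6, 6, 6, 4, 6, 6, 6]))))) (.node 53 (.node 50 (.node 49 (.leaf 45 8 [5, 5, 5, 4, 5, 5, 5, 4, 11, 11, 10, 12, 10, 11, 9, 7, 9, 7, 9, 8, 9, 8, 9, 7, 9, 7, 9, 8, 9, 7, 9, 4, 5, 5, 5, 5, 5, 5, 4]) (.leaf 46 8 [4, 5, 5, 5, 4, 5, 4, 5, 10, 11, 11, 11, 10, 12, 12, 10, 9, 8, 9, 8, 9, 8, 9, 7, 9, 7, 9, 8, 9, 8, 9, 6, 4, 5, 5, 4, 5, 4, 5])) (.node 51 (.leaf 47 8 [4, 6, 6, 4, 5, 5, 5, 5,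 12, 10, 11, 10, 12, 10, 11, 10, 9, 7, 9, 7, 9, 7, 9, 8, 9, 8, 9, 7, 9, 7, 9, 5, 4, 5, 4, 6, 4, 6, 6]) (.node 52 (.leaf 48 8 [5, 4, 5, 4, 5, 4, 5, 5, 10, 11, 11, 10, 12, 12, 10, 11, 9, 7, 9, 7, 9, 7, 9, 8, 9, 7, 9, 8, 9, 7, 9, 5, 4, 5, 5, 4, 6, 6, 4]) (.leaf 49 8 [5, 5, 5, 5, 4, 5, 4, 5, 10, 12, 12, 12, 10, 11, 8, 9, 7, 9, 7, 9, 7, 9, 8, 9, 7, 9, 7, 9, 7, 9, 4, 5, 4, 5, 4, 6, 4, 5])))) (.node 55 (.node 54 (.leaf 50 7 [4, 5, 4, 6, 6, 6, 4, 5, 4, 11, 10, 12, 10, 11, 10, 12, 12, 8, 9, 8, 9, 8, 9, 7, 6, 6, 4, 6, 6, 4, 6]) (.leaf 51 7 [5, 5, 4, 6, 4, 5, 5, 4, 6, 12, 10, 11, 9, 8, 9, 7, 9, 7, 9, 7, 9, 7, 9, 8, 9, 8, 9, 7, 9, 6, 4, 6, 4, 5, 5, 5])) (.node 56 (.leaf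 5 3 [5, 5, 5, 5, 5, 5, 5, 5, 5, 5, 5, 5, 5]) (.node 57 (.leaf 52 7 [4, 5, 4, 6, 6, 4, 6, 4, 6, 12, 10, 11, 11, 10, 8, 9, 7, 9, 7, 9, 8, 9, 7, 9, 8, 9, 7, 9, 8, 9, 7, 6, 4, 6, 6, 4, 5, 5]) (.leaf 53 7 [4, 5, 4, 5, 4, 5, 5, 4, 6, 11, 10, 12, 10, 9, 8, 9, 8, 9, 7, 9, 8, 9, 7, 9, 7, 9, 7, 9, 7, 9, 7, 5, 5, 4, 6, 6, 6, 6])))))) (.node 68 (.node 63 (.node 60 (.node 59 (.leaf 54 8 [5, 5, 4, 6, 6, 6, 4, 5, 10, 12, 12, 12, 10, 11, 10, 9, 7, 9, 7, 9, 7, 9, 7, 9, 7, 9, 8, 9, 5, 5, 4, 6, 4, 5, 5, 5]) (.leaf 55 8 [5, 4, 5, 5, 5, 5, 4, 5, 11, 11, 10, 12, 12, 8, 9, 7, 9, 7, 9, 7, 9, 8, 9, 7, 9, 7, 5, 5, 5, 5, 4, 5, 5, 4])) (.node 61 (.leaf 56 8 [5, 4, 5, 4, 5, 4, 5, 4, 10,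 11, 11, 10, 8, 9, 7, 9, 8, 9, 8, 9, 7, 9, 8, 9, 4, 6, 4, 5, 5, 5, 5, 4]) (.node 62 (.leaf 57 7 [5, 5, 4, 5, 5, 5, 4, 6, 6, 12, 10, 11, 10, 12, 12, 12, 8, 9, 7, 9, 7, 9, 8, 9, 7, 9, 8, 9, 8, 6, 6, 6, 4, 5, 5, 4]) (.leaf 58 8 [5, 5, 4, 6, 6, 4, 5, 5, 12, 12, 12, 12, 10, 9, 7, 9, 7, 9, 7, 9, 8, 9, 8, 9, 7, 9, 7, 9, 8, 9, 8, 5, 5, 5, 4, 6, 6, 4, 5])))) (.node 65 (.node 64 (.leaf 59 8 [5, 5, 4, 5, 5, 4, 5, 5, 10, 11, 10, 12, 12, 12, 10, 9, 7, 9, 8, 9, 7, 9, 7, 9, 8, 9, 7, 9, 7, 9, 7, 9, 5, 4, 6, 6, 4, 5, 5, 5]) (.leaf 5 5 [5, 5, 5, 5, 5, 5, 5, 5, 5, 5, 5, 5, 5])) (.node 66 (.leaf 8 30 [5, 5, 4, 5, 5, 5, 4, 5, 5, 5, 4, 5, 5, 5, 4, 5, 5, 5, 4, 5, 5, 5, 4, 5, 5, 5,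 4, 5, 5, 5, 4, 5]) (.node 67 (.leaf 60 8 [5, 4, 6, 4, 5, 4, 5, 4, 6, 12, 10, 11, 11, 11, 10, 12, 9, 8, 9, 7, 9, 7, 9, 7, 9, 7, 5, 5, 4, 6, 6, 6, 4, 5]) (.leaf 61 8 [4, 5, 4, 5, 4, 6, 4, 5, 4, 12, 12, 12, 12, 12, 12, 9, 7, 9, 8, 9, 8, 9, 8, 9, 8, 9, 8, 9, 7, 9, 8, 9, 8, 9, 8, 4, 6, 6, 4, 5, 5, 4, 6]))))) (.node 73 (.node 70 (.node 69 (.leaf 62 8 [5, 4, 6, 6, 6, 6, 4, 5, 4, 11, 11, 11, 10, 12, 12, 10, 11, 9, 7, 9, 7, 9, 7, 9, 8, 9, 8, 9, 7, 9, 8, 9, 8, 4, 6, 4, 5, 4, 6, 6, 4]) (.leaf 63 8 [4, 6, 6, 4, 5, 4, 6, 6, 6, 11, 10, 12, 12, 12, 9, 8, 9, 8, 9, 8, 4, 5, 4, 6, 6, 4, 6, 6])) (.node 71 (.leaf 64 8 [5, 4, 5, 4, 6, 4, 5, 4, 5, 12, 10, 11, 10, 12, 12, 12, 9,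 7, 9, 7, 9, 7, 9, 7, 9, 7, 9, 8, 9, 8, 9, 8, 4, 6, 6, 6, 4, 5, 5, 4]) (.node 72 (.leaf 65 8 [4, 5, 5, 4, 5, 4, 6, 4, 5, 10, 12, 12, 10, 11, 10, 8, 9, 8, 9, 8, 9, 8, 9, 7, 9, 6, 6, 6, 6, 4, 5, 4, 6]) (.leaf 66 8 [5, 4, 5, 5, 4, 6, 4, 6, 6, 10, 12, 12, 12, 9, 7, 9, 7, 9, 7, 9, 8, 9, 4, 6, 4, 5, 5, 4, 6, 4])))) (.node 75 (.node 74 (.leaf 67 8 [4, 6, 6, 4, 5, 5, 4, 6, 4, 11, 11, 10, 12, 12, 10, 11, 8, 9, 7, 9, 8, 9, 7, 9, 8, 9, 8, 9, 7, 9, 8, 9, 7, 9, 8, 6, 4, 5, 5, 5, 5, 4, 6]) (.leaf 68 8 [5, 5, 5, 5, 4, 5, 4, 6, 4, 8, 9, 8, 9, 7, 9, 7, 9, 8, 9, 7, 9, 7, 9, 8, 9, 8, 5, 5, 4, 5, 4, 5, 4, 5])) (.node 76 (.leaf 5 7 [5, 5, 5, 5, 5, 5, 5, 5, 5, 5, 5, 5, 5]) (.node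 77 (.leaf 69 8 [4, 6, 4, 5, 5, 4, 5, 5, 5, 11, 10, 12, 12, 10, 11, 9, 8, 9, 7, 9, 8, 9, 7, 9, 7, 6, 6, 6, 4, 6, 6, 4, 6]) (.leaf 70 8 [5, 5, 5, 4, 5, 4, 5, 4, 6, 10, 11, 10, 12, 10, 11, 11, 9, 8, 9, 7, 9, 8, 4, 6, 4, 6, 4, 6, 6, 4])))))))) (.node 117 (.node 97 (.node 87 (.node 82 (.node 80 (.node 79 (.leaf 71 8 [4, 5, 4, 6, 6, 4, 6, 4, 5, 10, 11, 11, 10, 12, 10, 11, 9, 7, 9, 7, 9, 7, 9, 8, 9, 8, 9, 7, 9, 7, 9, 8, 9, 4, 6, 6, 4, 5, 4, 5, 5]) (.leaf 72 8 [5, 5, 5, 5, 4, 6, 4, 6, 4, 10, 12, 12, 12, 12, 12, 12, 12, 9, 8, 9, 7, 9, 7, 9, 7, 9, 8, 9, 7, 4, 6, 6, 4, 5, 4, 5, 5])) (.node 81 (.leaf 73 8 [4, 5, 4, 6, 6, 6, 4, 5, 5, 10, 12, 12, 12, 9, 7, 9, 8, 9, 7, 9,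 7, 9, 8, 9, 7, 9, 7, 9, 8, 9, 4, 6, 6, 6, 4, 5, 5, 5]) (.leaf 74 8 [4, 6, 6, 4, 5, 5, 4, 5, 5, 11, 10, 12, 12, 10, 11, 11, 10, 9, 8, 9, 8, 9, 8, 9, 7, 9, 8, 9, 7, 9, 7, 6, 6, 4, 6, 6, 4, 5, 5]))) (.node 84 (.node 83 (.leaf 75 8 [4, 5, 5, 4, 6, 4, 6, 4, 5, 12, 10, 11, 10, 12, 10, 11, 10, 8, 9, 8, 9, 8, 9, 7, 9, 8, 9, 8, 5, 5, 5, 4, 5, 5, 5, 5]) (.leaf 76 8 [5, 4, 5, 5, 4, 5, 4, 6, 4, 11, 11, 11, 11, 11, 11, 8, 9, 7, 9, 8, 9, 8, 9, 8, 9, 7, 9, 8, 9, 7, 5, 4, 5, 5, 4, 5, 4, 5])) (.node 85 (.leaf 77 8 [5, 4, 5, 4, 5, 4, 5, 5, 5, 11, 11, 10, 12, 10, 11, 9, 8, 9, 7, 9, 8, 9, 7, 9, 7, 9, 7, 9, 6, 4, 5, 5, 4, 5, 4, 5]) (.node 86 (.leaf 78 8 [5, 4, 6, 4, 5, 4, 5, 4,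 5, 10, 12, 12, 10, 11, 11, 10, 12, 8, 9, 8, 9, 8, 9, 7, 9, 7, 9, 8, 9, 8, 9, 8, 9, 7, 4, 6, 6, 4, 6, 6, 6, 4]) (.leaf 7 35 [6, 4, 5, 4, 6, 4, 5, 4, 6, 4, 5, 4, 6, 4, 5, 4, 6, 4, 5, 4, 6, 4, 5, 4, 6, 4, 5, 4, 6, 4, 5, 4, 6, 4, 5, 4, 6, 4, 5, 4]))))) (.node 92 (.node 89 (.node 88 (.leaf 79 8 [5, 5, 5, 4, 6, 6, 4, 6, 4, 11, 11, 10, 12, 12, 9, 8, 9, 7, 9, 7, 9, 7, 9, 8, 9, 8, 4, 5, 4, 6, 4, 5, 4, 5]) (.leaf 80 8 [4, 5, 5, 5, 5, 4, 6, 6, 4, 10, 12, 12, 12, 12, 12, 12, 9, 7, 9, 8, 9, 8, 9, 7, 9, 8, 9, 7, 9, 7, 6, 6, 6, 6, 4, 5, 5, 5])) (.node 90 (.leaf 81 8 [5, 5, 5, 5, 5, 5, 4, 5, 4, 11, 11, 10, 12, 12, 12, 10, 11, 8, 9, 7, 9, 5, 4, 5, 4, 6, 6, 6, 4]) (.node 91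 (.leaf 82 8 [4, 6, 4, 6, 6, 6, 4, 6, 4, 11, 11, 11, 10, 12, 10, 11, 9, 7, 9, 8, 9, 7, 9, 7, 9, 8, 9, 8, 9, 7, 9, 8, 4, 5, 5, 4, 6, 6, 4, 6]) (.leaf 83 8 [4, 6, 4, 5, 5, 5, 5, 5, 5, 10, 11, 11, 10, 12, 12, 10, 9, 7, 9, 8, 9, 7, 9, 8, 9, 8, 9, 8, 9, 8, 9, 8, 4, 6, 6, 6, 4, 5, 4, 6])))) (.node 94 (.node 93 (.leaf 84 8 [4, 5, 4, 6, 4, 5, 4, 6, 6, 11, 11, 10, 12, 8, 9, 7, 9, 8, 9, 6, 4, 6, 6, 6, 4, 5, 5]) (.leaf 85 8 [4, 6, 6, 4, 5, 4, 6, 6, 4, 10, 11, 10, 12, 12, 9, 7, 9, 8, 9, 8, 9, 7, 9, 8, 9, 7, 9, 8, 9, 6, 4, 6, 6, 4, 6, 6, 6])) (.node 95 (.leaf 86 8 [5, 4, 6, 4, 5, 5, 4, 6, 6, 11, 11, 11, 11, 10, 8, 9, 7, 9, 8, 9, 8, 9, 7, 9, 7, 9, 8, 9, 7, 4, 5, 5, 5, 5,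 4, 6, 4]) (.node 96 (.leaf 87 8 [5, 5, 4, 6, 6, 4, 6, 4, 6, 10, 12, 10, 11, 10, 12, 12, 10, 8, 9, 7, 9, 8, 9, 7, 9, 8, 9, 8, 9, 8, 9, 4, 5, 4, 6, 6, 4, 5, 4]) (.leaf 88 8 [5, 4, 5, 5, 4, 5, 5, 4, 6, 11, 11, 11, 11, 10, 8, 9, 8, 9, 7, 9, 8, 9, 8, 9, 8, 9, 8, 9, 8, 9, 7, 9, 6, 6, 6, 4, 5, 4, 6, 4])))))) (.node 107 (.node 102 (.node 99 (.node 98 (.leaf 89 8 [5, 4, 5, 4, 6, 6, 4, 5, 5, 12, 10, 11, 10, 9, 7, 9, 7, 9, 7, 9, 7, 9, 8, 9, 7, 9, 8, 9, 8, 9, 8, 4, 5, 4, 6, 6, 6, 6, 4]) (.leaf 90 8 [5, 5, 5, 4, 5, 5, 4, 6, 4, 12, 12, 12, 12, 12, 9, 7, 9, 8, 4, 5, 5, 4, 6, 4, 5, 5])) (.node 100 (.leaf 91 8 [4, 5, 5, 4, 5, 5, 4, 5, 4, 12, 12, 8, 9, 7, 9, 8, 9, 7, 9, 8,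 9, 8, 9, 8, 9, 5, 5, 4, 6, 4, 6, 6, 6]) (.node 101 (.leaf 92 8 [5, 5, 4, 6, 6, 6, 4, 6, 4, 11, 11, 10, 12, 10, 11, 11, 9, 7, 9, 7, 9, 7, 9, 8, 9, 8, 9, 8, 9, 7, 9, 6, 4, 5, 5, 5, 5, 5, 4]) (.leaf 93 8 [5, 4, 6, 4, 5, 5, 4, 5, 4, 12, 12, 10, 11, 10, 12, 12, 9, 8, 9, 8, 9, 8, 9, 7, 9, 8, 9, 8, 9, 7, 9, 7, 5, 5, 4, 6, 4, 5, 4, 5])))) (.node 104 (.node 103 (.leaf 94 8 [4, 6, 4, 5, 4, 6, 6, 6, 6, 11, 11, 10, 12, 12, 12, 8, 9, 7, 9, 7, 9, 8, 9, 7, 5, 5, 5, 5, 4, 6, 4, 5]) (.leaf 95 8 [5, 4, 6, 4, 6, 4, 5, 4, 5, 10, 11, 10, 12, 12, 10, 9, 8, 9, 7, 9, 7, 9, 7, 9, 7, 9, 8, 9, 8, 9, 7, 9, 5, 5, 5, 5, 4, 6, 4, 5])) (.node 105 (.leaf 96 8 [4, 6, 6, 6, 4, 6, 6, 4, 5, 11,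 11, 10, 12, 12, 12, 8, 9, 7, 9, 7, 9, 7, 9, 8, 9, 7, 9, 8, 9, 7, 9, 8, 6, 4, 5, 5, 4, 5, 5, 5]) (.node 106 (.leaf 97 8 [5, 5, 5, 4, 5, 5, 4, 5, 4, 12, 10, 11, 8, 9, 8, 9, 8, 9, 8, 9, 8, 9, 7, 9, 8, 9, 8, 9, 8, 5, 4, 6, 4, 5, 4, 6, 4]) (.leaf 98 8 [5, 4, 5, 5, 5, 4, 6, 4, 5, 10, 12, 10, 11, 11, 10, 9, 7, 9, 8, 9, 7, 9, 8, 9, 7, 9, 7, 9, 7, 5, 5, 5, 4, 6, 4, 5, 5]))))) (.node 112 (.node 109 (.node 108 (.leaf 99 8 [5, 4, 6, 4, 6, 4, 5, 5, 5, 12, 10, 11, 11, 10, 9, 8, 9, 8, 9, 8, 9, 7, 9, 8, 9, 7, 9, 7, 9, 7, 9, 4, 6, 4, 6, 6, 4, 5, 4]) (.leaf 100 8 [4, 5, 5, 4, 5, 4, 5, 4, 6, 10, 12, 12, 12, 9, 8, 9, 8, 9, 7, 9, 7, 9, 7, 9, 8, 9, 8, 9, 8, 9, 8, 5, 4, 6, 4, 6,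 4, 6, 6])) (.node 110 (.leaf 101 8 [5, 4, 6, 4, 6, 6, 4, 5, 4, 12, 10, 11, 11, 10, 9, 7, 9, 8, 9, 7, 9, 7, 9, 7, 6, 6, 6, 6, 6, 4, 6, 4]) (.node 111 (.leaf 102 8 [4, 6, 4, 6, 4, 5, 5, 5, 5, 12, 12, 10, 11, 10, 12, 8, 9, 8, 9, 7, 9, 8, 9, 8, 9, 8, 9, 8, 9, 7, 9, 4, 5, 4, 6, 4, 6, 4, 5]) (.leaf 103 8 [5, 5, 5, 5, 4, 5, 4, 5, 5, 12, 12, 10, 11, 10, 8, 9, 7, 9, 7, 5, 5, 4, 5, 5, 4, 5, 4])))) (.node 114 (.node 113 (.leaf 104 8 [5, 5, 5, 4, 6, 4, 6, 4, 6, 11, 10, 12, 12, 12, 8, 9, 7, 9, 7, 9, 8, 9, 8, 9, 8, 9, 6, 4, 6, 6, 6, 4, 5, 4]) (.leaf 8 23 [5, 4, 5, 5, 5, 4, 5, 5, 5, 4, 5, 5, 5, 4, 5, 5, 5, 4, 5, 5, 5, 4, 5, 5, 5, 4, 5, 5, 5, 4, 5, 5])) (.node 115 (.leaf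 105 8 [5, 4, 6, 6, 4, 5, 5, 5, 4, 10, 12, 10, 11, 10, 8, 9, 7, 9, 8, 9, 7, 9, 7, 9, 7, 9, 7, 9, 8, 9, 5, 4, 6, 6, 4, 6, 6, 4]) (.node 116 (.leaf 106 8 [5, 5, 4, 6, 4, 5, 4, 5, 5, 10, 11, 10, 12, 12, 10, 9, 7, 9, 7, 9, 8, 9, 8, 9, 7, 9, 7, 9, 8, 9, 8, 9, 6, 4, 6, 6, 4, 5, 5, 5]) (.leaf 107 9 [5, 5, 4, 5, 4, 6, 4, 5, 4, 10, 11, 11, 10, 8, 9, 7, 9, 8, 9, 8, 9, 8, 9, 7, 9, 8, 9, 7, 9, 4, 5, 5, 4, 6, 6, 4, 5, 5]))))))) (.node 137 (.node 127 (.node 122 (.node 119 (.node 118 (.leaf 108 8 [4, 6, 4, 6, 4, 5, 4, 5, 4, 5, 11, 11, 10, 12, 12, 12, 10, 11, 8, 9, 7, 9, 8, 9, 7, 9, 7, 9, 7, 9, 7, 6, 6, 4, 6, 4, 6, 4, 5]) (.leaf 109 9 [4, 5, 4, 6, 6, 4, 6, 6, 6, 11, 11, 10,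 12, 9, 7, 9, 7, 9, 7, 9, 8, 9, 8, 9, 7, 9, 7, 9, 8, 9, 8, 5, 5, 4, 6, 4, 6, 6, 4, 5])) (.node 120 (.leaf 110 8 [5, 5, 4, 6, 6, 6, 6, 6, 6, 4, 10, 11, 10, 12, 12, 12, 10, 11, 8, 9, 7, 9, 7, 9, 8, 9, 7, 9, 7, 9, 8, 9, 7, 4, 6, 6, 6, 6, 4, 6, 4]) (.node 121 (.leaf 111 8 [4, 5, 4, 5, 4, 5, 5, 4, 6, 4, 10, 11, 10, 12, 12, 10, 11, 8, 9, 7, 9, 8, 9, 8, 9, 8, 9, 8, 9, 8, 9, 6, 6, 6, 4, 5, 4, 6, 6]) (.leaf 112 8 [5, 5, 4, 5, 5, 5, 4, 5, 5, 4, 11, 10, 12, 12, 9, 7, 9, 8, 9, 7, 9, 7, 9, 8, 9, 8, 9, 8, 9, 7, 9, 8, 6, 4, 6, 4, 5, 4, 5, 4])))) (.node 124 (.node 123 (.leaf 113 8 [4, 6, 6, 6, 4, 6, 6, 4, 6, 6, 12, 12, 12, 12, 8, 9, 8, 9, 7, 9, 7, 9, 7, 9, 7, 9, 5, 5, 4, 6,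 4, 6, 4, 6]) (.leaf 114 9 [4, 5, 4, 5, 5, 4, 6, 6, 6, 11, 11, 10, 12, 10, 9, 8, 9, 8, 9, 8, 9, 7, 9, 8, 9, 7, 9, 7, 9, 4, 6, 4, 6, 6, 6, 6, 4, 5])) (.node 125 (.leaf 115 9 [5, 5, 5, 4, 6, 4, 5, 4, 6, 12, 10, 11, 10, 12, 10, 11, 8, 9, 7, 9, 7, 9, 7, 9, 8, 9, 7, 9, 8, 9, 8, 9, 7, 9, 4, 6, 4, 6, 6, 6, 6, 4, 5]) (.node 126 (.leaf 116 9 [4, 5, 4, 5, 4, 6, 6, 6, 6, 10, 11, 10, 12, 10, 11, 9, 8, 9, 7, 9, 5, 5, 4, 6, 6, 4, 5, 4, 5]) (.leaf 117 9 [5, 5, 5, 5, 5, 4, 6, 6, 6, 10, 11, 11, 11, 10, 12, 9, 7, 9, 8, 9, 7, 9, 7, 9, 7, 9, 8, 4, 5, 4, 6, 4, 5, 5, 5, 4]))))) (.node 132 (.node 129 (.node 128 (.leaf 118 9 [4, 6, 6, 6, 4, 6, 6, 6, 6, 10, 12, 10, 11, 11, 10, 12,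 9, 7, 9, 8, 9, 7, 5, 5, 4, 6, 6, 4, 6, 4, 6]) (.leaf 119 8 [4, 6, 4, 6, 4, 6, 4, 5, 5, 4, 9, 7, 9, 7, 9, 7, 9, 7, 9, 8, 9, 7, 9, 8, 9, 7, 5, 4, 5, 4, 6, 6, 4, 6])) (.node 130 (.leaf 120 8 [4, 6, 4, 5, 4, 6, 6, 4, 6, 4, 11, 11, 10, 12, 8, 9, 7, 9, 8, 9, 7, 9, 8, 9, 7, 9, 7, 9, 8, 9, 7, 9, 6, 4, 5, 4, 6, 6, 6, 6]) (.node 131 (.leaf 121 9 [4, 5, 4, 5, 4, 5, 5, 5, 5, 11, 11, 11, 11, 11, 11, 9, 7, 9, 8, 9, 7, 9, 7, 9, 8, 9, 8, 9, 7, 9, 5, 4, 6, 4, 6, 6, 4, 5, 5]) (.leaf 122 8 [4, 5, 4, 6, 4, 5, 4, 6, 6, 4, 10, 11, 11, 10, 12, 10, 9, 8, 9, 8, 9, 7, 9, 7, 9, 7, 9, 7, 9, 8, 9, 7, 5, 4, 6, 4, 6, 6, 4, 5])))) (.node 134 (.node 133 (.leaf 123 8 [4, 5, 4, 5, 5, 5, 5,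 4, 6, 4, 12, 12, 12, 12, 12, 12, 9, 7, 9, 7, 9, 7, 9, 7, 9, 7, 9, 8, 9, 8, 9, 4, 6, 6, 4, 6, 4, 6, 6]) (.leaf 124 8 [5, 4, 5, 5, 4, 6, 4, 6, 4, 6, 12, 12, 12, 12, 10, 8, 9, 8, 9, 7, 9, 8, 9, 7, 9, 7, 5, 5, 4, 5, 4, 6, 6, 4])) (.node 135 (.leaf 125 8 [4, 5, 4, 5, 5, 4, 6, 4, 5, 4, 11, 10, 12, 10, 11, 11, 8, 9, 7, 9, 8, 9, 7, 9, 7, 9, 7, 9, 4, 6, 4, 5, 5, 4, 6, 6]) (.node 136 (.leaf 126 8 [5, 4, 6, 4, 5, 5, 4, 5, 5, 4, 11, 10, 12, 12, 12, 12, 9, 7, 9, 8, 9, 7, 9, 7, 9, 8, 9, 7, 9, 7, 9, 5, 4, 6, 6, 4, 5, 5, 4]) (.leaf 127 8 [4, 6, 6, 6, 4, 6, 6, 4, 5, 5, 10, 9, 8, 6, 6, 4, 6, 4, 5, 4, 5])))))) (.node 147 (.node 142 (.node 139 (.node 138 (.leaf 127 20 [8, 6,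 6, 4, 6, 4, 5, 4, 5, 4, 6, 6, 6, 4, 6, 6, 4, 5, 5, 10, 9]) (.leaf 128 9 [5, 5, 4, 5, 5, 4, 5, 5, 5, 10, 11, 11, 11, 10, 12, 12, 8, 9, 7, 9, 8, 9, 7, 9, 8, 9, 8, 9, 8, 9, 5, 4, 6, 4, 5, 4, 5, 5, 4])) (.node 140 (.leaf 129 9 [5, 5, 4, 5, 5, 5, 4, 5, 5, 10, 11, 10, 12, 10, 11, 10, 12, 9, 7, 9, 7, 9, 7, 9, 8, 9, 8, 9, 8, 9, 8, 9, 7, 9, 8, 5, 5, 4, 5, 5, 4, 5, 5, 5]) (.node 141 (.leaf 1 3 [5, 4, 6, 4, 5, 5, 8, 4, 5, 5]) (.leaf 130 9 [5, 4, 6, 4, 6, 4, 6, 6, 6, 10, 11, 11, 11, 8, 9, 8, 9, 7, 9, 8, 9, 7, 9, 8, 4, 5, 4, 5, 4, 6, 6, 6, 4])))) (.node 144 (.node 143 (.leaf 131 9 [5, 5, 5, 4, 6, 6, 4, 5, 4, 10, 11, 10, 12, 10, 11, 10, 12, 10, 8, 9, 8, 9, 7, 9, 8, 9, 8,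 9, 8, 9, 8, 9, 7, 4, 5, 5, 4, 6, 4, 5, 4, 5]) (.leaf 132 8 [5, 4, 5, 5, 5, 5, 5, 4, 6, 4, 10, 11, 11, 11, 11, 9, 8, 9, 7, 9, 7, 9, 8, 9, 7, 9, 5, 5, 5, 4, 5, 5, 4, 5])) (.node 145 (.leaf 133 8 [5, 4, 5, 4, 6, 4, 6, 6, 4, 6, 11, 11, 8, 9, 7, 9, 8, 9, 8, 9, 7, 9, 8, 9, 7, 9, 7, 6, 4, 5, 4, 6, 4, 5, 4]) (.node 146 (.leaf 134 8 [4, 5, 4, 5, 4, 6, 6, 4, 6, 6, 12, 12, 10, 11, 10, 8, 9, 7, 9, 7, 9, 7, 9, 7, 9, 7, 5, 5, 5, 5, 5, 5, 4, 5]) (.leaf 135 8 [5, 4, 6, 6, 4, 5, 5, 4, 5, 4, 11, 11, 10, 12, 12, 10, 11, 11, 9, 8, 9, 8, 9, 8, 9, 7, 9, 8, 9, 8, 9, 7, 5, 5, 5, 5, 5, 5, 4, 5]))))) (.node 152 (.node 149 (.node 148 (.leaf 5 1 [5, 5, 5, 5, 5, 5, 5, 5, 5, 5, 5, 5, 5])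 (.leaf 136 8 [5, 4, 5, 4, 6, 4, 5, 4, 6, 4, 10, 12, 10, 11, 10, 12, 12, 12, 9, 8, 9, 8, 9, 7, 9, 8, 9, 7, 9, 8, 9, 6, 4, 5, 4, 5, 5, 5, 4])) (.node 150 (.leaf 137 8 [5, 4, 5, 4, 6, 6, 6, 4, 6, 4, 11, 11, 11, 10, 12, 12, 10, 11, 8, 9, 8, 9, 7, 9, 8, 9, 7, 9, 6, 4, 6, 6, 4, 6, 6, 4]) (.node 151 (.leaf 138 9 [4, 5, 5, 5, 5, 4, 5, 5, 5, 11, 10, 12, 12, 12, 9, 8, 9, 7, 9, 8, 9, 7, 9, 7, 9, 8, 9, 7, 9, 5, 4, 6, 6, 4, 6, 6, 6, 6]) (.leaf 139 9 [4, 5, 4, 5, 4, 5, 5, 5, 4, 10, 11, 11, 10, 12, 12, 10, 9, 8, 9, 7, 9, 7, 9, 7, 9, 7, 9, 4, 5, 4, 5, 5, 4, 6, 4, 6])))) (.node 154 (.node 153 (.leaf 140 9 [4, 5, 5, 4, 5, 5, 4, 6, 6, 10, 12, 10, 11, 10, 12, 8, 9, 8, 9, 8, 9,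 8, 9, 7, 9, 7, 9, 7, 9, 4, 5, 4, 6, 4, 5, 5, 4, 6]) (.leaf 141 9 [5, 4, 6, 6, 4, 5, 4, 5, 5, 11, 10, 12, 12, 10, 11, 11, 8, 9, 8, 9, 8, 9, 8, 9, 7, 9, 7, 5, 4, 6, 4, 5, 4, 5, 5, 5])) (.node 155 (.leaf 142 8 [4, 6, 4, 6, 6, 6, 4, 5, 5, 4, 11, 10, 12, 10, 11, 11, 11, 9, 7, 9, 8, 9, 7, 9, 8, 9, 8, 9, 8, 9, 8, 9, 7, 9, 6, 6, 4, 6, 6, 6, 6, 6]) (.node 156 (.leaf 143 9 [4, 5, 4, 6, 6, 4, 5, 5, 5, 10, 12, 12, 12, 9, 8, 9, 7, 9, 7, 9, 8, 9, 8, 9, 8, 9, 8, 9, 5, 4, 6, 6, 4, 6, 4, 6, 6]) (.leaf 144 9 [4, 5, 4, 5, 5, 5, 5, 5, 5, 12, 12, 10, 9, 8, 9, 8, 9, 7, 9, 7, 9, 8, 9, 8, 9, 4, 5, 5, 4, 6, 6, 6, 4, 5]))))))))) (.node 235 (.node 196 (.node 176 (.node 166 (.node 161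 (.node 159 (.node 158 (.leaf 145 9 [5, 4, 6, 6, 6, 4, 6, 4, 6, 11, 11, 11, 11, 11, 11, 11, 9, 8, 9, 7, 9, 8, 9, 7, 9, 7, 9, 8, 9, 7, 9, 7, 9, 7, 4, 5, 4, 6, 4, 6, 4, 5, 5]) (.leaf 146 8 [4, 5, 5, 4, 5, 5, 4, 6, 6, 4, 10, 11, 10, 12, 12, 12, 8, 9, 7, 9, 7, 9, 7, 9, 8, 9, 7, 9, 8, 9, 8, 9, 7, 9, 6, 6, 4, 5, 5, 5, 4, 5])) (.node 160 (.leaf 147 9 [5, 4, 5, 4, 6, 4, 6, 4, 5, 10, 11, 10, 12, 10, 11, 11, 11, 8, 9, 7, 9, 8, 9, 7, 9, 7, 9, 8, 9, 8, 9, 7, 9, 8, 9, 8, 4, 6, 6, 6, 6, 4, 6, 6, 4]) (.leaf 148 8 [5, 4, 5, 5, 4, 6, 4, 5, 4, 6, 11, 11, 10, 12, 12, 12, 10, 11, 9, 8, 9, 8, 9, 8, 9, 7, 9, 8, 9, 7, 9, 8, 9, 8, 9, 8, 6, 4, 5, 4, 6, 6, 6, 4]))) (.node 163 (.node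 162 (.leaf 149 9 [5, 4, 6, 4, 6, 6, 6, 4, 5, 10, 9, 7, 9, 8, 9, 7, 9, 8, 9, 7, 5, 5, 4, 5, 5, 4, 6, 6, 4]) (.leaf 150 8 [4, 6, 6, 6, 4, 5, 4, 6, 4, 5, 10, 12, 10, 11, 10, 12, 10, 11, 10, 8, 9, 8, 9, 8, 9, 7, 9, 7, 6, 6, 4, 5, 5, 4, 5, 5])) (.node 164 (.leaf 151 9 [5, 5, 5, 4, 5, 4, 5, 5, 4, 11, 11, 10, 12, 8, 9, 7, 9, 8, 9, 8, 9, 7, 9, 8, 9, 8, 9, 8, 9, 4, 5, 4, 5, 5, 5, 5, 5, 4]) (.node 165 (.leaf 5 11 [5, 5, 5, 5, 5, 5, 5, 5, 5, 5, 5, 5, 5]) (.leaf 152 8 [5, 4, 6, 6, 6, 6, 4, 5, 5, 4, 10, 11, 10, 12, 12, 10, 9, 7, 9, 7, 9, 7, 9, 8, 9, 7, 9, 8, 9, 8, 9, 7, 5, 4, 5, 5, 4, 5, 5, 5]))))) (.node 171 (.node 168 (.node 167 (.leaf 153 9 [5, 4, 6, 4, 5, 5, 5, 5,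 5, 11, 11, 10, 12, 10, 11, 10, 9, 7, 9, 7, 9, 8, 9, 8, 9, 7, 9, 7, 9, 8, 9, 7, 9, 8, 6, 6, 6, 6, 4, 5, 5, 5, 5]) (.leaf 5 2 [5, 5, 5, 5, 5, 5, 5, 5, 5, 5, 5, 5, 5])) (.node 169 (.leaf 154 9 [4, 6, 4, 5, 5, 4, 6, 6, 6, 10, 12, 10, 11, 10, 12, 10, 11, 10, 9, 7, 9, 7, 9, 7, 9, 8, 9, 7, 9, 8, 9, 8, 9, 4, 6, 6, 6, 6, 4, 6, 4, 6]) (.node 170 (.leaf 155 8 [5, 5, 5, 5, 5, 4, 6, 6, 6, 6, 10, 11, 10, 12, 12, 9, 8, 9, 8, 9, 7, 9, 8, 9, 8, 9, 8, 9, 6, 6, 6, 6, 6, 6, 4, 5]) (.leaf 156 9 [4, 6, 6, 4, 6, 6, 4, 6, 6, 11, 11, 10, 12, 10, 9, 8, 9, 8, 9, 8, 9, 7, 9, 8, 9, 7, 9, 8, 5, 4, 5, 4, 5, 4, 5, 4, 6])))) (.node 173 (.node 172 (.leaf 157 8 [5, 5, 4, 5, 5, 4, 5, 5, 4, 5,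 11, 10, 9, 7, 9, 8, 9, 7, 9, 7, 9, 8, 9, 8, 9, 7, 9, 8, 6, 6, 6, 4, 6, 6, 4, 5]) (.leaf 158 9 [5, 5, 4, 5, 5, 4, 5, 4, 5, 10, 11, 11, 10, 12, 8, 9, 7, 9, 8, 9, 7, 9, 8, 9, 8, 9, 7, 9, 7, 9, 7, 9, 7, 4, 5, 4, 5, 4, 6, 4, 6, 4])) (.node 174 (.leaf 159 9 [5, 4, 6, 6, 6, 4, 5, 4, 5, 11, 11, 10, 12, 10, 11, 11, 9, 7, 9, 8, 9, 8, 9, 8, 9, 8, 9, 8, 9, 7, 9, 8, 9, 5, 4, 5, 4, 5, 4, 5, 5, 4]) (.node 175 (.leaf 160 8 [5, 4, 6, 6, 4, 5, 5, 5, 5, 4, 11, 11, 11, 11, 10, 12, 9, 7, 9, 7, 9, 7, 9, 8, 9, 8, 9, 8, 5, 5, 5, 5, 4, 5, 5, 5]) (.leaf 161 8 [5, 5, 4, 6, 6, 4, 6, 6, 4, 6, 10, 11, 11, 11, 8, 9, 7, 9, 8, 9, 8, 9, 7, 9, 8, 9, 7, 9, 7, 9, 7, 9, 6, 6, 4, 6, 6, 6, 6, 4]))))))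 (.node 186 (.node 181 (.node 178 (.node 177 (.leaf 162 8 [5, 4, 5, 5, 4, 6, 6, 6, 6, 4, 11, 10, 12, 12, 10, 11, 11, 10, 8, 9, 8, 9, 7, 9, 7, 9, 8, 9, 7, 9, 7, 9, 8, 9, 4, 6, 4, 5, 5, 4, 5, 4]) (.leaf 163 9 [5, 4, 5, 4, 5, 4, 5, 4, 5, 10, 12, 10, 11, 10, 12, 12, 10, 9, 8, 9, 8, 9, 7, 9, 8, 9, 7, 9, 7, 4, 6, 6, 6, 4, 5, 5, 5, 5])) (.node 179 (.leaf 164 8 [5, 4, 6, 6, 6, 4, 5, 4, 6, 4, 10, 12, 10, 11, 10, 12, 10, 11, 8, 9, 8, 9, 8, 9, 8, 9, 8, 9, 7, 9, 8, 9, 8, 9, 6, 6, 6, 4, 6, 4, 5, 4]) (.node 180 (.leaf 165 8 [5, 4, 6, 4, 6, 6, 4, 5, 5, 4, 10, 12, 12, 12, 8, 9, 7, 9, 8, 5, 4, 5, 5, 5, 5, 5, 4]) (.leaf 7 8 [4, 5, 4, 6, 4, 5, 4, 6, 4, 5, 4, 6, 4, 5, 4, 6, 4,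 5, 4, 6, 4, 5, 4, 6, 4, 5, 4, 6, 4, 5, 4, 6, 4, 5, 4, 6, 4, 5, 4, 6])))) (.node 183 (.node 182 (.leaf 166 9 [5, 4, 5, 4, 6, 4, 5, 5, 5, 10, 11, 10, 12, 10, 11, 10, 9, 7, 9, 7, 9, 7, 9, 7, 9, 8, 9, 8, 9, 7, 4, 6, 4, 6, 4, 5, 5, 5, 4]) (.leaf 167 8 [5, 4, 5, 5, 5, 5, 5, 4, 5, 4, 11, 11, 10, 12, 12, 12, 10, 11, 8, 9, 7, 9, 7, 5, 4, 6, 4, 6, 4, 5, 5])) (.node 184 (.leaf 168 9 [5, 5, 4, 5, 4, 5, 4, 6, 6, 12, 10, 11, 11, 8, 9, 7, 9, 8, 9, 8, 9, 7, 9, 8, 4, 6, 4, 5, 4, 5, 4, 6, 4]) (.node 185 (.leaf 169 8 [5, 4, 6, 6, 4, 6, 6, 6, 6, 4, 11, 11, 11, 11, 8, 9, 8, 9, 8, 9, 6, 6, 6, 6, 6, 4, 5, 5]) (.leaf 170 9 [4, 5, 5, 4, 6, 6, 4, 5, 5, 4, 11, 11, 10, 12, 12, 12, 10,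 9, 8, 9, 7, 9, 8, 9, 7, 9, 8, 9, 7, 9, 7, 9, 8, 9, 8, 6, 4, 6, 4, 6, 6, 4, 5, 5]))))) (.node 191 (.node 188 (.node 187 (.leaf 171 9 [4, 6, 6, 4, 5, 5, 4, 6, 6, 4, 10, 12, 12, 10, 11, 11, 10, 9, 8, 9, 7, 9, 7, 9, 8, 9, 7, 9, 8, 9, 8, 9, 7, 9, 4, 5, 5, 4, 6, 6, 4, 5, 5]) (.leaf 172 9 [5, 5, 4, 5, 5, 4, 5, 4, 5, 4, 10, 11, 10, 12, 10, 11, 10, 9, 8, 9, 8, 9, 8, 9, 7, 6, 6, 4, 6, 6, 6, 4, 6, 4])) (.node 189 (.leaf 8 26 [5, 5, 4, 5, 5, 5, 4, 5, 5, 5, 4, 5, 5, 5, 4, 5, 5, 5, 4, 5, 5, 5, 4, 5, 5, 5, 4, 5, 5, 5, 4, 5]) (.node 190 (.leaf 173 9 [5, 5, 4, 5, 5, 4, 5, 4, 6, 6, 10, 12, 12, 12, 10, 11, 10, 9, 7, 9, 7, 9, 7, 9, 7, 9, 8, 9, 7, 9, 8, 9, 8, 9, 8, 9, 8, 9, 4,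 5, 4, 5, 4, 5, 5, 5, 4]) (.leaf 174 9 [4, 6, 6, 4, 5, 4, 5, 4, 5, 5, 10, 12, 10, 11, 10, 12, 12, 8, 9, 7, 9, 8, 9, 8, 9, 6, 4, 5, 4, 5, 5, 4, 5, 5])))) (.node 193 (.node 192 (.leaf 175 9 [4, 5, 4, 5, 5, 4, 5, 5, 5, 4, 11, 10, 12, 12, 10, 11, 11, 10, 12, 9, 7, 9, 7, 9, 7, 9, 7, 9, 8, 9, 7, 9, 8, 9, 8, 9, 8, 9, 8, 9, 4, 6, 6, 6, 4, 6, 6, 4, 6]) (.leaf 176 9 [4, 6, 6, 4, 6, 4, 5, 5, 5, 4, 11, 10, 9, 7, 9, 7, 9, 8, 9, 8, 9, 7, 9, 7, 9, 7, 4, 6, 6, 4, 6, 6, 6, 4, 6])) (.node 194 (.leaf 177 9 [5, 4, 6, 4, 6, 4, 6, 4, 6, 4, 10, 11, 10, 12, 12, 12, 8, 9, 7, 9, 7, 9, 7, 9, 8, 9, 7, 5, 5, 4, 6, 6, 4, 6, 4, 5]) (.node 195 (.leaf 8 8 [4, 5, 5, 5, 4, 5, 5, 5, 4, 5, 5,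 5, 4, 5, 5, 5, 4, 5, 5, 5, 4, 5, 5, 5, 4, 5, 5, 5, 4, 5, 5, 5]) (.leaf 178 9 [4, 6, 6, 6, 4, 6, 4, 5, 5, 5, 12, 12, 10, 11, 10, 8, 9, 7, 9, 7, 9, 7, 9, 8, 9, 7, 9, 8, 6, 6, 6, 4, 5, 5, 4, 6, 6]))))))) (.node 215 (.node 205 (.node 200 (.node 198 (.node 197 (.leaf 179 9 [4, 6, 4, 5, 5, 4, 5, 5, 5, 5, 11, 10, 12, 10, 11, 11, 10, 9, 8, 9, 8, 9, 7, 9, 7, 9, 8, 9, 8, 9, 8, 9, 8, 5, 4, 5, 5, 4, 5, 5, 4, 5]) (.leaf 180 9 [5, 5, 5, 4, 6, 6, 6, 6, 6, 4, 10, 12, 12, 10, 11, 11, 10, 12, 9, 8, 9, 7, 9, 8, 9, 7, 5, 4, 5, 5, 4, 5, 5, 4, 5])) (.node 199 (.leaf 8 29 [5, 5, 5, 4, 5, 5, 5, 4, 5, 5, 5, 4, 5, 5, 5, 4, 5, 5, 5, 4, 5, 5, 5, 4, 5, 5, 5, 4, 5, 5, 5, 4]) (.leaf 181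 9 [5, 5, 4, 5, 5, 4, 6, 6, 6, 6, 11, 10, 12, 10, 11, 11, 10, 8, 9, 7, 9, 8, 9, 7, 9, 8, 9, 8, 9, 7, 9, 8, 9, 8, 4, 6, 4, 5, 5, 4, 5, 5, 4]))) (.node 202 (.node 201 (.leaf 127 18 [10, 9, 8, 6, 6, 4, 6, 4, 5, 4, 5, 4, 6, 6, 6, 4, 6, 6, 4, 5, 5]) (.leaf 182 9 [5, 4, 5, 4, 5, 5, 5, 4, 6, 4, 10, 12, 12, 12, 10, 11, 8, 9, 7, 9, 7, 9, 7, 9, 8, 9, 7, 9, 7, 9, 8, 4, 5, 4, 6, 6, 6, 4, 5, 4])) (.node 203 (.leaf 183 9 [5, 4, 5, 4, 6, 6, 6, 6, 4, 6, 11, 11, 11, 8, 9, 8, 9, 7, 9, 7, 6, 4, 6, 4, 6, 4, 5, 5, 4]) (.node 204 (.leaf 184 9 [4, 6, 4, 6, 6, 6, 4, 6, 6, 6, 11, 11, 10, 12, 10, 8, 9, 7, 9, 7, 9, 8, 9, 7, 9, 7, 9, 7, 9, 7, 4, 5, 5, 5, 5, 4, 5, 4, 6]) (.leaf 127 11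 [6, 4, 6, 6, 4, 5, 5, 10, 9, 8, 6, 6, 4, 6, 4, 5, 4, 5, 4, 6, 6]))))) (.node 210 (.node 207 (.node 206 (.leaf 185 9 [5, 5, 4, 6, 4, 6, 6, 6, 6, 4, 11, 11, 11, 10, 12, 12, 10, 11, 8, 9, 7, 9, 8, 9, 8, 9, 8, 9, 7, 9, 8, 9, 7, 9, 7, 4, 6, 4, 6, 6, 4, 5, 5, 5]) (.leaf 8 14 [5, 5, 4, 5, 5, 5, 4, 5, 5, 5, 4, 5, 5, 5, 4, 5, 5, 5, 4, 5, 5, 5, 4, 5, 5, 5, 4, 5, 5, 5, 4, 5])) (.node 208 (.leaf 186 9 [5, 4, 5, 4, 6, 4, 5, 5, 4, 6, 10, 12, 10, 11, 10, 12, 12, 10, 9, 8, 9, 7, 9, 7, 9, 8, 9, 7, 9, 8, 9, 8, 9, 4, 6, 6, 4, 5, 5, 5, 5, 4]) (.node 209 (.leaf 187 9 [4, 6, 4, 5, 4, 5, 4, 6, 6, 4, 10, 12, 12, 12, 10, 9, 8, 9, 8, 9, 8, 9, 7, 9, 7, 9, 7, 9, 7, 9, 8, 4, 6, 6, 4,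 5, 5, 4, 5, 5]) (.leaf 188 9 [4, 6, 4, 6, 4, 6, 6, 6, 6, 6, 10, 11, 11, 11, 10, 12, 9, 7, 9, 8, 9, 8, 9, 7, 9, 7, 5, 4, 5, 4, 5, 5, 5, 4, 5])))) (.node 212 (.node 211 (.leaf 189 9 [5, 5, 4, 6, 6, 6, 6, 6, 4, 6, 12, 10, 11, 10, 12, 12, 10, 9, 8, 9, 8, 9, 8, 9, 7, 9, 7, 9, 8, 9, 8, 9, 8, 5, 4, 5, 4, 5, 5, 5, 4, 5]) (.leaf 8 18 [5, 5, 4, 5, 5, 5, 4, 5, 5, 5, 4, 5, 5, 5, 4, 5, 5, 5, 4, 5, 5, 5, 4, 5, 5, 5, 4, 5, 5, 5, 4, 5])) (.node 213 (.leaf 190 9 [5, 4, 6, 6, 4, 5, 5, 4, 6, 6, 12, 8, 9, 7, 9, 7, 9, 8, 9, 8, 9, 8, 9, 7, 4, 6, 6, 4, 5, 5, 4, 5, 4]) (.node 214 (.leaf 191 9 [4, 5, 5, 5, 5, 5, 5, 4, 6, 4, 12, 10, 9, 7, 9, 7, 9, 7, 9, 8, 9, 8, 9, 8, 9, 8, 9, 7, 9,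 8, 4, 5, 4, 5, 4, 6, 6, 4, 6]) (.leaf 192 9 [4, 6, 4, 6, 4, 5, 4, 6, 6, 6, 9, 7, 9, 8, 9, 5, 5, 5, 4, 6, 4, 5, 4, 5])))))) (.node 225 (.node 220 (.node 217 (.node 216 (.leaf 192 23 [9, 5, 5, 5, 4, 6, 4, 5, 4, 5, 4, 6, 4, 6, 4, 5, 4, 6, 6, 6, 9, 7, 9, 8]) (.leaf 192 22 [8, 9, 5, 5, 5, 4, 6, 4, 5, 4, 5, 4, 6, 4, 6, 4, 5, 4, 6, 6, 6, 9, 7, 9])) (.node 218 (.leaf 9 31 [6, 4, 6, 6, 6, 4, 6, 6, 6, 4, 6, 6, 6, 4, 6, 6, 6, 4, 6, 6, 6, 4, 6, 6, 6, 4, 6, 6, 6, 4, 6, 6]) (.node 219 (.leaf 193 9 [4, 5, 5, 5, 4, 6, 6, 6, 6, 4, 12, 10, 11, 10, 12, 9, 7, 9, 7, 9, 8, 9, 8, 9, 7, 9, 7, 9, 8, 9, 8, 9, 7, 9, 8, 6, 4, 6, 4, 5, 4, 6, 4, 5]) (.leaf 7 4 [4, 5, 4, 6, 4, 5, 4, 6,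 4, 5, 4, 6, 4, 5, 4, 6, 4, 5, 4, 6, 4, 5, 4, 6, 4, 5, 4, 6, 4, 5, 4, 6, 4, 5, 4, 6, 4, 5, 4, 6])))) (.node 222 (.node 221 (.leaf 194 9 [4, 6, 4, 6, 6, 4, 5, 4, 5, 5, 10, 12, 12, 10, 11, 9, 8, 9, 8, 9, 8, 9, 7, 9, 7, 9, 7, 9, 8, 9, 4, 6, 4, 6, 4, 5, 4, 5, 5]) (.leaf 195 9 [4, 6, 6, 4, 5, 5, 4, 5, 5, 4, 11, 11, 10, 12, 10, 11, 10, 12, 12, 8, 9, 8, 9, 7, 9, 8, 9, 8, 9, 8, 9, 8, 9, 8, 9, 7, 4, 5, 4, 6, 6, 6, 4, 6, 6])) (.node 223 (.leaf 196 9 [4, 6, 6, 4, 6, 4, 5, 5, 5, 5, 12, 10, 11, 11, 10, 8, 9, 7, 9, 7, 9, 8, 9, 8, 9, 8, 9, 7, 6, 6, 6, 6, 4, 5, 4, 5, 5]) (.node 224 (.leaf 197 9 [4, 5, 5, 4, 6, 4, 6, 4, 5, 4, 10, 12, 10, 11, 10, 12, 12, 10, 8, 9, 8, 9, 7, 9,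 7, 9, 8, 9, 7, 9, 8, 4, 5, 4, 5, 4, 5, 5, 4, 6]) (.leaf 198 9 [4, 5, 5, 5, 4, 5, 5, 5, 5, 4, 12, 12, 12, 12, 8, 9, 8, 9, 7, 9, 8, 9, 8, 9, 8, 5, 5, 5, 4, 5, 4, 5, 5, 5]))))) (.node 230 (.node 227 (.node 226 (.leaf 199 9 [4, 5, 4, 5, 5, 4, 6, 6, 6, 6, 10, 12, 10, 11, 11, 10, 12, 8, 9, 8, 9, 8, 9, 7, 9, 8, 9, 7, 9, 7, 9, 7, 9, 6, 6, 6, 6, 6, 6, 4, 6, 6]) (.leaf 200 9 [5, 4, 6, 6, 4, 5, 4, 5, 4, 6, 12, 10, 11, 8, 9, 8, 9, 7, 9, 7, 9, 7, 5, 5, 4, 6, 4, 5, 4, 5, 4])) (.node 228 (.leaf 201 9 [5, 4, 5, 4, 5, 5, 4, 5, 4, 5, 11, 10, 12, 12, 10, 11, 11, 8, 9, 8, 9, 8, 9, 7, 9, 5, 4, 6, 4, 6, 6, 6, 6, 4]) (.node 229 (.leaf 202 9 [4, 6, 4, 5, 4, 6, 6, 6, 4, 6, 12, 12,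 10, 11, 10, 12, 8, 9, 7, 9, 7, 9, 7, 9, 8, 9, 7, 9, 8, 9, 8, 9, 8, 9, 4, 6, 4, 5, 5, 5, 4, 6, 6]) (.leaf 203 9 [5, 5, 5, 4, 5, 4, 5, 5, 5, 4, 11, 11, 10, 12, 10, 11, 9, 7, 9, 7, 9, 7, 9, 8, 9, 8, 9, 7, 9, 7, 9, 8, 9, 8, 9, 8, 4, 5, 4, 6, 6, 6, 6, 6, 4])))) (.node 232 (.node 231 (.leaf 8 4 [4, 5, 5, 5, 4, 5, 5, 5, 4, 5, 5, 5, 4, 5, 5, 5, 4, 5, 5, 5, 4, 5, 5, 5, 4, 5, 5, 5, 4, 5, 5, 5]) (.leaf 204 9 [4, 6, 6, 6, 6, 4, 5, 4, 5, 4, 10, 12, 12, 9, 8, 9, 8, 9, 7, 9, 7, 9, 8, 9, 8, 9, 8, 6, 4, 5, 4, 6, 6, 6, 6, 6])) (.node 233 (.leaf 205 9 [4, 5, 4, 5, 4, 6, 6, 6, 6, 4, 10, 12, 10, 11, 10, 12, 12, 10, 8, 9, 8, 9, 7, 9, 8, 9, 7, 9, 8, 4, 6, 4, 5, 5, 4, 5, 5, 5]) (.node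 234 (.leaf 206 9 [5, 4, 6, 6, 6, 4, 5, 4, 5, 5, 12, 10, 11, 11, 10, 12, 12, 10, 9, 8, 9, 7, 9, 7, 9, 7, 9, 7, 9, 7, 9, 7, 9, 8, 5, 4, 5, 5, 5, 5, 4, 5, 4]) (.leaf 207 9 [5, 4, 5, 5, 5, 5, 4, 6, 6, 6, 10, 12, 10, 11, 11, 11, 10, 9, 8, 9, 7, 9, 8, 9, 8, 9, 8, 5, 4, 5, 5, 4, 5, 5, 5, 4])))))))) (.node 274 (.node 254 (.node 244 (.node 239 (.node 237 (.node 236 (.leaf 208 9 [4, 5, 5, 4, 5, 5, 4, 6, 4, 6, 10, 12, 10, 11, 8, 9, 8, 9, 8, 9, 7, 9, 7, 6, 6, 6, 4, 6, 4, 6, 4, 5]) (.leaf 209 9 [5, 5, 5, 4, 6, 4, 5, 5, 5, 4, 11, 10, 12, 12, 10, 11, 11, 10, 8, 9, 8, 9, 7, 9, 7, 9, 7, 9, 8, 9, 6, 6, 6, 4, 6, 4, 6, 4, 5])) (.node 238 (.leaf 210 9 [4, 6, 6, 4, 6, 4, 5, 4,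 5, 5, 11, 10, 12, 10, 11, 10, 12, 10, 9, 7, 9, 7, 9, 7, 9, 7, 9, 8, 9, 7, 9, 8, 9, 8, 9, 8, 9, 4, 5, 4, 6, 6, 4, 5, 5, 5]) (.leaf 7 5 [5, 4, 6, 4, 5, 4, 6, 4, 5, 4, 6, 4, 5, 4, 6, 4, 5, 4, 6, 4, 5, 4, 6, 4, 5, 4, 6, 4, 5, 4, 6, 4, 5, 4, 6, 4, 5, 4, 6, 4]))) (.node 241 (.node 240 (.leaf 127 14 [6, 4, 5, 5, 10, 9, 8, 6, 6, 4, 6, 4, 5, 4, 5, 4, 6, 6, 6, 4, 6]) (.leaf 211 9 [4, 6, 6, 6, 4, 5, 5, 5, 4, 5, 10, 12, 12, 10, 11, 11, 8, 9, 7, 9, 8, 9, 8, 9, 7, 9, 7, 6, 4, 6, 6, 4, 6, 6, 6, 6])) (.node 242 (.leaf 212 9 [4, 6, 4, 5, 4, 6, 4, 6, 4, 5, 10, 11, 11, 10, 12, 12, 10, 8, 9, 7, 9, 8, 9, 7, 9, 8, 9, 8, 9, 7, 9, 7, 6, 6, 6, 6, 4, 5, 4, 6, 6]) (.node 243 (.leaf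 213 9 [5, 4, 6, 6, 6, 6, 6, 4, 6, 6, 10, 12, 10, 11, 8, 9, 7, 9, 7, 9, 8, 9, 7, 9, 8, 9, 7, 9, 8, 9, 8, 9, 4, 5, 5, 5, 5, 5, 4, 6, 4]) (.leaf 3 1 [9, 8, 10, 7]))))) (.node 249 (.node 246 (.node 245 (.leaf 2 9 [4, 6, 4, 5, 9, 6, 4, 5, 4, 6, 6, 4, 5, 5]) (.leaf 214 9 [5, 5, 5, 5, 5, 4, 5, 5, 4, 5, 10, 11, 11, 11, 10, 12, 10, 9, 7, 9, 7, 9, 8, 9, 8, 9, 7, 9, 7, 9, 8, 9, 7, 9, 4, 6, 4, 6, 4, 5, 4, 5, 4])) (.node 247 (.leaf 215 9 [4, 6, 4, 6, 4, 5, 5, 5, 5, 4, 12, 12, 12, 12, 10, 8, 9, 8, 9, 7, 9, 8, 9, 8, 9, 8, 9, 7, 6, 6, 6, 6, 6, 4, 5, 4, 5]) (.node 248 (.leaf 216 9 [5, 5, 4, 6, 4, 5, 5, 4, 6, 4, 11, 10, 12, 12, 10, 11, 9, 8, 9, 8, 9, 8, 9, 6, 4, 6, 4, 5, 5,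 5, 4, 5]) (.leaf 217 9 [5, 5, 4, 6, 6, 6, 6, 6, 4, 5, 10, 11, 10, 12, 10, 11, 11, 10, 9, 8, 9, 7, 9, 7, 9, 7, 9, 7, 9, 8, 9, 8, 9, 7, 4, 6, 4, 6, 4, 6, 4, 5, 5])))) (.node 251 (.node 250 (.leaf 218 9 [5, 5, 4, 6, 6, 6, 4, 5, 5, 4, 8, 9, 7, 9, 8, 9, 8, 9, 7, 9, 7, 9, 8, 9, 8, 9, 8, 9, 8, 4, 5, 4, 6, 6, 4, 6, 4, 5]) (.leaf 219 9 [4, 5, 4, 6, 6, 6, 4, 6, 6, 6, 12, 10, 11, 11, 11, 10, 9, 8, 9, 7, 9, 8, 9, 8, 9, 8, 4, 5, 4, 6, 4, 6, 4, 5, 5])) (.node 252 (.leaf 220 9 [4, 5, 5, 5, 4, 5, 5, 5, 5, 5, 10, 12, 12, 10, 11, 10, 12, 10, 9, 7, 9, 8, 9, 7, 9, 7, 9, 7, 9, 8, 9, 8, 9, 8, 6, 6, 4, 5, 5, 5, 5, 5, 5]) (.node 253 (.leaf 221 9 [4, 5, 4, 5, 5, 4, 5, 5, 4, 5, 12,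 12, 12, 12, 12, 12, 9, 8, 9, 7, 9, 8, 9, 8, 9, 8, 9, 6, 4, 6, 6, 4, 6, 6, 4, 6]) (.leaf 222 9 [5, 4, 6, 6, 6, 6, 6, 6, 4, 5, 10, 12, 12, 10, 11, 9, 7, 9, 8, 9, 7, 9, 8, 9, 7, 9, 7, 9, 7, 9, 7, 4, 6, 4, 6, 4, 5, 5, 4, 5])))))) (.node 264 (.node 259 (.node 256 (.node 255 (.leaf 223 9 [5, 4, 6, 6, 6, 6, 6, 4, 5, 5, 10, 12, 12, 12, 8, 9, 8, 9, 8, 9, 7, 9, 8, 9, 7, 9, 7, 9, 7, 9, 8, 9, 4, 5, 4, 6, 4, 5, 4, 5, 4]) (.leaf 224 9 [5, 4, 6, 4, 6, 4, 6, 6, 4, 6, 10, 11, 10, 12, 12, 10, 11, 8, 9, 8, 9, 8, 9, 8, 9, 8, 9, 6, 4, 6, 6, 4, 5, 5, 5, 4])) (.node 257 (.leaf 225 9 [5, 5, 4, 6, 6, 4, 5, 4, 5, 4, 12, 10, 11, 10, 12, 10, 11, 11, 8, 9, 7, 9, 8, 9, 7, 9, 8, 9, 8, 9,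 7, 9, 8, 9, 7, 4, 6, 6, 6, 6, 4, 5, 4, 5]) (.node 258 (.leaf 226 9 [5, 4, 5, 4, 5, 5, 5, 4, 5, 4, 12, 12, 12, 12, 12, 8, 9, 7, 9, 7, 9, 8, 9, 7, 9, 8, 9, 7, 5, 4, 5, 5, 4, 5, 4, 5, 4]) (.leaf 227 9 [4, 5, 5, 4, 5, 5, 4, 6, 6, 6, 12, 12, 10, 11, 10, 12, 12, 9, 7, 9, 7, 9, 8, 9, 8, 9, 7, 9, 7, 9, 8, 9, 7, 9, 8, 5, 5, 5, 5, 4, 6, 6, 6, 6])))) (.node 261 (.node 260 (.leaf 228 9 [4, 6, 6, 6, 4, 5, 4, 6, 4, 6, 10, 12, 10, 11, 11, 9, 8, 9, 7, 9, 8, 9, 7, 9, 7, 9, 7, 9, 7, 4, 6, 4, 5, 4, 6, 4, 5, 5]) (.leaf 229 9 [5, 5, 4, 5, 5, 4, 5, 5, 5, 4, 10, 11, 10, 12, 10, 11, 11, 10, 9, 7, 9, 8, 9, 7, 9, 8, 6, 6, 6, 4, 5, 4, 5, 5, 5])) (.node 262 (.leaf 230 9 [5, 4, 6, 6,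 4, 6, 4, 5, 4, 6, 12, 10, 11, 10, 12, 12, 9, 7, 9, 8, 9, 7, 9, 7, 9, 7, 9, 5, 5, 5, 4, 5, 5, 4, 5, 4]) (.node 263 (.leaf 231 9 [5, 4, 5, 4, 6, 6, 6, 6, 6, 4, 11, 10, 12, 12, 12, 12, 8, 9, 7, 9, 8, 9, 8, 9, 7, 9, 7, 9, 8, 9, 8, 9, 7, 9, 6, 4, 5, 4, 6, 4, 5, 5, 4]) (.leaf 127 19 [9, 8, 6, 6, 4, 6, 4, 5, 4, 5, 4, 6, 6, 6, 4, 6, 6, 4, 5, 5, 10]))))) (.node 269 (.node 266 (.node 265 (.leaf 232 9 [5, 4, 5, 5, 5, 5, 4, 5, 4, 6, 11, 11, 11, 10, 12, 12, 10, 8, 9, 8, 9, 8, 9, 7, 9, 7, 6, 6, 6, 6, 6, 4, 6, 6, 4]) (.leaf 192 20 [7, 9, 8, 9, 5, 5, 5, 4, 6, 4, 5, 4, 5, 4, 6, 4, 6, 4, 5, 4, 6, 6, 6, 9])) (.node 267 (.leaf 192 21 [9, 8, 9, 5, 5, 5, 4, 6, 4, 5, 4, 5, 4, 6,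 4, 6, 4, 5, 4, 6, 6, 6, 9, 7]) (.node 268 (.leaf 2 11 [4, 5, 9, 6, 4, 5, 4, 6, 6, 4, 5, 5, 4, 6]) (.leaf 233 9 [5, 5, 4, 6, 4, 5, 4, 6, 4, 5, 11, 10, 12, 12, 10, 11, 10, 8, 9, 7, 9, 7, 9, 8, 9, 7, 9, 7, 9, 7, 9, 4, 5, 5, 5, 5, 5, 4, 5, 4])))) (.node 271 (.node 270 (.leaf 234 9 [5, 4, 6, 4, 5, 5, 4, 6, 4, 6, 10, 12, 10, 11, 10, 12, 9, 7, 9, 8, 9, 8, 9, 8, 9, 8, 9, 4, 5, 4, 6, 4, 6, 6, 6, 4]) (.leaf 8 2 [5, 5, 4, 5, 5, 5, 4, 5, 5, 5, 4, 5, 5, 5, 4, 5, 5, 5, 4, 5, 5, 5, 4, 5, 5, 5, 4, 5, 5, 5, 4, 5])) (.node 272 (.leaf 235 9 [5, 4, 6, 4, 5, 4, 5, 4, 5, 4, 12, 12, 12, 12, 12, 12, 8, 9, 7, 9, 8, 9, 8, 9, 7, 9, 8, 9, 8, 9, 7, 9, 7, 9, 8, 6, 4, 5, 4, 5, 5, 5, 5,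 5]) (.node 273 (.leaf 236 9 [5, 5, 4, 6, 6, 4, 6, 6, 4, 5, 10, 11, 11, 11, 10, 9, 7, 9, 8, 9, 8, 9, 8, 9, 8, 9, 8, 9, 8, 9, 7, 6, 4, 5, 4, 6, 4, 5, 5, 5]) (.leaf 237 9 [5, 4, 5, 4, 5, 5, 4, 5, 4, 6, 10, 12, 10, 11, 11, 10, 12, 12, 9, 8, 9, 7, 9, 8, 9, 7, 4, 5, 4, 5, 4, 5, 4, 5, 4]))))))) (.node 294 (.node 284 (.node 279 (.node 276 (.node 275 (.leaf 238 9 [5, 4, 6, 4, 6, 6, 4, 6, 4, 6, 12, 12, 10, 11, 10, 12, 10, 11, 8, 9, 7, 9, 8, 9, 7, 9, 7, 9, 8, 9, 8, 9, 7, 9, 7, 5, 4, 5, 4, 6, 4, 5, 5, 4]) (.leaf 239 10 [5, 5, 5, 4, 5, 4, 6, 6, 6, 6, 10, 12, 12, 10, 11, 10, 12, 9, 7, 9, 7, 9, 8, 9, 8, 9, 7, 9, 7, 9, 8, 5, 4, 5, 5, 5, 5, 5, 4, 6, 4])) (.node 277 (.leaf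 240 9 [5, 5, 5, 5, 4, 5, 5, 4, 5, 4, 6, 10, 11, 10, 12, 10, 11, 10, 12, 9, 8, 9, 7, 9, 7, 9, 7, 9, 7, 9, 8, 9, 8, 6, 4, 5, 4, 5, 5, 4, 5, 5]) (.node 278 (.leaf 241 9 [4, 5, 4, 5, 4, 5, 4, 6, 4, 6, 4, 10, 11, 11, 10, 9, 7, 9, 8, 9, 8, 9, 7, 5, 4, 5, 4, 5, 5, 4, 5, 5]) (.leaf 242 10 [5, 5, 4, 6, 6, 4, 6, 6, 6, 6, 10, 11, 9, 7, 9, 8, 9, 7, 9, 7, 9, 8, 9, 7, 9, 7, 9, 8, 5, 5, 4, 5, 5, 5, 5, 4, 6, 4])))) (.node 281 (.node 280 (.leaf 243 9 [4, 6, 6, 6, 6, 6, 4, 6, 4, 5, 4, 10, 12, 12, 10, 11, 11, 8, 9, 8, 9, 8, 9, 7, 9, 8, 9, 7, 9, 7, 9, 7, 9, 7, 9, 7, 6, 4, 5, 4, 5, 5, 4, 6, 6]) (.leaf 9 10 [6, 6, 4, 6, 6, 6, 4, 6, 6, 6, 4, 6, 6, 6, 4, 6, 6, 6, 4, 6, 6, 6, 4, 6,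 6, 6, 4, 6, 6, 6, 4, 6])) (.node 282 (.leaf 244 10 [4, 5, 4, 6, 4, 6, 6, 4, 6, 6, 10, 11, 10, 12, 10, 11, 11, 10, 9, 8, 9, 7, 9, 7, 9, 8, 9, 7, 9, 8, 9, 8, 9, 8, 5, 4, 6, 6, 4, 5, 4, 6, 4, 5]) (.node 283 (.leaf 245 9 [4, 5, 4, 6, 6, 6, 4, 5, 5, 4, 6, 11, 11, 11, 11, 11, 11, 11, 9, 7, 9, 8, 9, 7, 9, 7, 9, 8, 9, 8, 9, 7, 9, 5, 5, 4, 5, 5, 4, 6, 4, 5]) (.leaf 246 10 [4, 6, 4, 6, 4, 6, 4, 5, 5, 5, 11, 11, 11, 10, 9, 7, 9, 7, 9, 7, 9, 8, 9, 8, 9, 7, 9, 7, 9, 8, 9, 7, 5, 5, 4, 5, 5, 5, 4, 5, 4, 5]))))) (.node 289 (.node 286 (.node 285 (.leaf 247 10 [5, 4, 6, 6, 4, 5, 4, 6, 4, 5, 10, 11, 11, 10, 12, 10, 9, 7, 9, 8, 9, 7, 9, 7, 9, 8, 9, 8, 9, 8, 9, 5, 5, 4, 6, 4,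 6, 6, 4, 6, 4]) (.leaf 192 19 [9, 7, 9, 8, 9, 5, 5, 5, 4, 6, 4, 5, 4, 5, 4, 6, 4, 6, 4, 5, 4, 6, 6, 6])) (.node 287 (.leaf 3 0 [7, 9, 8, 10]) (.node 288 (.leaf 248 9 [5, 5, 5, 4, 5, 4, 6, 6, 4, 6, 4, 11, 10, 12, 12, 12, 10, 11, 8, 9, 8, 9, 8, 9, 5, 4, 5, 4, 5, 5, 4, 5, 4]) (.leaf 249 9 [4, 6, 4, 5, 4, 5, 5, 5, 4, 6, 4, 11, 11, 9, 8, 9, 7, 9, 7, 9, 7, 9, 7, 9, 8, 9, 8, 9, 7, 6, 4, 5, 4, 6, 4, 6, 4, 6])))) (.node 291 (.node 290 (.leaf 250 10 [4, 5, 4, 5, 5, 5, 5, 4, 5, 5, 10, 12, 10, 11, 10, 12, 12, 12, 9, 7, 9, 8, 9, 7, 9, 8, 9, 8, 9, 8, 9, 7, 9, 5, 4, 5, 5, 5, 5, 4, 6, 6, 6]) (.leaf 251 9 [4, 5, 4, 6, 4, 6, 6, 4, 5, 4, 6, 10, 12, 12, 12, 10, 11, 10, 8, 9,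 7, 9, 7, 9, 7, 9, 8, 9, 7, 9, 8, 9, 7, 9, 8, 5, 5, 4, 6, 6, 4, 6, 6, 6])) (.node 292 (.leaf 252 10 [5, 4, 6, 6, 4, 6, 4, 5, 5, 5, 12, 12, 10, 8, 9, 7, 9, 8, 9, 7, 9, 8, 9, 7, 9, 7, 9, 8, 9, 7, 6, 6, 4, 6, 4, 6, 6, 4, 5, 5]) (.node 293 (.leaf 1 2 [5, 5, 4, 6, 4, 5, 5, 8, 4, 5]) (.leaf 8 17 [5, 5, 5, 4, 5, 5, 5, 4, 5, 5, 5, 4, 5, 5, 5, 4, 5, 5, 5, 4, 5, 5, 5, 4, 5, 5, 5, 4, 5, 5, 5, 4])))))) (.node 304 (.node 299 (.node 296 (.node 295 (.leaf 253 9 [4, 6, 6, 6, 4, 5, 5, 4, 6, 4, 6, 12, 10, 11, 11, 10, 9, 8, 9, 7, 9, 8, 9, 7, 9, 8, 9, 7, 9, 7, 9, 8, 9, 8, 5, 4, 5, 4, 6, 6, 6, 6, 6]) (.leaf 2 2 [5, 4, 6, 6, 4, 5, 5, 4, 6, 4, 5, 9, 6, 4])) (.node 297 (.leaf 254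 9 [4, 5, 4, 5, 5, 5, 4, 5, 5, 4, 6, 12, 12, 12, 12, 12, 12, 12, 9, 7, 9, 8, 9, 7, 9, 7, 9, 7, 9, 8, 9, 8, 9, 7, 9, 8, 6, 6, 6, 4, 5, 4, 6, 6, 6]) (.node 298 (.leaf 2 1 [4, 5, 4, 6, 6, 4, 5, 5, 4, 6, 4, 5, 9, 6]) (.leaf 255 10 [4, 5, 5, 5, 5, 5, 5, 4, 5, 5, 10, 11, 10, 12, 12, 10, 9, 7, 9, 7, 9, 8, 9, 8, 9, 7, 9, 7, 9, 8, 9, 7, 9, 7, 5, 4, 5, 4, 6, 4, 5, 5, 4, 6])))) (.node 301 (.node 300 (.leaf 3 2 [8, 10, 7, 9]) (.leaf 1 0 [4, 5, 5, 5, 4, 6, 4, 5, 5, 8])) (.node 302 (.leaf 256 10 [5, 5, 4, 5, 5, 4, 5, 4, 5, 5, 10, 12, 10, 11, 11, 11, 10, 9, 8, 9, 8, 9, 8, 9, 7, 9, 7, 9, 8, 6, 4, 6, 6, 6, 6, 4, 5, 5, 5]) (.node 303 (.leaf 257 10 [4, 6, 6, 4, 6, 6, 6, 4, 5,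 4, 12, 10, 11, 11, 10, 12, 10, 9, 8, 9, 8, 9, 8, 9, 7, 9, 8, 9, 7, 9, 4, 5, 5, 4, 6, 4, 5, 4, 6, 6]) (.leaf 258 9 [4, 5, 4, 5, 5, 5, 4, 5, 4, 6, 4, 11, 11, 11, 10, 8, 9, 7, 9, 7, 9, 7, 9, 7, 9, 5, 4, 5, 4, 6, 4, 6, 6, 6]))))) (.node 309 (.node 306 (.node 305 (.leaf 259 10 [5, 5, 4, 5, 5, 5, 5, 4, 5, 5, 10, 12, 12, 10, 11, 11, 10, 12, 12, 9, 7, 9, 8, 9, 7, 9, 8, 9, 7, 9, 7, 9, 7, 4, 6, 6, 4, 6, 4, 6, 4, 6, 4]) (.leaf 260 9 [5, 5, 4, 6, 4, 6, 6, 4, 5, 4, 6, 10, 11, 11, 11, 10, 12, 10, 9, 7, 9, 7, 9, 8, 9, 7, 9, 7, 6, 6, 6, 4, 5, 4, 5, 4, 5])) (.node 307 (.leaf 8 19 [5, 4, 5, 5, 5, 4, 5, 5, 5, 4, 5, 5, 5, 4, 5, 5, 5, 4, 5, 5, 5, 4, 5, 5, 5, 4, 5, 5, 5, 4, 5,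 5]) (.node 308 (.leaf 261 10 [5, 5, 4, 6, 4, 5, 5, 5, 5, 4, 12, 12, 10, 8, 9, 7, 9, 8, 9, 7, 9, 8, 9, 7, 4, 5, 5, 4, 6, 6, 6, 4, 6, 4]) (.leaf 262 9 [4, 6, 6, 4, 6, 4, 5, 4, 5, 4, 6, 12, 10, 11, 10, 12, 12, 8, 9, 7, 9, 8, 9, 7, 9, 7, 9, 7, 9, 7, 9, 8, 9, 8, 9, 6, 6, 4, 5, 5, 5, 4, 6, 6])))) (.node 311 (.node 310 (.leaf 263 10 [4, 6, 6, 6, 4, 5, 5, 4, 5, 5, 10, 12, 10, 11, 10, 12, 12, 9, 8, 9, 8, 9, 7, 9, 7, 9, 7, 9, 8, 9, 8, 9, 6, 4, 6, 6, 6, 6, 6, 4, 6, 6]) (.leaf 8 31 [5, 4, 5, 5, 5, 4, 5, 5, 5, 4, 5, 5, 5, 4, 5, 5, 5, 4, 5, 5, 5, 4, 5, 5, 5, 4, 5, 5, 5, 4, 5, 5])) (.node 312 (.leaf 1 7 [5, 5, 8, 4, 5, 5, 5, 4, 6, 4]) (.node 313 (.leaf 264 10 [5, 4, 6, 6,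 4, 5, 4, 5, 4, 5, 10, 12, 12, 10, 11, 8, 9, 8, 9, 8, 9, 8, 9, 8, 9, 8, 9, 7, 9, 7, 9, 8, 9, 5, 5, 5, 4, 6, 6, 6, 4, 6, 4]) (.leaf 7 34 [4, 6, 4, 5, 4, 6, 4, 5, 4, 6, 4, 5, 4, 6, 4, 5, 4, 6, 4, 5, 4, 6, 4, 5, 4, 6, 4, 5, 4, 6, 4, 5, 4, 6, 4, 5, 4, 6, 4, 5])))))))))) (.node 471 (.node 392 (.node 353 (.node 333 (.node 323 (.node 318 (.node 316 (.node 315 (.leaf 265 10 [5, 5, 4, 5, 4, 5, 4, 6, 4, 5, 10, 12, 12, 12, 10, 11, 10, 8, 9, 8, 9, 8, 9, 7, 9, 8, 9, 7, 9, 7, 9, 7, 9, 7, 4, 5, 5, 5, 5, 4, 6, 6, 4, 5]) (.leaf 266 10 [5, 4, 5, 5, 4, 5, 5, 5, 5, 4, 10, 11, 11, 11, 11, 10, 12, 9, 8, 9, 7, 9, 7, 9, 8, 9, 8, 9, 8, 9, 8, 9, 8, 4, 5, 4, 6, 6, 6, 4, 6, 4, 5])) (.node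 317 (.leaf 267 9 [4, 5, 4, 5, 4, 6, 4, 6, 4, 5, 4, 11, 11, 10, 12, 12, 10, 11, 8, 9, 6, 4, 6, 6, 6, 6, 6, 4, 6]) (.leaf 7 16 [4, 5, 4, 6, 4, 5, 4, 6, 4, 5, 4, 6, 4, 5, 4, 6, 4, 5, 4, 6, 4, 5, 4, 6, 4, 5, 4, 6, 4, 5, 4, 6, 4, 5, 4, 6, 4, 5, 4, 6]))) (.node 320 (.node 319 (.leaf 9 29 [6, 6, 6, 4, 6, 6, 6, 4, 6, 6, 6, 4, 6, 6, 6, 4, 6, 6, 6, 4, 6, 6, 6, 4, 6, 6, 6, 4, 6, 6, 6, 4]) (.leaf 8 3 [5, 4, 5, 5, 5, 4, 5, 5, 5, 4, 5, 5, 5, 4, 5, 5, 5, 4, 5, 5, 5, 4, 5, 5, 5, 4, 5, 5, 5, 4, 5, 5])) (.node 321 (.leaf 268 10 [5, 4, 6, 6, 6, 6, 6, 4, 5, 4, 10, 12, 12, 10, 11, 11, 10, 8, 9, 7, 9, 8, 9, 7, 9, 8, 9, 8, 9, 7, 9, 8, 4, 6, 4, 5, 4, 6, 4, 5, 5, 5]) (.node 322 (.leaf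 269 9 [5, 5, 4, 6, 4, 6, 6, 6, 6, 6, 4, 12, 10, 11, 11, 10, 12, 10, 8, 9, 8, 9, 8, 9, 7, 9, 7, 9, 7, 5, 5, 4, 6, 6, 6, 4, 5, 4]) (.leaf 270 9 [5, 4, 6, 4, 5, 5, 4, 6, 4, 6, 4, 12, 10, 11, 10, 12, 12, 12, 9, 7, 9, 8, 9, 7, 9, 7, 9, 8, 9, 8, 9, 7, 6, 6, 6, 6, 4, 5, 4, 5, 5]))))) (.node 328 (.node 325 (.node 324 (.leaf 271 9 [5, 5, 4, 5, 5, 4, 6, 4, 5, 5, 4, 10, 12, 12, 10, 11, 10, 12, 10, 8, 9, 8, 9, 7, 9, 8, 9, 7, 9, 5, 5, 5, 5, 5, 4, 5, 4, 5]) (.leaf 272 9 [5, 4, 5, 4, 5, 5, 5, 5, 4, 5, 4, 11, 11, 10, 12, 10, 11, 10, 12, 12, 8, 9, 8, 9, 8, 9, 7, 9, 7, 9, 8, 9, 8, 9, 8, 9, 8, 9, 7, 5, 5, 4, 5, 4, 5, 4, 5, 4])) (.node 326 (.leaf 8 5 [5, 5, 5, 4, 5, 5, 5, 4,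 5, 5, 5, 4, 5, 5, 5, 4, 5, 5, 5, 4, 5, 5, 5, 4, 5, 5, 5, 4, 5, 5, 5, 4]) (.node 327 (.leaf 127 6 [4, 5, 4, 6, 6, 6, 4, 6, 6, 4, 5, 5, 10, 9, 8, 6, 6, 4, 6, 4, 5]) (.leaf 273 10 [4, 6, 4, 5, 4, 6, 6, 4, 5, 5, 12, 10, 11, 11, 10, 12, 12, 10, 8, 9, 8, 9, 8, 4, 5, 5, 4, 6, 6, 4, 5, 4, 6])))) (.node 330 (.node 329 (.leaf 274 9 [5, 4, 6, 6, 4, 6, 6, 6, 4, 6, 4, 12, 12, 10, 11, 11, 8, 9, 7, 9, 8, 9, 8, 9, 8, 9, 8, 9, 8, 9, 7, 6, 4, 5, 4, 5, 5, 5, 5, 4]) (.leaf 275 9 [5, 4, 5, 5, 4, 6, 4, 6, 6, 4, 5, 10, 11, 10, 12, 12, 12, 12, 8, 9, 8, 9, 7, 9, 8, 9, 8, 9, 8, 9, 8, 9, 8, 9, 7, 6, 4, 6, 6, 6, 6, 4, 5, 4])) (.node 331 (.leaf 276 9 [4, 6, 6, 6, 6, 4, 6, 6, 6, 6, 4,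 10, 12, 12, 10, 11, 10, 8, 9, 8, 9, 8, 9, 5, 4, 5, 5, 5, 5, 4, 6, 6]) (.node 332 (.leaf 277 10 [4, 6, 4, 5, 5, 4, 6, 6, 6, 6, 11, 10, 12, 12, 10, 8, 9, 7, 9, 7, 9, 8, 9, 7, 9, 8, 9, 7, 9, 8, 9, 8, 9, 8, 5, 5, 4, 6, 4, 5, 5, 5, 4, 5]) (.leaf 278 9 [5, 4, 6, 4, 6, 6, 4, 5, 4, 5, 4, 10, 12, 10, 11, 10, 12, 10, 8, 9, 8, 9, 7, 9, 7, 9, 7, 9, 7, 9, 8, 9, 7, 9, 7, 5, 5, 5, 4, 5, 4, 5, 4, 5])))))) (.node 343 (.node 338 (.node 335 (.node 334 (.leaf 279 10 [5, 4, 5, 5, 5, 4, 6, 6, 6, 6, 12, 10, 11, 11, 10, 12, 12, 10, 9, 8, 9, 7, 9, 7, 9, 8, 9, 8, 9, 8, 9, 7, 9, 5, 4, 5, 5, 4, 6, 6, 4, 6, 4]) (.leaf 6 7 [6, 6, 6, 6, 6, 6, 6, 6, 6, 6, 6, 6, 6])) (.node 336 (.leaf 127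 16 [5, 5, 10, 9, 8, 6, 6, 4, 6, 4, 5, 4, 5, 4, 6, 6, 6, 4, 6, 6, 4]) (.node 337 (.leaf 127 1 [6, 4, 6, 4, 5, 4, 5, 4, 6, 6, 6, 4, 6, 6, 4, 5, 5, 10, 9, 8, 6]) (.leaf 127 12 [4, 6, 6, 4, 5, 5, 10, 9, 8, 6, 6, 4, 6, 4, 5, 4, 5, 4, 6, 6, 6])))) (.node 340 (.node 339 (.leaf 2 8 [5, 4, 6, 4, 5, 9, 6, 4, 5, 4, 6, 6, 4, 5]) (.leaf 280 9 [5, 5, 4, 5, 5, 4, 6, 6, 4, 6, 4, 11, 11, 11, 10, 12, 9, 7, 9, 7, 9, 7, 9, 7, 9, 8, 9, 8, 9, 8, 9, 7, 9, 7, 6, 6, 4, 5, 5, 5, 5, 5, 4])) (.node 341 (.leaf 8 27 [5, 4, 5, 5, 5, 4, 5, 5, 5, 4, 5, 5, 5, 4, 5, 5, 5, 4, 5, 5, 5, 4, 5, 5, 5, 4, 5, 5, 5, 4, 5, 5]) (.node 342 (.leaf 2 5 [6, 4, 5, 5, 4, 6, 4, 5, 9, 6, 4, 5, 4, 6]) (.leaf 281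 9 [5, 4, 6, 6, 6, 4, 6, 4, 6, 4, 6, 10, 12, 10, 11, 9, 8, 9, 8, 9, 8, 9, 7, 9, 8, 9, 7, 5, 4, 6, 4, 5, 5, 4, 6, 4]))))) (.node 348 (.node 345 (.node 344 (.leaf 282 9 [5, 4, 6, 4, 5, 4, 5, 5, 4, 6, 4, 10, 12, 12, 12, 10, 8, 9, 8, 9, 7, 9, 8, 9, 8, 5, 5, 4, 5, 5, 5, 5, 4, 5]) (.leaf 127 0 [6, 6, 4, 6, 4, 5, 4, 5, 4, 6, 6, 6, 4, 6, 6, 4, 5, 5, 10, 9, 8])) (.node 346 (.leaf 149 20 [7, 9, 8, 9, 7, 9, 8, 9, 7, 5, 5, 4, 5, 5, 4, 6, 6, 4, 5, 4, 6, 4, 6, 6, 6, 4, 5, 10, 9]) (.node 347 (.leaf 192 6 [5, 4, 5, 4, 6, 4, 6, 4, 5, 4, 6, 6, 6, 9, 7, 9, 8, 9, 5, 5, 5, 4, 6, 4]) (.leaf 2 7 [5, 5, 4, 6, 4, 5, 9, 6, 4, 5, 4, 6, 6, 4])))) (.node 350 (.node 349 (.leaf 192 5 [4,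 5, 4, 5, 4, 6, 4, 6, 4, 5, 4, 6, 6, 6, 9, 7, 9, 8, 9, 5, 5, 5, 4, 6]) (.leaf 8 0 [4, 5, 5, 5, 4, 5, 5, 5, 4, 5, 5, 5, 4, 5, 5, 5, 4, 5, 5, 5, 4, 5, 5, 5, 4, 5, 5, 5, 4, 5, 5, 5])) (.node 351 (.leaf 9 5 [6, 6, 6, 4, 6, 6, 6, 4, 6, 6, 6, 4, 6, 6, 6, 4, 6, 6, 6, 4, 6, 6, 6, 4, 6, 6, 6, 4, 6, 6, 6, 4]) (.node 352 (.leaf 283 10 [4, 5, 4, 5, 5, 4, 5, 4, 5, 4, 10, 11, 11, 10, 12, 12, 10, 11, 9, 7, 9, 8, 9, 7, 9, 7, 9, 8, 9, 8, 9, 8, 9, 7, 4, 5, 5, 4, 6, 6, 4, 5, 4, 5]) (.leaf 8 28 [4, 5, 5, 5, 4, 5, 5, 5, 4, 5, 5, 5, 4, 5, 5, 5, 4, 5, 5, 5, 4, 5, 5, 5, 4, 5, 5, 5, 4, 5, 5, 5]))))))) (.node 372 (.node 362 (.node 357 (.node 355 (.node 354 (.leaf 127 13 [6, 6, 4, 5,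 5, 10, 9, 8, 6, 6, 4, 6, 4, 5, 4, 5, 4, 6, 6, 6, 4]) (.leaf 9 7 [6, 4, 6, 6, 6, 4, 6, 6, 6, 4, 6, 6, 6, 4, 6, 6, 6, 4, 6, 6, 6, 4, 6, 6, 6, 4, 6, 6, 6, 4, 6, 6])) (.node 356 (.leaf 6 2 [6, 6, 6, 6, 6, 6, 6, 6, 6, 6, 6, 6, 6]) (.leaf 284 9 [5, 4, 5, 4, 5, 5, 4, 5, 4, 6, 6, 12, 12, 12, 12, 12, 12, 12, 9, 7, 9, 8, 9, 7, 9, 8, 9, 7, 9, 8, 9, 7, 9, 7, 9, 6, 4, 5, 4, 5, 4, 6, 4, 5]))) (.node 359 (.node 358 (.leaf 127 3 [6, 4, 5, 4, 5, 4, 6, 6, 6, 4, 6, 6, 4, 5, 5, 10, 9, 8, 6, 6, 4]) (.leaf 285 9 [5, 5, 5, 4, 5, 4, 6, 6, 4, 5, 4, 10, 11, 10, 12, 12, 12, 9, 7, 9, 7, 9, 8, 9, 8, 9, 8, 9, 7, 9, 5, 5, 5, 4, 5, 4, 5, 5, 4])) (.node 360 (.leaf 286 10 [5, 4, 6, 4, 5, 5,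 5, 4, 6, 6, 10, 11, 10, 12, 12, 12, 10, 8, 9, 7, 9, 7, 9, 8, 9, 7, 9, 7, 9, 8, 9, 7, 9, 7, 9, 4, 6, 6, 4, 6, 6, 6, 6, 4, 5]) (.node 361 (.leaf 287 9 [5, 5, 5, 4, 5, 4, 6, 6, 6, 6, 4, 11, 10, 12, 10, 11, 10, 12, 12, 9, 8, 9, 8, 9, 8, 9, 7, 9, 7, 9, 8, 5, 5, 4, 6, 4, 5, 5, 4, 5]) (.leaf 288 10 [5, 5, 5, 4, 6, 4, 6, 6, 4, 5, 10, 11, 11, 10, 12, 12, 10, 8, 9, 7, 9, 8, 9, 7, 9, 7, 9, 7, 9, 7, 9, 8, 9, 7, 9, 6, 4, 5, 4, 5, 5, 5, 4, 6, 4]))))) (.node 367 (.node 364 (.node 363 (.leaf 119 33 [7, 5, 4, 5, 4, 6, 6, 4, 6, 4, 6, 4, 6, 4, 6, 4, 5, 5, 4, 9, 7, 9, 7, 9, 7, 9, 7, 9, 8, 9, 7, 9, 8, 9]) (.leaf 29 9 [5, 5, 5, 5, 5, 4, 9, 7, 9, 8, 9, 7, 9, 8, 9, 8, 9, 8, 9, 8,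 5, 4, 6, 4, 6, 6, 6, 4, 5])) (.node 365 (.leaf 289 9 [4, 5, 5, 4, 5, 4, 5, 4, 5, 5, 4, 11, 11, 10, 12, 12, 12, 10, 9, 8, 9, 8, 9, 7, 9, 8, 9, 8, 9, 4, 6, 6, 6, 4, 6, 6, 4, 5]) (.node 366 (.leaf 290 10 [5, 5, 4, 6, 6, 6, 6, 4, 6, 6, 12, 8, 9, 7, 9, 8, 9, 7, 9, 7, 9, 7, 9, 7, 4, 6, 6, 4, 5, 5, 5, 5, 5, 4]) (.leaf 7 1 [5, 4, 6, 4, 5, 4, 6, 4, 5, 4, 6, 4, 5, 4, 6, 4, 5, 4, 6, 4, 5, 4, 6, 4, 5, 4, 6, 4, 5, 4, 6, 4, 5, 4, 6, 4, 5, 4, 6, 4])))) (.node 369 (.node 368 (.leaf 2 10 [6, 4, 5, 9, 6, 4, 5, 4, 6, 6, 4, 5, 5, 4]) (.leaf 192 8 [5, 4, 6, 4, 6, 4, 5, 4, 6, 6, 6, 9, 7, 9, 8, 9, 5, 5, 5, 4, 6, 4, 5, 4])) (.node 370 (.leaf 127 4 [4, 5, 4, 5, 4, 6, 6, 6, 4, 6, 6,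 4, 5, 5, 10, 9, 8, 6, 6, 4, 6]) (.node 371 (.leaf 9 4 [4, 6, 6, 6, 4, 6, 6, 6, 4, 6, 6, 6, 4, 6, 6, 6, 4, 6, 6, 6, 4, 6, 6, 6, 4, 6, 6, 6, 4, 6, 6, 6]) (.leaf 192 2 [5, 4, 6, 4, 5, 4, 5, 4, 6, 4, 6, 4, 5, 4, 6, 6, 6, 9, 7, 9, 8, 9, 5, 5])))))) (.node 382 (.node 377 (.node 374 (.node 373 (.leaf 68 23 [7, 9, 8, 9, 7, 9, 7, 9, 8, 9, 8, 5, 5, 4, 5, 4, 5, 4, 5, 5, 5, 5, 5, 4, 5, 4, 6, 4, 8, 9, 8, 9, 7, 9]) (.leaf 192 12 [6, 4, 5, 4, 6, 6, 6, 9, 7, 9, 8, 9, 5, 5, 5, 4, 6, 4, 5, 4, 5, 4, 6, 4])) (.node 375 (.leaf 127 7 [5, 4, 6, 6, 6, 4, 6, 6, 4, 5, 5, 10, 9, 8, 6, 6, 4, 6, 4, 5, 4]) (.node 376 (.leaf 1 1 [5, 5, 5, 4, 6, 4, 5, 5, 8, 4]) (.leaf 127 5 [5, 4, 5, 4,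 6, 6, 6, 4, 6, 6, 4, 5, 5, 10, 9, 8, 6, 6, 4, 6, 4])))) (.node 379 (.node 378 (.leaf 8 24 [4, 5, 5, 5, 4, 5, 5, 5, 4, 5, 5, 5, 4, 5, 5, 5, 4, 5, 5, 5, 4, 5, 5, 5, 4, 5, 5, 5, 4, 5, 5, 5]) (.leaf 68 17 [8, 9, 8, 9, 7, 9, 7, 9, 8, 9, 7, 9, 7, 9, 8, 9, 8, 5, 5, 4, 5, 4, 5, 4, 5, 5, 5, 5, 5, 4, 5, 4, 6, 4])) (.node 380 (.leaf 7 2 [4, 6, 4, 5, 4, 6, 4, 5, 4, 6, 4, 5, 4, 6, 4, 5, 4, 6, 4, 5, 4, 6, 4, 5, 4, 6, 4, 5, 4, 6, 4, 5, 4, 6, 4, 5, 4, 6, 4, 5]) (.node 381 (.leaf 9 28 [4, 6, 6, 6, 4, 6, 6, 6, 4, 6, 6, 6, 4, 6, 6, 6, 4, 6, 6, 6, 4, 6, 6, 6, 4, 6, 6, 6, 4, 6, 6, 6]) (.leaf 149 23 [9, 7, 9, 8, 9, 7, 5, 5, 4, 5, 5, 4, 6, 6, 4, 5, 4, 6, 4, 6, 6, 6, 4, 5, 10, 9,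 7, 9, 8]))))) (.node 387 (.node 384 (.node 383 (.leaf 29 28 [8, 5, 4, 6, 4, 6, 6, 6, 4, 5, 5, 5, 5, 5, 5, 4, 9, 7, 9, 8, 9, 7, 9, 8, 9, 8, 9, 8, 9]) (.leaf 149 1 [5, 4, 5, 5, 4, 6, 6, 4, 5, 4, 6, 4, 6, 6, 6, 4, 5, 10, 9, 7, 9, 8, 9, 7, 9, 8, 9, 7, 5])) (.node 385 (.leaf 2 4 [6, 6, 4, 5, 5, 4, 6, 4, 5, 9, 6, 4, 5, 4]) (.node 386 (.leaf 1 6 [4, 5, 5, 8, 4, 5, 5, 5, 4, 6]) (.leaf 18 5 [4, 5, 5, 5, 4, 5, 4, 5, 4, 10, 8, 9, 7, 9, 8, 9, 8, 9, 7, 9, 8, 9, 7, 9, 7, 9, 8, 4, 6, 6, 4, 6])))) (.node 389 (.node 388 (.leaf 218 31 [8, 9, 8, 9, 8, 9, 8, 4, 5, 4, 6, 6, 4, 6, 4, 5, 5, 5, 4, 6, 6, 6, 4, 5, 5, 4, 8, 9, 7, 9, 8, 9, 8, 9, 7, 9, 7, 9]) (.leaf 149 19 [9, 7, 9, 8,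 9, 7, 9, 8, 9, 7, 5, 5, 4, 5, 5, 4, 6, 6, 4, 5, 4, 6, 4, 6, 6, 6, 4, 5, 10])) (.node 390 (.leaf 29 25 [9, 8, 9, 8, 5, 4, 6, 4, 6, 6, 6, 4, 5, 5, 5, 5, 5, 5, 4, 9, 7, 9, 8, 9, 7, 9, 8, 9, 8]) (.node 391 (.leaf 149 28 [7, 5, 5, 4, 5, 5, 4, 6, 6, 4, 5, 4, 6, 4, 6, 6, 6, 4, 5, 10, 9, 7, 9, 8, 9, 7, 9, 8, 9]) (.leaf 192 7 [4, 5, 4, 6, 4, 6, 4, 5, 4, 6, 6, 6, 9, 7, 9, 8, 9, 5, 5, 5, 4, 6, 4, 5])))))))) (.node 431 (.node 411 (.node 401 (.node 396 (.node 394 (.node 393 (.leaf 119 18 [9, 7, 9, 7, 9, 7, 9, 7, 9, 8, 9, 7, 9, 8, 9, 7, 5, 4, 5, 4, 6, 6, 4, 6, 4, 6, 4, 6, 4, 6, 4, 5, 5, 4]) (.leaf 149 10 [4, 6, 4, 6, 6, 6, 4, 5, 10, 9, 7, 9, 8, 9, 7, 9, 8, 9, 7, 5, 5, 4,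 5, 5, 4, 6, 6, 4, 5])) (.node 395 (.leaf 1 8 [5, 8, 4, 5, 5, 5, 4, 6, 4, 5]) (.leaf 127 15 [4, 5, 5, 10, 9, 8, 6, 6, 4, 6, 4, 5, 4, 5, 4, 6, 6, 6, 4, 6, 6]))) (.node 398 (.node 397 (.leaf 119 4 [6, 6, 4, 6, 4, 6, 4, 6, 4, 6, 4, 5, 5, 4, 9, 7, 9, 7, 9, 7, 9, 7, 9, 8, 9, 7, 9, 8, 9, 7, 5, 4, 5, 4]) (.leaf 18 31 [8, 4, 6, 6, 4, 6, 4, 5, 5, 5, 4, 5, 4, 5, 4, 10, 8, 9, 7, 9, 8, 9, 8, 9, 7, 9, 8, 9, 7, 9, 7, 9])) (.node 399 (.leaf 176 19 [11, 10, 9, 7, 9, 7, 9, 8, 9, 8, 9, 7, 9, 7, 9, 7, 4, 6, 6, 4, 6, 6, 6, 4, 6, 4, 6, 6, 4, 6, 4, 5, 5, 5, 4]) (.node 400 (.leaf 68 10 [5, 5, 4, 5, 4, 6, 4, 8, 9, 8, 9, 7, 9, 7, 9, 8, 9, 7, 9, 7, 9, 8, 9, 8, 5, 5, 4, 5, 4, 5, 4, 5,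 5, 5]) (.leaf 9 16 [4, 6, 6, 6, 4, 6, 6, 6, 4, 6, 6, 6, 4, 6, 6, 6, 4, 6, 6, 6, 4, 6, 6, 6, 4, 6, 6, 6, 4, 6, 6, 6]))))) (.node 406 (.node 403 (.node 402 (.leaf 127 9 [6, 6, 6, 4, 6, 6, 4, 5, 5, 10, 9, 8, 6, 6, 4, 6, 4, 5, 4, 5, 4]) (.leaf 192 3 [4, 6, 4, 5, 4, 5, 4, 6, 4, 6, 4, 5, 4, 6, 6, 6, 9, 7, 9, 8, 9, 5, 5, 5])) (.node 404 (.leaf 7 20 [4, 5, 4, 6, 4, 5, 4, 6, 4, 5, 4, 6, 4, 5, 4, 6, 4, 5, 4, 6, 4, 5, 4, 6, 4, 5, 4, 6, 4, 5, 4, 6, 4, 5, 4, 6, 4, 5, 4, 6]) (.node 405 (.leaf 119 13 [6, 4, 5, 5, 4, 9, 7, 9, 7, 9, 7, 9, 7, 9, 8, 9, 7, 9, 8, 9, 7, 5, 4, 5, 4, 6, 6, 4, 6, 4, 6, 4, 6, 4]) (.leaf 29 12 [5, 5, 4, 9, 7, 9, 8, 9, 7, 9, 8, 9, 8, 9, 8, 9, 8, 5, 4,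 6, 4, 6, 6, 6, 4, 5, 5, 5, 5])))) (.node 408 (.node 407 (.leaf 18 14 [10, 8, 9, 7, 9, 8, 9, 8, 9, 7, 9, 8, 9, 7, 9, 7, 9, 8, 4, 6, 6, 4, 6, 4, 5, 5, 5, 4, 5, 4, 5, 4]) (.leaf 192 1 [5, 5, 4, 6, 4, 5, 4, 5, 4, 6, 4, 6, 4, 5, 4, 6, 6, 6, 9, 7, 9, 8, 9, 5])) (.node 409 (.leaf 149 7 [6, 4, 5, 4, 6, 4, 6, 6, 6, 4, 5, 10, 9, 7, 9, 8, 9, 7, 9, 8, 9, 7, 5, 5, 4, 5, 5, 4, 6]) (.node 410 (.leaf 8 10 [5, 5, 4, 5, 5, 5, 4, 5, 5, 5, 4, 5, 5, 5, 4, 5, 5, 5, 4, 5, 5, 5, 4, 5, 5, 5, 4, 5, 5, 5, 4, 5]) (.leaf 29 14 [4, 9, 7, 9, 8, 9, 7, 9, 8, 9, 8, 9, 8, 9, 8, 5, 4, 6, 4, 6, 6, 6, 4, 5, 5, 5, 5, 5, 5])))))) (.node 421 (.node 416 (.node 413 (.node 412 (.leaf 8 15 [5, 4, 5,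 5, 5, 4, 5, 5, 5, 4, 5, 5, 5, 4, 5, 5, 5, 4, 5, 5, 5, 4, 5, 5, 5, 4, 5, 5, 5, 4, 5, 5]) (.leaf 7 13 [5, 4, 6, 4, 5, 4, 6, 4, 5, 4, 6, 4, 5, 4, 6, 4, 5, 4, 6, 4, 5, 4, 6, 4, 5, 4, 6, 4, 5, 4, 6, 4, 5, 4, 6, 4, 5, 4, 6, 4])) (.node 414 (.leaf 127 10 [6, 6, 4, 6, 6, 4, 5, 5, 10, 9, 8, 6, 6, 4, 6, 4, 5, 4, 5, 4, 6]) (.node 415 (.leaf 7 30 [4, 6, 4, 5, 4, 6, 4, 5, 4, 6, 4, 5, 4, 6, 4, 5, 4, 6, 4, 5, 4, 6, 4, 5, 4, 6, 4, 5, 4, 6, 4, 5, 4, 6, 4, 5, 4, 6, 4, 5]) (.leaf 29 15 [9, 7, 9, 8, 9, 7, 9, 8, 9, 8, 9, 8, 9, 8, 5, 4, 6, 4, 6, 6, 6, 4, 5, 5, 5, 5, 5, 5, 4])))) (.node 418 (.node 417 (.leaf 191 19 [12, 10, 9, 7, 9, 7, 9, 7, 9, 8, 9, 8, 9, 8, 9, 8, 9, 7, 9, 8, 4,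 5, 4, 5, 4, 6, 6, 4, 6, 4, 5, 5, 5, 5, 5, 5, 4, 6, 4]) (.leaf 8 20 [4, 5, 5, 5, 4, 5, 5, 5, 4, 5, 5, 5, 4, 5, 5, 5, 4, 5, 5, 5, 4, 5, 5, 5, 4, 5, 5, 5, 4, 5, 5, 5])) (.node 419 (.leaf 149 25 [9, 8, 9, 7, 5, 5, 4, 5, 5, 4, 6, 6, 4, 5, 4, 6, 4, 6, 6, 6, 4, 5, 10, 9, 7, 9, 8, 9, 7]) (.node 420 (.leaf 12 13 [11, 11, 10, 9, 7, 9, 7, 9, 8, 9, 8, 9, 7, 9, 7, 9, 7, 9, 7, 5, 5, 5, 5, 4, 5, 4, 6, 4, 5, 5, 4, 5]) (.leaf 9 26 [6, 6, 4, 6, 6, 6, 4, 6, 6, 6, 4, 6, 6, 6, 4, 6, 6, 6, 4, 6, 6, 6, 4, 6, 6, 6, 4, 6, 6, 6, 4, 6]))))) (.node 426 (.node 423 (.node 422 (.leaf 9 23 [6, 4, 6, 6, 6, 4, 6, 6, 6, 4, 6, 6, 6, 4, 6, 6, 6, 4, 6, 6, 6, 4, 6, 6, 6, 4, 6, 6, 6, 4, 6, 6]) (.leaf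 2 0 [6, 4, 5, 4, 6, 6, 4, 5, 5, 4, 6, 4, 5, 9])) (.node 424 (.leaf 192 17 [6, 6, 9, 7, 9, 8, 9, 5, 5, 5, 4, 6, 4, 5, 4, 5, 4, 6, 4, 6, 4, 5, 4, 6]) (.node 425 (.leaf 4 0 [9, 7, 9, 7, 9, 7, 9, 7, 9, 7, 9, 7, 9, 8, 9, 7, 9, 7, 9, 7, 9, 8, 9, 12]) (.leaf 8 22 [5, 5, 4, 5, 5, 5, 4, 5, 5, 5, 4, 5, 5, 5, 4, 5, 5, 5, 4, 5, 5, 5, 4, 5, 5, 5, 4, 5, 5, 5, 4, 5])))) (.node 428 (.node 427 (.leaf 7 15 [6, 4, 5, 4, 6, 4, 5, 4, 6, 4, 5, 4, 6, 4, 5, 4, 6, 4, 5, 4, 6, 4, 5, 4, 6, 4, 5, 4, 6, 4, 5, 4, 6, 4, 5, 4, 6, 4, 5, 4]) (.leaf 9 19 [6, 4, 6, 6, 6, 4, 6, 6, 6, 4, 6, 6, 6, 4, 6, 6, 6, 4, 6, 6, 6, 4, 6, 6, 6, 4, 6, 6, 6, 4, 6, 6])) (.node 429 (.leaf 2 12 [5, 9, 6, 4, 5,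 4, 6, 6, 4, 5, 5, 4, 6, 4]) (.node 430 (.leaf 192 10 [6, 4, 6, 4, 5, 4, 6, 6, 6, 9, 7, 9, 8, 9, 5, 5, 5, 4, 6, 4, 5, 4, 5, 4]) (.leaf 218 34 [9, 8, 9, 8, 4, 5, 4, 6, 6, 4, 6, 4, 5, 5, 5, 4, 6, 6, 6, 4, 5, 5, 4, 8, 9, 7, 9, 8, 9, 8, 9, 7, 9, 7, 9, 8, 9, 8]))))))) (.node 451 (.node 441 (.node 436 (.node 433 (.node 432 (.leaf 192 16 [6, 6, 6, 9, 7, 9, 8, 9, 5, 5, 5, 4, 6, 4, 5, 4, 5, 4, 6, 4, 6, 4, 5, 4]) (.leaf 6 4 [6, 6, 6, 6, 6, 6, 6, 6, 6, 6, 6, 6, 6])) (.node 434 (.leaf 218 26 [9, 7, 9, 7, 9, 8, 9, 8, 9, 8, 9, 8, 4, 5, 4, 6, 6, 4, 6, 4, 5, 5, 5, 4, 6, 6, 6, 4, 5, 5, 4, 8, 9, 7, 9, 8, 9, 8]) (.node 435 (.leaf 68 2 [4, 5, 4, 5, 4, 5, 5, 5, 5, 5, 4, 5, 4, 6,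 4, 8, 9, 8, 9, 7, 9, 7, 9, 8, 9, 7, 9, 7, 9, 8, 9, 8, 5, 5]) (.leaf 7 23 [6, 4, 5, 4, 6, 4, 5, 4, 6, 4, 5, 4, 6, 4, 5, 4, 6, 4, 5, 4, 6, 4, 5, 4, 6, 4, 5, 4, 6, 4, 5, 4, 6, 4, 5, 4, 6, 4, 5, 4])))) (.node 438 (.node 437 (.leaf 9 6 [6, 6, 4, 6, 6, 6, 4, 6, 6, 6, 4, 6, 6, 6, 4, 6, 6, 6, 4, 6, 6, 6, 4, 6, 6, 6, 4, 6, 6, 6, 4, 6]) (.leaf 29 8 [5, 5, 5, 5, 5, 5, 4, 9, 7, 9, 8, 9, 7, 9, 8, 9, 8, 9, 8, 9, 8, 5, 4, 6, 4, 6, 6, 6, 4])) (.node 439 (.leaf 7 38 [4, 6, 4, 5, 4, 6, 4, 5, 4, 6, 4, 5, 4, 6, 4, 5, 4, 6, 4, 5, 4, 6, 4, 5, 4, 6, 4, 5, 4, 6, 4, 5, 4, 6, 4, 5, 4, 6, 4, 5]) (.node 440 (.leaf 249 35 [8, 9, 7, 6, 4, 5, 4, 6, 4, 6, 4, 6, 4, 6, 4, 5, 4, 5, 5, 5, 4,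 6, 4, 11, 11, 9, 8, 9, 7, 9, 7, 9, 7, 9, 7, 9, 8, 9]) (.leaf 149 27 [9, 7, 5, 5, 4, 5, 5, 4, 6, 6, 4, 5, 4, 6, 4, 6, 6, 6, 4, 5, 10, 9, 7, 9, 8, 9, 7, 9, 8]))))) (.node 446 (.node 443 (.node 442 (.leaf 192 0 [5, 5, 5, 4, 6, 4, 5, 4, 5, 4, 6, 4, 6, 4, 5, 4, 6, 6, 6, 9, 7, 9, 8, 9]) (.leaf 242 35 [7, 9, 8, 5, 5, 4, 5, 5, 5, 5, 4, 6, 4, 5, 5, 4, 6, 6, 4, 6, 6, 6, 6, 10, 11, 9, 7, 9, 8, 9, 7, 9, 7, 9, 8, 9, 7, 9])) (.node 444 (.leaf 190 24 [7, 9, 8, 9, 8, 9, 8, 9, 7, 4, 6, 6, 4, 5, 5, 4, 5, 4, 5, 4, 6, 6, 4, 5, 5, 4, 6, 6, 12, 8, 9, 7, 9]) (.node 445 (.leaf 127 2 [4, 6, 4, 5, 4, 5, 4, 6, 6, 6, 4, 6, 6, 4, 5, 5, 10, 9, 8, 6, 6]) (.leaf 29 26 [8, 9, 8, 5, 4, 6,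 4, 6, 6, 6, 4, 5, 5, 5, 5, 5, 5, 4, 9, 7, 9, 8, 9, 7, 9, 8, 9, 8, 9])))) (.node 448 (.node 447 (.leaf 192 11 [4, 6, 4, 5, 4, 6, 6, 6, 9, 7, 9, 8, 9, 5, 5, 5, 4, 6, 4, 5, 4, 5, 4, 6]) (.leaf 119 12 [4, 6, 4, 5, 5, 4, 9, 7, 9, 7, 9, 7, 9, 7, 9, 8, 9, 7, 9, 8, 9, 7, 5, 4, 5, 4, 6, 6, 4, 6, 4, 6, 4, 6])) (.node 449 (.leaf 119 16 [5, 4, 9, 7, 9, 7, 9, 7, 9, 7, 9, 8, 9, 7, 9, 8, 9, 7, 5, 4, 5, 4, 6, 6, 4, 6, 4, 6, 4, 6, 4, 6, 4, 5]) (.node 450 (.leaf 18 28 [9, 7, 9, 8, 4, 6, 6, 4, 6, 4, 5, 5, 5, 4, 5, 4, 5, 4, 10, 8, 9, 7, 9, 8, 9, 8, 9, 7, 9, 8, 9, 7]) (.leaf 149 18 [10, 9, 7, 9, 8, 9, 7, 9, 8, 9, 7, 5, 5, 4, 5, 5, 4, 6, 6, 4, 5, 4, 6, 4, 6, 6, 6, 4, 5])))))) (.node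 461 (.node 456 (.node 453 (.node 452 (.leaf 29 17 [9, 8, 9, 7, 9, 8, 9, 8, 9, 8, 9, 8, 5, 4, 6, 4, 6, 6, 6, 4, 5, 5, 5, 5, 5, 5, 4, 9, 7]) (.leaf 149 4 [5, 4, 6, 6, 4, 5, 4, 6, 4, 6, 6, 6, 4, 5, 10, 9, 7, 9, 8, 9, 7, 9, 8, 9, 7, 5, 5, 4, 5])) (.node 454 (.leaf 68 32 [9, 8, 5, 5, 4, 5, 4, 5, 4, 5, 5, 5, 5, 5, 4, 5, 4, 6, 4, 8, 9, 8, 9, 7, 9, 7, 9, 8, 9, 7, 9, 7, 9, 8]) (.node 455 (.leaf 218 2 [4, 6, 6, 4, 6, 4, 5, 5, 5, 4, 6, 6, 6, 4, 5, 5, 4, 8, 9, 7, 9, 8, 9, 8, 9, 7, 9, 7, 9, 8, 9, 8, 9, 8, 9, 8, 4, 5]) (.leaf 218 17 [5, 4, 8, 9, 7, 9, 8, 9, 8, 9, 7, 9, 7, 9, 8, 9, 8, 9, 8, 9, 8, 4, 5, 4, 6, 6, 4, 6, 4, 5, 5, 5, 4, 6, 6, 6, 4, 5])))) (.node 458 (.node 457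 (.leaf 149 26 [8, 9, 7, 5, 5, 4, 5, 5, 4, 6, 6, 4, 5, 4, 6, 4, 6, 6, 6, 4, 5, 10, 9, 7, 9, 8, 9, 7, 9]) (.leaf 8 7 [5, 4, 5, 5, 5, 4, 5, 5, 5, 4, 5, 5, 5, 4, 5, 5, 5, 4, 5, 5, 5, 4, 5, 5, 5, 4, 5, 5, 5, 4, 5, 5])) (.node 459 (.leaf 9 9 [6, 6, 6, 4, 6, 6, 6, 4, 6, 6, 6, 4, 6, 6, 6, 4, 6, 6, 6, 4, 6, 6, 6, 4, 6, 6, 6, 4, 6, 6, 6, 4]) (.node 460 (.leaf 7 9 [5, 4, 6, 4, 5, 4, 6, 4, 5, 4, 6, 4, 5, 4, 6, 4, 5, 4, 6, 4, 5, 4, 6, 4, 5, 4, 6, 4, 5, 4, 6, 4, 5, 4, 6, 4, 5, 4, 6, 4]) (.leaf 8 25 [5, 5, 5, 4, 5, 5, 5, 4, 5, 5, 5, 4, 5, 5, 5, 4, 5, 5, 5, 4, 5, 5, 5, 4, 5, 5, 5, 4, 5, 5, 5, 4]))))) (.node 466 (.node 463 (.node 462 (.leaf 218 19 [8, 9, 7, 9, 8, 9, 8, 9,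 7, 9, 7, 9, 8, 9, 8, 9, 8, 9, 8, 4, 5, 4, 6, 6, 4, 6, 4, 5, 5, 5, 4, 6, 6, 6, 4, 5, 5, 4]) (.leaf 119 21 [7, 9, 7, 9, 7, 9, 8, 9, 7, 9, 8, 9, 7, 5, 4, 5, 4, 6, 6, 4, 6, 4, 6, 4, 6, 4, 6, 4, 5, 5, 4, 9, 7, 9])) (.node 464 (.leaf 119 20 [9, 7, 9, 7, 9, 7, 9, 8, 9, 7, 9, 8, 9, 7, 5, 4, 5, 4, 6, 6, 4, 6, 4, 6, 4, 6, 4, 6, 4, 5, 5, 4, 9, 7]) (.node 465 (.leaf 218 18 [4, 8, 9, 7, 9, 8, 9, 8, 9, 7, 9, 7, 9, 8, 9, 8, 9, 8, 9, 8, 4, 5, 4, 6, 6, 4, 6, 4, 5, 5, 5, 4, 6, 6, 6, 4, 5, 5]) (.leaf 29 11 [5, 5, 5, 4, 9, 7, 9, 8, 9, 7, 9, 8, 9, 8, 9, 8, 9, 8, 5, 4, 6, 4, 6, 6, 6, 4, 5, 5, 5])))) (.node 468 (.node 467 (.leaf 29 27 [9, 8, 5, 4, 6, 4, 6, 6, 6, 4, 5, 5, 5, 5, 5,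 5, 4, 9, 7, 9, 8, 9, 7, 9, 8, 9, 8, 9, 8]) (.leaf 157 18 [11, 10, 9, 7, 9, 8, 9, 7, 9, 7, 9, 8, 9, 8, 9, 7, 9, 8, 6, 6, 6, 4, 6, 6, 4, 5, 5, 5, 4, 5, 5, 4, 5, 5, 4, 5])) (.node 469 (.leaf 241 21 [11, 11, 10, 9, 7, 9, 8, 9, 8, 9, 7, 5, 4, 5, 4, 5, 5, 4, 5, 5, 4, 5, 4, 5, 4, 5, 4, 6, 4, 6, 4, 10]) (.node 470 (.leaf 101 17 [12, 10, 11, 11, 10, 9, 7, 9, 8, 9, 7, 9, 7, 9, 7, 6, 6, 6, 6, 6, 4, 6, 4, 5, 4, 6, 4, 6, 6, 4, 5, 4]) (.leaf 7 21 [5, 4, 6, 4, 5, 4, 6, 4, 5, 4, 6, 4, 5, 4, 6, 4, 5, 4, 6, 4, 5, 4, 6, 4, 5, 4, 6, 4, 5, 4, 6, 4, 5, 4, 6, 4, 5, 4, 6, 4]))))))))) (.node 549 (.node 510 (.node 490 (.node 480 (.node 475 (.node 473 (.node 472 (.leaf 149 12 [4, 6,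 6, 6, 4, 5, 10, 9, 7, 9, 8, 9, 7, 9, 8, 9, 7, 5, 5, 4, 5, 5, 4, 6, 6, 4, 5, 4, 6]) (.leaf 7 26 [4, 6, 4, 5, 4, 6, 4, 5, 4, 6, 4, 5, 4, 6, 4, 5, 4, 6, 4, 5, 4, 6, 4, 5, 4, 6, 4, 5, 4, 6, 4, 5, 4, 6, 4, 5, 4, 6, 4, 5])) (.node 474 (.leaf 29 19 [9, 7, 9, 8, 9, 8, 9, 8, 9, 8, 5, 4, 6, 4, 6, 6, 6, 4, 5, 5, 5, 5, 5, 5, 4, 9, 7, 9, 8]) (.leaf 7 31 [6, 4, 5, 4, 6, 4, 5, 4, 6, 4, 5, 4, 6, 4, 5, 4, 6, 4, 5, 4, 6, 4, 5, 4, 6, 4, 5, 4, 6, 4, 5, 4, 6, 4, 5, 4, 6, 4, 5, 4]))) (.node 477 (.node 476 (.leaf 190 19 [12, 8, 9, 7, 9, 7, 9, 8, 9, 8, 9, 8, 9, 7, 4, 6, 6, 4, 5, 5, 4, 5, 4, 5, 4, 6, 6, 4, 5, 5, 4, 6, 6]) (.leaf 68 31 [8, 9, 8, 5, 5, 4, 5, 4, 5, 4, 5, 5, 5, 5, 5,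 4, 5, 4, 6, 4, 8, 9, 8, 9, 7, 9, 7, 9, 8, 9, 7, 9, 7, 9])) (.node 478 (.leaf 149 21 [9, 8, 9, 7, 9, 8, 9, 7, 5, 5, 4, 5, 5, 4, 6, 6, 4, 5, 4, 6, 4, 6, 6, 6, 4, 5, 10, 9, 7]) (.node 479 (.leaf 176 32 [7, 9, 7, 4, 6, 6, 4, 6, 6, 6, 4, 6, 4, 6, 6, 4, 6, 4, 5, 5, 5, 4, 11, 10, 9, 7, 9, 7, 9, 8, 9, 8, 9, 7, 9]) (.leaf 68 19 [8, 9, 7, 9, 7, 9, 8, 9, 7, 9, 7, 9, 8, 9, 8, 5, 5, 4, 5, 4, 5, 4, 5, 5, 5, 5, 5, 4, 5, 4, 6, 4, 8, 9]))))) (.node 485 (.node 482 (.node 481 (.leaf 208 20 [12, 10, 11, 8, 9, 8, 9, 8, 9, 7, 9, 7, 6, 6, 6, 4, 6, 4, 6, 4, 5, 4, 5, 5, 4, 5, 5, 4, 6, 4, 6, 10]) (.leaf 217 20 [11, 10, 12, 10, 11, 11, 10, 9, 8, 9, 7, 9, 7, 9, 7, 9, 7, 9, 8, 9, 8, 9,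 7, 4, 6, 4, 6, 4, 6, 4, 5, 5, 5, 5, 4, 6, 6, 6, 6, 6, 4, 5, 10])) (.node 483 (.leaf 281 35 [7, 5, 4, 6, 4, 5, 5, 4, 6, 4, 5, 4, 6, 6, 6, 4, 6, 4, 6, 4, 6, 10, 12, 10, 11, 9, 8, 9, 8, 9, 8, 9, 7, 9, 8, 9]) (.node 484 (.leaf 87 23 [12, 10, 8, 9, 7, 9, 8, 9, 7, 9, 8, 9, 8, 9, 8, 9, 4, 5, 4, 6, 6, 4, 5, 4, 5, 5, 4, 6, 6, 4, 6, 4, 6, 10, 12, 10, 11, 10, 12]) (.leaf 276 26 [8, 9, 8, 9, 8, 9, 5, 4, 5, 5, 5, 5, 4, 6, 6, 4, 6, 6, 6, 6, 4, 6, 6, 6, 6, 4, 10, 12, 12, 10, 11, 10])))) (.node 487 (.node 486 (.leaf 32 16 [12, 10, 9, 8, 9, 8, 9, 8, 9, 7, 9, 8, 9, 7, 9, 8, 9, 8, 9, 8, 6, 4, 5, 5, 5, 4, 5, 5, 4, 5, 5, 4, 5, 5, 4, 10]) (.leaf 65 18 [12, 12, 10, 11, 10, 8, 9,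 8, 9, 8, 9, 8, 9, 7, 9, 6, 6, 6, 6, 4, 5, 4, 6, 4, 5, 5, 4, 5, 4, 6, 4, 5, 10])) (.node 488 (.leaf 133 34 [7, 6, 4, 5, 4, 6, 4, 5, 4, 5, 4, 5, 4, 6, 4, 6, 6, 4, 6, 11, 11, 8, 9, 7, 9, 8, 9, 8, 9, 7, 9, 8, 9, 7, 9]) (.node 489 (.leaf 144 18 [12, 12, 10, 9, 8, 9, 8, 9, 7, 9, 7, 9, 8, 9, 8, 9, 4, 5, 5, 4, 6, 6, 6, 4, 5, 4, 5, 4, 5, 5, 5, 5, 5, 5]) (.leaf 188 24 [12, 9, 7, 9, 8, 9, 8, 9, 7, 9, 7, 5, 4, 5, 4, 5, 5, 5, 4, 5, 4, 6, 4, 6, 4, 6, 6, 6, 6, 6, 10, 11, 11, 11, 10])))))) (.node 500 (.node 495 (.node 492 (.node 491 (.leaf 190 11 [6, 6, 4, 5, 5, 4, 6, 6, 12, 8, 9, 7, 9, 7, 9, 8, 9, 8, 9, 8, 9, 7, 4, 6, 6, 4, 5, 5, 4, 5, 4, 5, 4]) (.leaf 204 21 [12, 9, 8,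 9, 8, 9, 7, 9, 7, 9, 8, 9, 8, 9, 8, 6, 4, 5, 4, 6, 6, 6, 6, 6, 4, 6, 6, 6, 6, 4, 5, 4, 5, 4, 10, 12])) (.node 493 (.leaf 215 19 [12, 12, 12, 12, 10, 8, 9, 8, 9, 7, 9, 8, 9, 8, 9, 8, 9, 7, 6, 6, 6, 6, 6, 4, 5, 4, 5, 4, 6, 4, 6, 4, 5, 5, 5, 5, 4]) (.node 494 (.leaf 223 21 [12, 12, 8, 9, 8, 9, 8, 9, 7, 9, 8, 9, 7, 9, 7, 9, 7, 9, 8, 9, 4, 5, 4, 6, 4, 5, 4, 5, 4, 5, 4, 6, 6, 6, 6, 6, 4, 5, 5, 10, 12]) (.leaf 224 3 [6, 4, 5, 5, 5, 4, 5, 4, 6, 4, 6, 4, 6, 6, 4, 6, 10, 11, 10, 12, 12, 10, 11, 8, 9, 8, 9, 8, 9, 8, 9, 8, 9, 6, 4, 6])))) (.node 497 (.node 496 (.leaf 226 19 [12, 12, 12, 12, 12, 8, 9, 7, 9, 7, 9, 8, 9, 7, 9, 8, 9, 7, 5, 4, 5, 5, 4, 5, 4, 5, 4, 5, 4, 5,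 4, 5, 5, 5, 4, 5, 4]) (.leaf 236 39 [7, 6, 4, 5, 4, 6, 4, 5, 5, 5, 5, 5, 4, 6, 6, 4, 6, 6, 4, 5, 10, 11, 11, 11, 10, 9, 7, 9, 8, 9, 8, 9, 8, 9, 8, 9, 8, 9, 8, 9])) (.node 498 (.leaf 247 6 [6, 4, 6, 4, 5, 4, 6, 6, 4, 5, 4, 6, 4, 5, 10, 11, 11, 10, 12, 10, 9, 7, 9, 8, 9, 7, 9, 7, 9, 8, 9, 8, 9, 8, 9, 5, 5, 4, 6, 4, 6]) (.node 499 (.leaf 250 20 [10, 12, 10, 11, 10, 12, 12, 12, 9, 7, 9, 8, 9, 7, 9, 8, 9, 8, 9, 8, 9, 7, 9, 5, 4, 5, 5, 5, 5, 4, 6, 6, 6, 4, 5, 4, 5, 5, 5, 5, 4, 5, 5]) (.leaf 261 0 [4, 5, 5, 4, 6, 6, 6, 4, 6, 4, 5, 5, 4, 6, 4, 5, 5, 5, 5, 4, 12, 12, 10, 8, 9, 7, 9, 8, 9, 7, 9, 8, 9, 7]))))) (.node 505 (.node 502 (.node 501 (.leaf 272 8 [4, 5, 4, 5,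 4, 5, 5, 5, 5, 4, 5, 4, 11, 11, 10, 12, 10, 11, 10, 12, 12, 8, 9, 8, 9, 8, 9, 7, 9, 7, 9, 8, 9, 8, 9, 8, 9, 8, 9, 7, 5, 5, 4, 5, 4, 5, 4, 5]) (.leaf 274 16 [6, 4, 6, 4, 12, 12, 10, 11, 11, 8, 9, 7, 9, 8, 9, 8, 9, 8, 9, 8, 9, 8, 9, 7, 6, 4, 5, 4, 5, 5, 5, 5, 4, 5, 4, 6, 6, 4, 6, 6])) (.node 503 (.leaf 285 5 [4, 5, 5, 4, 5, 5, 5, 4, 5, 4, 6, 6, 4, 5, 4, 10, 11, 10, 12, 12, 12, 9, 7, 9, 7, 9, 8, 9, 8, 9, 8, 9, 7, 9, 5, 5, 5, 4, 5]) (.node 504 (.leaf 17 23 [8, 9, 7, 9, 8, 9, 8, 9, 7, 9, 8, 9, 7, 9, 7, 9, 7, 5, 4, 5, 4, 6, 4, 6, 4, 6, 6, 4, 5, 4, 5, 10, 12, 10, 11, 10, 12, 10, 11, 10]) (.leaf 29 5 [6, 6, 4, 5, 5, 5, 5, 5, 5, 4, 9, 7, 9, 8, 9, 7, 9, 8, 9, 8, 9,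 8, 9, 8, 5, 4, 6, 4, 6])))) (.node 507 (.node 506 (.leaf 32 15 [10, 12, 10, 9, 8, 9, 8, 9, 8, 9, 7, 9, 8, 9, 7, 9, 8, 9, 8, 9, 8, 6, 4, 5, 5, 5, 4, 5, 5, 4, 5, 5, 4, 5, 5, 4]) (.leaf 34 34 [8, 6, 4, 5, 5, 5, 5, 4, 5, 4, 6, 4, 5, 4, 5, 4, 12, 10, 11, 11, 11, 10, 9, 7, 9, 7, 9, 8, 9, 8, 9, 7, 9, 8, 9])) (.node 508 (.leaf 41 21 [11, 9, 7, 9, 7, 9, 8, 9, 8, 9, 7, 5, 5, 5, 5, 5, 4, 5, 5, 4, 5, 4, 6, 6, 6, 4, 6, 10, 11, 10, 12, 10]) (.node 509 (.leaf 42 20 [12, 12, 10, 8, 9, 7, 9, 7, 9, 7, 9, 7, 9, 7, 9, 7, 5, 4, 5, 4, 6, 4, 5, 4, 5, 5, 5, 5, 5, 5, 4, 5, 12, 10, 11, 10]) (.leaf 42 16 [12, 10, 11, 10, 12, 12, 10, 8, 9, 7, 9, 7, 9, 7, 9, 7, 9, 7, 9, 7, 5, 4, 5, 4,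 6, 4, 5, 4, 5, 5, 5, 5, 5, 5, 4, 5]))))))) (.node 529 (.node 519 (.node 514 (.node 512 (.node 511 (.leaf 42 14 [4, 5, 12, 10, 11, 10, 12, 12, 10, 8, 9, 7, 9, 7, 9, 7, 9, 7, 9, 7, 9, 7, 5, 4, 5, 4, 6, 4, 5, 4, 5, 5, 5, 5, 5, 5]) (.leaf 44 21 [9, 8, 9, 7, 9, 7, 9, 8, 9, 8, 9, 8, 9, 7, 9, 7, 6, 6, 6, 4, 6, 6, 6, 4, 6, 4, 6, 6, 4, 6, 4, 5, 12, 10, 11, 11, 11])) (.node 513 (.leaf 44 30 [8, 9, 8, 9, 7, 9, 7, 6, 6, 6, 4, 6, 6, 6, 4, 6, 4, 6, 6, 4, 6, 4, 5, 12, 10, 11, 11, 11, 9, 8, 9, 7, 9, 7, 9, 8, 9]) (.leaf 48 12 [5, 4, 5, 5, 10, 11, 11, 10, 12, 12, 10, 11, 9, 7, 9, 7, 9, 7, 9, 8, 9, 7, 9, 8, 9, 7, 9, 5, 4, 5, 5, 4, 6, 6, 4, 5, 4, 5, 4]))) (.node 516 (.node 515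 (.leaf 49 18 [12, 12, 10, 11, 8, 9, 7, 9, 7, 9, 7, 9, 8, 9, 7, 9, 7, 9, 7, 9, 4, 5, 4, 5, 4, 6, 4, 5, 5, 5, 5, 5, 4, 5, 4, 5, 10, 12]) (.leaf 49 22 [8, 9, 7, 9, 7, 9, 7, 9, 8, 9, 7, 9, 7, 9, 7, 9, 4, 5, 4, 5, 4, 6, 4, 5, 5, 5, 5, 5, 4, 5, 4, 5, 10, 12, 12, 12, 10, 11])) (.node 517 (.leaf 52 20 [10, 8, 9, 7, 9, 7, 9, 8, 9, 7, 9, 8, 9, 7, 9, 8, 9, 7, 6, 4, 6, 6, 4, 5, 5, 4, 5, 4, 6, 6, 4, 6, 4, 6, 12, 10, 11, 11]) (.node 518 (.leaf 53 11 [4, 5, 5, 4, 6, 11, 10, 12, 10, 9, 8, 9, 8, 9, 7, 9, 8, 9, 7, 9, 7, 9, 7, 9, 7, 9, 7, 5, 5, 4, 6, 6, 6, 6, 4, 5, 4, 5]) (.leaf 53 4 [6, 6, 6, 4, 5, 4, 5, 4, 5, 5, 4, 6, 11, 10, 12, 10, 9, 8, 9, 8, 9, 7, 9, 8, 9, 7, 9, 7, 9,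 7, 9, 7, 9, 7, 5, 5, 4, 6]))))) (.node 524 (.node 521 (.node 520 (.leaf 54 17 [12, 12, 12, 10, 11, 10, 9, 7, 9, 7, 9, 7, 9, 7, 9, 7, 9, 8, 9, 5, 5, 4, 6, 4, 5, 5, 5, 5, 5, 4, 6, 6, 6, 4, 5, 10]) (.leaf 54 18 [12, 12, 10, 11, 10, 9, 7, 9, 7, 9, 7, 9, 7, 9, 7, 9, 8, 9, 5, 5, 4, 6, 4, 5, 5, 5, 5, 5, 4, 6, 6, 6, 4, 5, 10, 12])) (.node 522 (.leaf 55 10 [5, 5, 5, 5, 4, 5, 11, 11, 10, 12, 12, 8, 9, 7, 9, 7, 9, 7, 9, 8, 9, 7, 9, 7, 5, 5, 5, 5, 4, 5, 5, 4, 5, 4]) (.node 523 (.leaf 57 12 [5, 4, 6, 6, 12, 10, 11, 10, 12, 12, 12, 8, 9, 7, 9, 7, 9, 8, 9, 7, 9, 8, 9, 8, 6, 6, 6, 4, 5, 5, 4, 5, 5, 4, 5, 5]) (.leaf 60 14 [5, 4, 6, 12, 10, 11, 11, 11, 10, 12, 9, 8, 9, 7, 9,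 7, 9, 7, 9, 7, 5, 5, 4, 6, 6, 6, 4, 5, 5, 4, 6, 4, 5, 4])))) (.node 526 (.node 525 (.leaf 60 10 [6, 4, 5, 4, 5, 4, 6, 12, 10, 11, 11, 11, 10, 12, 9, 8, 9, 7, 9, 7, 9, 7, 9, 7, 5, 5, 4, 6, 6, 6, 4, 5, 5, 4]) (.leaf 67 7 [6, 4, 6, 6, 4, 5, 5, 4, 6, 4, 11, 11, 10, 12, 12, 10, 11, 8, 9, 7, 9, 8, 9, 7, 9, 8, 9, 8, 9, 7, 9, 8, 9, 7, 9, 8, 6, 4, 5, 5, 5, 5, 4])) (.node 527 (.leaf 68 9 [5, 5, 5, 4, 5, 4, 6, 4, 8, 9, 8, 9, 7, 9, 7, 9, 8, 9, 7, 9, 7, 9, 8, 9, 8, 5, 5, 4, 5, 4, 5, 4, 5, 5]) (.node 528 (.leaf 85 7 [6, 4, 6, 6, 4, 5, 4, 6, 6, 4, 10, 11, 10, 12, 12, 9, 7, 9, 8, 9, 8, 9, 7, 9, 8, 9, 7, 9, 8, 9, 6, 4, 6, 6, 4, 6, 6]) (.leaf 87 7 [4, 5, 5, 4, 6, 6, 4, 6, 4,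 6, 10, 12, 10, 11, 10, 12, 12, 10, 8, 9, 7, 9, 8, 9, 7, 9, 8, 9, 8, 9, 8, 9, 4, 5, 4, 6, 6, 4, 5])))))) (.node 539 (.node 534 (.node 531 (.node 530 (.leaf 89 5 [6, 6, 4, 5, 4, 5, 4, 6, 6, 4, 5, 5, 12, 10, 11, 10, 9, 7, 9, 7, 9, 7, 9, 7, 9, 8, 9, 7, 9, 8, 9, 8, 9, 8, 4, 5, 4, 6, 6]) (.leaf 95 0 [5, 5, 5, 5, 4, 6, 4, 5, 5, 4, 6, 4, 6, 4, 5, 4, 5, 10, 11, 10, 12, 12, 10, 9, 8, 9, 7, 9, 7, 9, 7, 9, 7, 9, 8, 9, 8, 9, 7, 9])) (.node 532 (.leaf 96 9 [6, 6, 6, 4, 6, 6, 4, 5, 11, 11, 10, 12, 12, 12, 8, 9, 7, 9, 7, 9, 7, 9, 8, 9, 7, 9, 8, 9, 7, 9, 8, 6, 4, 5, 5, 4, 5, 5, 5, 4]) (.node 533 (.leaf 106 6 [5, 5, 5, 5, 4, 6, 4, 5, 4, 5, 5, 10, 11, 10, 12, 12, 10, 9, 7, 9,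 7, 9, 8, 9, 8, 9, 7, 9, 7, 9, 8, 9, 8, 9, 6, 4, 6, 6, 4, 5]) (.leaf 110 10 [4, 6, 6, 6, 6, 6, 6, 4, 10, 11, 10, 12, 12, 12, 10, 11, 8, 9, 7, 9, 7, 9, 8, 9, 7, 9, 7, 9, 8, 9, 7, 4, 6, 6, 6, 6, 4, 6, 4, 5, 5])))) (.node 536 (.node 535 (.leaf 120 12 [4, 6, 6, 4, 6, 4, 11, 11, 10, 12, 8, 9, 7, 9, 8, 9, 7, 9, 8, 9, 7, 9, 7, 9, 8, 9, 7, 9, 6, 4, 5, 4, 6, 6, 6, 6, 4, 6, 4, 5]) (.leaf 121 7 [5, 5, 4, 5, 4, 5, 4, 5, 5, 5, 5, 11, 11, 11, 11, 11, 11, 9, 7, 9, 8, 9, 7, 9, 7, 9, 8, 9, 8, 9, 7, 9, 5, 4, 6, 4, 6, 6, 4])) (.node 537 (.leaf 122 12 [4, 5, 4, 6, 6, 4, 10, 11, 11, 10, 12, 10, 9, 8, 9, 8, 9, 7, 9, 7, 9, 7, 9, 7, 9, 8, 9, 7, 5, 4, 6, 4, 6, 6, 4, 5, 4, 5, 4, 6])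 (.node 538 (.leaf 124 13 [6, 4, 6, 4, 6, 12, 12, 12, 12, 10, 8, 9, 8, 9, 7, 9, 8, 9, 7, 9, 7, 5, 5, 4, 5, 4, 6, 6, 4, 5, 4, 5, 5, 4]) (.leaf 129 6 [5, 5, 5, 5, 5, 4, 5, 5, 5, 4, 5, 5, 10, 11, 10, 12, 10, 11, 10, 12, 9, 7, 9, 7, 9, 7, 9, 8, 9, 8, 9, 8, 9, 8, 9, 7, 9, 8, 5, 5, 4, 5, 5, 4]))))) (.node 544 (.node 541 (.node 540 (.leaf 130 12 [4, 6, 4, 6, 6, 6, 10, 11, 11, 11, 8, 9, 8, 9, 7, 9, 8, 9, 7, 9, 8, 4, 5, 4, 5, 4, 6, 6, 6, 4, 5, 4, 6]) (.leaf 137 5 [6, 6, 4, 5, 4, 5, 4, 6, 6, 6, 4, 6, 4, 11, 11, 11, 10, 12, 12, 10, 11, 8, 9, 8, 9, 7, 9, 8, 9, 7, 9, 6, 4, 6, 6, 4])) (.node 542 (.leaf 138 4 [4, 6, 6, 6, 6, 4, 5, 5, 5, 5, 4, 5, 5, 5, 11, 10, 12, 12, 12,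 9, 8, 9, 7, 9, 8, 9, 7, 9, 7, 9, 8, 9, 7, 9, 5, 4, 6, 6]) (.node 543 (.leaf 138 1 [4, 6, 6, 4, 6, 6, 6, 6, 4, 5, 5, 5, 5, 4, 5, 5, 5, 11, 10, 12, 12, 12, 9, 8, 9, 7, 9, 8, 9, 7, 9, 7, 9, 8, 9, 7, 9, 5]) (.leaf 144 11 [4, 5, 5, 5, 5, 5, 5, 12, 12, 10, 9, 8, 9, 8, 9, 7, 9, 7, 9, 8, 9, 8, 9, 4, 5, 5, 4, 6, 6, 6, 4, 5, 4, 5])))) (.node 546 (.node 545 (.leaf 145 0 [4, 5, 4, 6, 4, 6, 4, 5, 5, 5, 4, 6, 6, 6, 4, 6, 4, 6, 11, 11, 11, 11, 11, 11, 11, 9, 8, 9, 7, 9, 8, 9, 7, 9, 7, 9, 8, 9, 7, 9, 7, 9, 7]) (.leaf 145 5 [6, 4, 5, 5, 5, 4, 6, 6, 6, 4, 6, 4, 6, 11, 11, 11, 11, 11, 11, 11, 9, 8, 9, 7, 9, 8, 9, 7, 9, 7, 9, 8, 9, 7, 9, 7, 9, 7, 4, 5, 4, 6, 4])) (.node 547 (.leaf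 147 7 [6, 4, 5, 4, 5, 4, 6, 4, 6, 4, 5, 10, 11, 10, 12, 10, 11, 11, 11, 8, 9, 7, 9, 8, 9, 7, 9, 7, 9, 8, 9, 8, 9, 7, 9, 8, 9, 8, 4, 6, 6, 6, 6, 4, 6]) (.node 548 (.leaf 148 13 [6, 4, 5, 4, 6, 11, 11, 10, 12, 12, 12, 10, 11, 9, 8, 9, 8, 9, 8, 9, 7, 9, 8, 9, 7, 9, 8, 9, 8, 9, 8, 6, 4, 5, 4, 6, 6, 6, 4, 5, 4, 5, 5, 4]) (.leaf 152 17 [4, 10, 11, 10, 12, 12, 10, 9, 7, 9, 7, 9, 7, 9, 8, 9, 7, 9, 8, 9, 8, 9, 7, 5, 4, 5, 5, 4, 5, 5, 5, 5, 4, 6, 6, 6, 6, 4, 5, 5])))))))) (.node 588 (.node 568 (.node 558 (.node 553 (.node 551 (.node 550 (.leaf 158 11 [4, 5, 5, 4, 5, 4, 5, 10, 11, 11, 10, 12, 8, 9, 7, 9, 8, 9, 7, 9, 8, 9, 8, 9, 7, 9, 7, 9, 7, 9, 7, 4, 5, 4, 5, 4, 6,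 4, 6, 4, 5, 5]) (.leaf 160 13 [5, 5, 5, 5, 4, 11, 11, 11, 11, 10, 12, 9, 7, 9, 7, 9, 7, 9, 8, 9, 8, 9, 8, 5, 5, 5, 5, 4, 5, 5, 5, 5, 4, 6, 6, 4])) (.node 552 (.leaf 160 15 [5, 5, 4, 11, 11, 11, 11, 10, 12, 9, 7, 9, 7, 9, 7, 9, 8, 9, 8, 9, 8, 5, 5, 5, 5, 4, 5, 5, 5, 5, 4, 6, 6, 4, 5, 5]) (.leaf 166 2 [4, 6, 4, 5, 5, 5, 4, 5, 4, 5, 4, 6, 4, 5, 5, 5, 10, 11, 10, 12, 10, 11, 10, 9, 7, 9, 7, 9, 7, 9, 7, 9, 8, 9, 8, 9, 7, 4, 6]))) (.node 555 (.node 554 (.leaf 167 6 [5, 5, 5, 4, 5, 5, 5, 5, 5, 4, 5, 4, 11, 11, 10, 12, 12, 12, 10, 11, 8, 9, 7, 9, 7, 5, 4, 6, 4, 6, 4]) (.leaf 170 12 [4, 6, 6, 4, 5, 5, 4, 11, 11, 10, 12, 12, 12, 10, 9, 8, 9, 7, 9, 8, 9, 7, 9, 8, 9,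 7, 9, 7, 9, 8, 9, 8, 6, 4, 6, 4, 6, 6, 4, 5, 5, 4, 5, 5])) (.node 556 (.leaf 175 7 [4, 6, 4, 5, 4, 5, 5, 4, 5, 5, 5, 4, 11, 10, 12, 12, 10, 11, 11, 10, 12, 9, 7, 9, 7, 9, 7, 9, 7, 9, 8, 9, 7, 9, 8, 9, 8, 9, 8, 9, 8, 9, 4, 6, 6, 6, 4, 6, 6]) (.node 557 (.leaf 177 17 [6, 4, 10, 11, 10, 12, 12, 12, 8, 9, 7, 9, 7, 9, 7, 9, 8, 9, 7, 5, 5, 4, 6, 6, 4, 6, 4, 5, 5, 4, 6, 4, 6, 4, 6, 4]) (.leaf 198 11 [5, 5, 4, 5, 5, 5, 5, 4, 12, 12, 12, 12, 8, 9, 8, 9, 7, 9, 8, 9, 8, 9, 8, 5, 5, 5, 4, 5, 4, 5, 5, 5, 4, 5]))))) (.node 563 (.node 560 (.node 559 (.leaf 200 21 [11, 8, 9, 8, 9, 7, 9, 7, 9, 7, 5, 5, 4, 6, 4, 5, 4, 5, 4, 5, 4, 6, 6, 4, 5, 4, 5, 4, 6, 12, 10]) (.leaf 202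 12 [5, 4, 6, 6, 6, 4, 6, 12, 12, 10, 11, 10, 12, 8, 9, 7, 9, 7, 9, 7, 9, 8, 9, 7, 9, 8, 9, 8, 9, 8, 9, 4, 6, 4, 5, 5, 5, 4, 6, 6, 4, 6, 4])) (.node 561 (.leaf 226 11 [5, 4, 5, 5, 5, 4, 5, 4, 12, 12, 12, 12, 12, 8, 9, 7, 9, 7, 9, 8, 9, 7, 9, 8, 9, 7, 5, 4, 5, 5, 4, 5, 4, 5, 4, 5, 4]) (.node 562 (.leaf 238 15 [4, 6, 4, 6, 12, 12, 10, 11, 10, 12, 10, 11, 8, 9, 7, 9, 8, 9, 7, 9, 7, 9, 8, 9, 8, 9, 7, 9, 7, 5, 4, 5, 4, 6, 4, 5, 5, 4, 5, 4, 6, 4, 6, 6]) (.leaf 240 4 [5, 5, 4, 5, 5, 5, 5, 5, 5, 4, 5, 5, 4, 5, 4, 6, 10, 11, 10, 12, 10, 11, 10, 12, 9, 8, 9, 7, 9, 7, 9, 7, 9, 7, 9, 8, 9, 8, 6, 4, 5, 4])))) (.node 565 (.node 564 (.leaf 242 21 [11, 9, 7, 9, 8, 9, 7, 9,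 7, 9, 8, 9, 7, 9, 7, 9, 8, 5, 5, 4, 5, 5, 5, 5, 4, 6, 4, 5, 5, 4, 6, 6, 4, 6, 6, 6, 6, 10]) (.leaf 243 10 [6, 6, 6, 6, 6, 4, 6, 4, 5, 4, 10, 12, 12, 10, 11, 11, 8, 9, 8, 9, 8, 9, 7, 9, 8, 9, 7, 9, 7, 9, 7, 9, 7, 9, 7, 6, 4, 5, 4, 5, 5, 4, 6, 6, 4])) (.node 566 (.leaf 252 12 [6, 6, 4, 6, 4, 5, 5, 5, 12, 12, 10, 8, 9, 7, 9, 8, 9, 7, 9, 8, 9, 7, 9, 7, 9, 8, 9, 7, 6, 6, 4, 6, 4, 6, 6, 4, 5, 5, 5, 4]) (.node 567 (.leaf 254 10 [5, 4, 5, 5, 5, 4, 5, 5, 4, 6, 12, 12, 12, 12, 12, 12, 12, 9, 7, 9, 8, 9, 7, 9, 7, 9, 7, 9, 8, 9, 8, 9, 7, 9, 8, 6, 6, 6, 4, 5, 4, 6, 6, 6, 4]) (.leaf 254 11 [4, 5, 5, 5, 4, 5, 5, 4, 6, 12, 12, 12, 12, 12, 12, 12, 9, 7, 9, 8, 9, 7, 9, 7, 9,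 7, 9, 8, 9, 8, 9, 7, 9, 8, 6, 6, 6, 4, 5, 4, 6, 6, 6, 4, 5])))))) (.node 578 (.node 573 (.node 570 (.node 569 (.leaf 270 26 [12, 9, 7, 9, 8, 9, 7, 9, 7, 9, 8, 9, 8, 9, 7, 6, 6, 6, 6, 4, 5, 4, 5, 5, 5, 4, 6, 4, 5, 5, 4, 6, 4, 6, 4, 12, 10, 11, 10, 12, 12]) (.leaf 272 20 [11, 11, 10, 12, 10, 11, 10, 12, 12, 8, 9, 8, 9, 8, 9, 7, 9, 7, 9, 8, 9, 8, 9, 8, 9, 8, 9, 7, 5, 5, 4, 5, 4, 5, 4, 5, 4, 5, 4, 5, 4, 5, 5, 5, 5, 4, 5, 4])) (.node 571 (.leaf 277 24 [10, 8, 9, 7, 9, 7, 9, 8, 9, 7, 9, 8, 9, 7, 9, 8, 9, 8, 9, 8, 5, 5, 4, 6, 4, 5, 5, 5, 4, 5, 4, 6, 4, 5, 5, 4, 6, 6, 6, 6, 11, 10, 12, 12]) (.node 572 (.leaf 280 12 [5, 5, 4, 6, 6, 4, 6, 4, 11, 11, 11, 10, 12, 9, 7,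 9, 7, 9, 7, 9, 7, 9, 8, 9, 8, 9, 8, 9, 7, 9, 7, 6, 6, 4, 5, 5, 5, 5, 5, 4, 5, 5, 4]) (.leaf 284 5 [4, 6, 4, 5, 5, 4, 5, 4, 5, 5, 4, 5, 4, 6, 6, 12, 12, 12, 12, 12, 12, 12, 9, 7, 9, 8, 9, 7, 9, 8, 9, 7, 9, 8, 9, 7, 9, 7, 9, 6, 4, 5, 4, 5])))) (.node 575 (.node 574 (.leaf 286 11 [4, 6, 4, 5, 5, 5, 4, 6, 6, 10, 11, 10, 12, 12, 12, 10, 8, 9, 7, 9, 7, 9, 8, 9, 7, 9, 7, 9, 8, 9, 7, 9, 7, 9, 4, 6, 6, 4, 6, 6, 6, 6, 4, 5, 5]) (.leaf 286 7 [6, 4, 5, 5, 4, 6, 4, 5, 5, 5, 4, 6, 6, 10, 11, 10, 12, 12, 12, 10, 8, 9, 7, 9, 7, 9, 8, 9, 7, 9, 7, 9, 8, 9, 7, 9, 7, 9, 4, 6, 6, 4, 6, 6, 6])) (.node 576 (.leaf 287 10 [5, 5, 4, 5, 4, 6, 6, 6, 6, 4, 11, 10, 12, 10, 11, 10, 12,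 12, 9, 8, 9, 8, 9, 8, 9, 7, 9, 7, 9, 8, 5, 5, 4, 6, 4, 5, 5, 4, 5, 5]) (.node 577 (.leaf 29 21 [9, 8, 9, 8, 9, 8, 9, 8, 5, 4, 6, 4, 6, 6, 6, 4, 5, 5, 5, 5, 5, 5, 4, 9, 7, 9, 8, 9, 7]) (.leaf 89 17 [12, 10, 11, 10, 9, 7, 9, 7, 9, 7, 9, 7, 9, 8, 9, 7, 9, 8, 9, 8, 9, 8, 4, 5, 4, 6, 6, 6, 6, 4, 5, 4, 5, 4, 6, 6, 4, 5, 5]))))) (.node 583 (.node 580 (.node 579 (.leaf 281 21 [12, 10, 11, 9, 8, 9, 8, 9, 8, 9, 7, 9, 8, 9, 7, 5, 4, 6, 4, 5, 5, 4, 6, 4, 5, 4, 6, 6, 6, 4, 6, 4, 6, 4, 6, 10]) (.leaf 290 20 [12, 8, 9, 7, 9, 8, 9, 7, 9, 7, 9, 7, 9, 7, 4, 6, 6, 4, 5, 5, 5, 5, 5, 4, 5, 5, 4, 6, 6, 6, 6, 4, 6, 6])) (.node 581 (.leaf 18 16 [9, 7, 9, 8, 9, 8, 9, 7, 9, 8, 9, 7,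 9, 7, 9, 8, 4, 6, 6, 4, 6, 4, 5, 5, 5, 4, 5, 4, 5, 4, 10, 8]) (.node 582 (.leaf 97 17 [12, 10, 11, 8, 9, 8, 9, 8, 9, 8, 9, 8, 9, 7, 9, 8, 9, 8, 9, 8, 5, 4, 6, 4, 5, 4, 6, 4, 5, 5, 5, 4, 5, 5, 4, 5, 4]) (.leaf 119 31 [8, 9, 7, 5, 4, 5, 4, 6, 6, 4, 6, 4, 6, 4, 6, 4, 6, 4, 5, 5, 4, 9, 7, 9, 7, 9, 7, 9, 7, 9, 8, 9, 7, 9])))) (.node 585 (.node 584 (.leaf 119 22 [9, 7, 9, 7, 9, 8, 9, 7, 9, 8, 9, 7, 5, 4, 5, 4, 6, 6, 4, 6, 4, 6, 4, 6, 4, 6, 4, 5, 5, 4, 9, 7, 9, 7]) (.leaf 252 21 [12, 10, 8, 9, 7, 9, 8, 9, 7, 9, 8, 9, 7, 9, 7, 9, 8, 9, 7, 6, 6, 4, 6, 4, 6, 6, 4, 5, 5, 5, 4, 6, 6, 4, 6, 4, 5, 5, 5, 12])) (.node 586 (.leaf 68 12 [4, 5, 4, 6, 4, 8, 9, 8, 9, 7, 9, 7,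 9, 8, 9, 7, 9, 7, 9, 8, 9, 8, 5, 5, 4, 5, 4, 5, 4, 5, 5, 5, 5, 5]) (.node 587 (.leaf 176 31 [9, 7, 9, 7, 4, 6, 6, 4, 6, 6, 6, 4, 6, 4, 6, 6, 4, 6, 4, 5, 5, 5, 4, 11, 10, 9, 7, 9, 7, 9, 8, 9, 8, 9, 7]) (.leaf 274 20 [12, 12, 10, 11, 11, 8, 9, 7, 9, 8, 9, 8, 9, 8, 9, 8, 9, 8, 9, 7, 6, 4, 5, 4, 5, 5, 5, 5, 4, 5, 4, 6, 6, 4, 6, 6, 6, 4, 6, 4]))))))) (.node 608 (.node 598 (.node 593 (.node 590 (.node 589 (.leaf 149 22 [8, 9, 7, 9, 8, 9, 7, 5, 5, 4, 5, 5, 4, 6, 6, 4, 5, 4, 6, 4, 6, 6, 6, 4, 5, 10, 9, 7, 9]) (.leaf 282 21 [12, 12, 12, 10, 8, 9, 8, 9, 7, 9, 8, 9, 8, 5, 5, 4, 5, 5, 5, 5, 4, 5, 5, 4, 6, 4, 5, 4, 5, 5, 4, 6, 4, 10])) (.node 591 (.leaf 18 10 [5, 4, 5,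 4, 10, 8, 9, 7, 9, 8, 9, 8, 9, 7, 9, 8, 9, 7, 9, 7, 9, 8, 4, 6, 6, 4, 6, 4, 5, 5, 5, 4]) (.node 592 (.leaf 113 19 [12, 12, 12, 8, 9, 8, 9, 7, 9, 7, 9, 7, 9, 7, 9, 5, 5, 4, 6, 4, 6, 4, 6, 4, 6, 6, 6, 4, 6, 6, 4, 6, 6, 12]) (.leaf 168 18 [12, 10, 11, 11, 8, 9, 7, 9, 8, 9, 8, 9, 7, 9, 8, 4, 6, 4, 5, 4, 5, 4, 6, 4, 5, 5, 4, 5, 4, 5, 4, 6, 6])))) (.node 595 (.node 594 (.leaf 290 33 [7, 4, 6, 6, 4, 5, 5, 5, 5, 5, 4, 5, 5, 4, 6, 6, 6, 6, 4, 6, 6, 12, 8, 9, 7, 9, 8, 9, 7, 9, 7, 9, 7, 9]) (.leaf 33 16 [11, 10, 12, 10, 8, 9, 7, 9, 7, 9, 8, 9, 7, 9, 8, 9, 8, 4, 6, 6, 6, 4, 6, 4, 5, 5, 4, 5, 4, 5, 4, 5, 10])) (.node 596 (.leaf 87 22 [12, 12, 10, 8, 9, 7, 9, 8, 9, 7, 9,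 8, 9, 8, 9, 8, 9, 4, 5, 4, 6, 6, 4, 5, 4, 5, 5, 4, 6, 6, 4, 6, 4, 6, 10, 12, 10, 11, 10]) (.node 597 (.leaf 229 24 [11, 11, 10, 9, 7, 9, 8, 9, 7, 9, 8, 6, 6, 6, 4, 5, 4, 5, 5, 5, 5, 5, 4, 5, 5, 4, 5, 5, 5, 4, 10, 11, 10, 12, 10]) (.leaf 84 20 [12, 8, 9, 7, 9, 8, 9, 6, 4, 6, 6, 6, 4, 5, 5, 4, 5, 4, 6, 4, 5, 4, 6, 6, 11, 11, 10]))))) (.node 603 (.node 600 (.node 599 (.leaf 107 18 [10, 11, 11, 10, 8, 9, 7, 9, 8, 9, 8, 9, 8, 9, 7, 9, 8, 9, 7, 9, 4, 5, 5, 4, 6, 6, 4, 5, 5, 5, 5, 4, 5, 4, 6, 4, 5, 4]) (.leaf 141 21 [12, 10, 11, 11, 8, 9, 8, 9, 8, 9, 8, 9, 7, 9, 7, 5, 4, 6, 4, 5, 4, 5, 5, 5, 5, 4, 6, 6, 4, 5, 4, 5, 5, 11, 10, 12])) (.node 601 (.leaf 232 22 [10, 12,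 12, 10, 8, 9, 8, 9, 8, 9, 7, 9, 7, 6, 6, 6, 6, 6, 4, 6, 6, 4, 5, 4, 5, 5, 5, 5, 4, 5, 4, 6, 11, 11, 11]) (.node 602 (.leaf 246 20 [11, 11, 11, 10, 9, 7, 9, 7, 9, 7, 9, 8, 9, 8, 9, 7, 9, 7, 9, 8, 9, 7, 5, 5, 4, 5, 5, 5, 4, 5, 4, 5, 4, 6, 4, 6, 4, 6, 4, 5, 5, 5]) (.leaf 273 20 [12, 10, 11, 11, 10, 12, 12, 10, 8, 9, 8, 9, 8, 4, 5, 5, 4, 6, 6, 4, 5, 4, 6, 4, 6, 4, 5, 4, 6, 6, 4, 5, 5])))) (.node 605 (.node 604 (.leaf 65 22 [10, 8, 9, 8, 9, 8, 9, 8, 9, 7, 9, 6, 6, 6, 6, 4, 5, 4, 6, 4, 5, 5, 4, 5, 4, 6, 4, 5, 10, 12, 12, 10, 11]) (.leaf 65 19 [12, 10, 11, 10, 8, 9, 8, 9, 8, 9, 8, 9, 7, 9, 6, 6, 6, 6, 4, 5, 4, 6, 4, 5, 5, 4, 5, 4, 6, 4, 5, 10, 12])) (.node 606 (.leaf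 200 28 [7, 9, 7, 5, 5, 4, 6, 4, 5, 4, 5, 4, 5, 4, 6, 6, 4, 5, 4, 5, 4, 6, 12, 10, 11, 8, 9, 8, 9, 7, 9]) (.node 607 (.leaf 211 34 [9, 7, 6, 4, 6, 6, 4, 6, 6, 6, 6, 4, 6, 6, 6, 4, 5, 5, 5, 4, 5, 10, 12, 12, 10, 11, 11, 8, 9, 7, 9, 8, 9, 8, 9, 7]) (.leaf 271 26 [12, 10, 8, 9, 8, 9, 7, 9, 8, 9, 7, 9, 5, 5, 5, 5, 5, 4, 5, 4, 5, 5, 5, 4, 5, 5, 4, 6, 4, 5, 5, 4, 10, 12, 12, 10, 11, 10])))))) (.node 618 (.node 613 (.node 610 (.node 609 (.leaf 18 22 [9, 7, 9, 8, 9, 7, 9, 7, 9, 8, 4, 6, 6, 4, 6, 4, 5, 5, 5, 4, 5, 4, 5, 4, 10, 8, 9, 7, 9, 8, 9, 8]) (.leaf 66 20 [12, 9, 7, 9, 7, 9, 7, 9, 8, 9, 4, 6, 4, 5, 5, 4, 6, 4, 5, 4, 5, 5, 4, 6, 4, 6, 6, 10, 12, 12])) (.node 611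 (.leaf 109 19 [11, 10, 12, 9, 7, 9, 7, 9, 7, 9, 8, 9, 8, 9, 7, 9, 7, 9, 8, 9, 8, 5, 5, 4, 6, 4, 6, 6, 4, 5, 4, 5, 4, 6, 6, 4, 6, 6, 6, 11]) (.node 612 (.leaf 160 18 [11, 11, 11, 11, 10, 12, 9, 7, 9, 7, 9, 7, 9, 8, 9, 8, 9, 8, 5, 5, 5, 5, 4, 5, 5, 5, 5, 4, 6, 6, 4, 5, 5, 5, 5, 4]) (.leaf 239 22 [12, 10, 11, 10, 12, 9, 7, 9, 7, 9, 8, 9, 8, 9, 7, 9, 7, 9, 8, 5, 4, 5, 5, 5, 5, 5, 4, 6, 4, 5, 5, 5, 4, 5, 4, 6, 6, 6, 6, 10, 12])))) (.node 615 (.node 614 (.leaf 270 40 [7, 6, 6, 6, 6, 4, 5, 4, 5, 5, 5, 4, 6, 4, 5, 5, 4, 6, 4, 6, 4, 12, 10, 11, 10, 12, 12, 12, 9, 7, 9, 8, 9, 7, 9, 7, 9, 8, 9, 8, 9]) (.leaf 99 38 [9, 4, 6, 4, 6, 6, 4, 5, 4, 5, 4, 6, 4, 6, 4, 5, 5, 5,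 12, 10, 11, 11, 10, 9, 8, 9, 8, 9, 8, 9, 7, 9, 8, 9, 7, 9, 7, 9, 7])) (.node 616 (.leaf 178 36 [8, 6, 6, 6, 4, 5, 5, 4, 6, 6, 4, 6, 6, 6, 4, 6, 4, 5, 5, 5, 12, 12, 10, 11, 10, 8, 9, 7, 9, 7, 9, 7, 9, 8, 9, 7, 9]) (.node 617 (.leaf 152 10 [6, 6, 6, 6, 4, 5, 5, 4, 10, 11, 10, 12, 12, 10, 9, 7, 9, 7, 9, 7, 9, 8, 9, 7, 9, 8, 9, 8, 9, 7, 5, 4, 5, 5, 4, 5, 5, 5, 5, 4]) (.leaf 218 23 [8, 9, 8, 9, 7, 9, 7, 9, 8, 9, 8, 9, 8, 9, 8, 4, 5, 4, 6, 6, 4, 6, 4, 5, 5, 5, 4, 6, 6, 6, 4, 5, 5, 4, 8, 9, 7, 9]))))) (.node 623 (.node 620 (.node 619 (.leaf 22 31 [9, 5, 4, 5, 4, 5, 5, 5, 5, 4, 5, 5, 5, 4, 5, 10, 11, 11, 10, 12, 10, 11, 9, 8, 9, 8, 9, 8, 9, 7, 9, 7]) (.leaf 90 21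 [12, 9, 7, 9, 8, 4, 5, 5, 4, 6, 4, 5, 5, 5, 5, 5, 4, 5, 5, 4, 6, 4, 12, 12, 12, 12])) (.node 621 (.leaf 126 36 [9, 7, 9, 5, 4, 6, 6, 4, 5, 5, 4, 5, 4, 6, 4, 5, 5, 4, 5, 5, 4, 11, 10, 12, 12, 12, 12, 9, 7, 9, 8, 9, 7, 9, 7, 9, 8, 9, 7]) (.node 622 (.leaf 250 23 [11, 10, 12, 12, 12, 9, 7, 9, 8, 9, 7, 9, 8, 9, 8, 9, 8, 9, 7, 9, 5, 4, 5, 5, 5, 5, 4, 6, 6, 6, 4, 5, 4, 5, 5, 5, 5, 4, 5, 5, 10, 12, 10]) (.leaf 257 39 [9, 4, 5, 5, 4, 6, 4, 5, 4, 6, 6, 4, 6, 6, 4, 6, 6, 6, 4, 5, 4, 12, 10, 11, 11, 10, 12, 10, 9, 8, 9, 8, 9, 8, 9, 7, 9, 8, 9, 7])))) (.node 625 (.node 624 (.leaf 21 30 [8, 9, 8, 9, 7, 6, 4, 5, 4, 5, 4, 5, 5, 5, 4, 6, 6, 4, 6, 12, 10, 11, 11, 8, 9, 8,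 9, 8, 9, 8, 9, 8, 9, 7, 9]) (.leaf 218 11 [4, 6, 6, 6, 4, 5, 5, 4, 8, 9, 7, 9, 8, 9, 8, 9, 7, 9, 7, 9, 8, 9, 8, 9, 8, 9, 8, 4, 5, 4, 6, 6, 4, 6, 4, 5, 5, 5])) (.node 626 (.leaf 109 8 [5, 4, 5, 4, 6, 6, 4, 6, 6, 6, 11, 11, 10, 12, 9, 7, 9, 7, 9, 7, 9, 8, 9, 8, 9, 7, 9, 7, 9, 8, 9, 8, 5, 5, 4, 6, 4, 6, 6, 4]) (.node 627 (.leaf 190 17 [6, 6, 12, 8, 9, 7, 9, 7, 9, 8, 9, 8, 9, 8, 9, 7, 4, 6, 6, 4, 5, 5, 4, 5, 4, 5, 4, 6, 6, 4, 5, 5, 4]) (.leaf 253 4 [6, 6, 6, 6, 6, 4, 6, 6, 6, 4, 5, 5, 4, 6, 4, 6, 12, 10, 11, 11, 10, 9, 8, 9, 7, 9, 8, 9, 7, 9, 8, 9, 7, 9, 7, 9, 8, 9, 8, 5, 4, 5, 4])))))))))))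

theorem b0 : allR (guardB 24 (blk fc sc rt.get Cfsg.Agent.Lib.Helper3.Suz.INV isH)) 5 0 = true := by decide +kernel
theorem c0 : allR (guardB 43 (cblk fc nc cc 6144 1365 79228162514264337593543950336 gens)) 5 0 = true := by decide +kernel
theorem c1 : allR (guardB 43 (cblk fc nc cc 6144 1365 79228162514264337593543950336 gens)) 5 32 = true := by decide +kernel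

theorem chkAll : ∀ j < 24, blk fc sc rt.get Cfsg.Agent.Lib.Helper3.Suz.INV isH j = true :=
  guardB_spec (D := 5) b0 (by norm_num)

theorem clAll : ∀ jb < 43, cblk fc nc cc (256 * 24) 1365 79228162514264337593543950336 gens jb = true :=
  guardB_spec (D := 6) (allR_join c0 c1 (by norm_num)) (by norm_num)

theorem card_eq : Nat.card (lgrp (vL Cfsg.Agent.Lib.Helper3.Suz.ntl Cfsg.Agent.Lib.Helper3.Suz.deg) gens) = 1365 * Nat.card (lgrp (vL Cfsg.Agent.Lib.Helper3.Suz.ntl Cfsg.Agent.Lib.Helper3.Suz.deg) hl) :=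
  Cfsg.Agent.Lib.Helper3.Suz.setup.level gens hl dl BR (by decide +kernel) (by decide +kernel) (by decide +kernel) (by decide +kernel)
    (by decide +kernel) rt (by decide +kernel) isH (fun l h => of_decide_eq_true h) fc sc nc cc 24 43 1365 79228162514264337593543950336
    (by norm_num) (by norm_num) (by decide +kernel) (by decide) chkAll clAll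
    1 1 12 (by norm_num [Cfsg.Agent.Lib.Helper3.Suz.deg]) (by norm_num [Cfsg.Agent.Lib.Helper3.Suz.deg]) (by decide +kernel) (by decide +kernel)

theorem ub {M : Type*} [Group M] (w : ℕ → M) (h0 : w 0 = 1) (hinv : ∀ l, w (invL Cfsg.Agent.Lib.Helper3.Suz.INV l) = (w l)⁻¹)
    (hBR : ∀ r ∈ BR, (r.map w).prod = 1)
    (hdlr : ∀ r ∈ dl.map (fun p => p.1 ++ [p.2]), (r.map w).prod = 1) (N : ℕ) (hN : Bd w hl N) :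
    Bd w gens (1365 * N) :=
  level_bd w Cfsg.Agent.Lib.Helper3.Suz.INV h0 hinv gens hl dl BR (by decide +kernel) hdlr hBR (by decide +kernel) (by decide +kernel)
    rt (by decide +kernel) isH (fun l h => of_decide_eq_true h) fc sc nc cc 24 43 1365 79228162514264337593543950336
    (by norm_num) (by norm_num) (by decide +kernel) (by decide) chkAll clAll N hN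

end Cfsg.Agent.Lib.Helper3.Suz.L2
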