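import Cfsg.Agent.Lib.Helper3.Suz.L3D
import Cfsg.Agent.Lib.Helper3.Suz.Net

set_option autoImplicit false
set_option maxRecDepth 100000

namespace Cfsg.Agent.Lib.Helper3.Suz.L3

open Cfsg.Agent.Lib.Helper11 Cfsg.Agent.Lib.Helper3

set_option maxHeartbeats 0

noncomputable def fc (i : ℕ) : ℕ := (fc0_0 i)
noncomputable def sc (i : ℕ) : ℕ := (sc0_0 i)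
noncomputable def nc (i : ℕ) : ℕ := (nc0_0 i)
noncomputable def cc (i : ℕ) : ℕ := (Bool.rec (cc0_0 i) (cc0_1 i) (Nat.ble 16 i))

def isH (l : ℕ) : Bool := decide (l ∈ [10, 11])
def gens : List ℕ := [7, 9]
def hl : List ℕ := [10, 11]
def dl : List (List ℕ × ℕ) := [([7], 8), ([7, 9, 8], 10), ([9, 7, 9, 7, 9, 7, 9, 7, 9, 7, 9, 7, 9, 8, 9, 7, 9, 7, 9, 7, 9, 8, 9], 12), ([12], 11)]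
def BR : List (List ℕ) := [[], [7, 9, 8, 10], [9, 7, 9, 7, 9, 7, 9, 7, 9, 7, 9, 7, 9, 8, 9, 7, 9, 7, 9, 7, 9, 8, 9, 12], [7, 7, 7], [8, 8, 8], [7, 9, 7, 9, 7, 9, 7, 9, 7, 9, 7, 9, 7, 9, 7, 9, 7, 9, 7, 9, 7, 9, 7, 9, 7, 9, 7, 9, 7, 9], [8, 9, 8, 9, 8, 9, 8, 9, 8, 9, 8, 9, 8, 9, 8, 9, 8, 9, 8, 9, 8, 9, 8, 9, 8, 9, 8, 9, 8, 9], [7, 7, 7, 9, 7, 7, 7, 9], [7, 9, 8, 9, 7, 9, 8, 9, 7, 9, 8, 9, 7, 9, 8, 9, 7, 9, 8, 9, 7, 9, 8, 9, 7, 9, 8, 9, 7, 9, 8, 9, 7, 9, 8, 9, 7, 9, 8, 9], [8, 8, 8, 9, 8, 8, 8, 9], [9, 8, 9, 8, 9, 8, 9, 8, 9, 7, 9, 8, 9, 7, 9, 8, 9, 8, 9, 11, 11, 10, 12, 10, 11, 10], [8, 9, 7, 9, 7, 9, 7, 9, 7, 9, 8, 9, 8, 9, 8, 9, 7, 9, 7, 9, 8, 9, 11, 11, 10, 12, 12, 10, 11, 11], [9, 8,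 9, 7, 9, 8, 9, 8, 9, 7, 9, 8, 9, 7, 9, 7, 9, 8, 9, 7, 9, 7, 12, 12, 10, 11, 11, 10, 12], [8, 9, 8, 9, 7, 9, 8, 9, 7, 9, 8, 9, 7, 9, 7, 9, 8, 9, 7, 9, 7, 9, 7, 12, 12, 10, 11, 10, 12], [9, 8, 9, 7, 9, 8, 9, 8, 9, 8, 9, 7, 9, 7, 9, 7, 9, 7, 9, 8, 9, 8, 9, 12, 12, 10, 11, 11, 10, 12, 12], [8, 9, 7, 9, 7, 9, 8, 9, 8, 9, 7, 9, 8, 9, 7, 9, 7, 9, 8, 9, 8, 9, 7, 10, 12, 10, 11, 10], [9, 7, 9, 8, 9, 7, 9, 8, 9, 8, 9, 7, 9, 7, 9, 7, 9, 8, 9, 8, 9, 7, 9, 7, 11, 11, 11, 11], [8, 9, 7, 9, 8, 9, 7, 9, 7, 9, 8, 9, 7, 9, 7, 9, 8, 9, 8, 9, 8, 9, 7, 9, 7, 11, 10, 12, 10, 11, 11, 10], [9, 8, 9, 7, 9, 7, 9, 8, 9, 8, 9, 7, 9, 8, 9, 7, 9, 7, 9, 8, 9, 8, 9, 7, 9, 10, 12, 10, 11, 10], [9, 7, 9, 7, 9, 7, 9, 8,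 9, 7, 9, 7, 9, 8, 9, 8, 9, 7, 9, 8, 9, 8, 9, 8, 9, 12, 10, 11], [8, 9, 7, 9, 8, 9, 8, 9, 7, 9, 7, 9, 7, 9, 7, 9, 7, 9, 8, 9, 8, 9, 8, 9, 7, 9, 10, 12, 12, 12, 12], [8, 9, 7, 9, 7, 9, 8, 9, 7, 9, 8, 9, 8, 9, 8, 9, 7, 9, 8, 9, 8, 9, 8, 9, 7, 9, 10, 11, 10, 12, 10], [8, 9, 7, 9, 8, 9, 7, 9, 7, 9, 7, 9, 8, 9, 7, 9, 7, 9, 8, 9, 7, 9, 8, 9, 7, 9, 12, 10, 11, 10, 12, 10, 11], [8, 9, 7, 9, 7, 9, 7, 9, 8, 9, 8, 9, 8, 9, 7, 9, 7, 9, 7, 9, 8, 9, 8, 9, 8, 9, 7, 11, 10, 12, 12, 10, 11, 11, 10, 12], [8, 9, 7, 9, 7, 9, 8, 9, 8, 9, 8, 9, 8, 9, 7, 9, 7, 9, 7, 9, 7, 9, 8, 9, 8, 9, 7, 11, 11, 10, 12, 10, 11, 10, 12, 12], [9, 7, 9, 7, 9, 8, 9, 8, 9, 8, 9, 7, 9, 7, 9, 8, 9, 7, 9, 7, 9, 7, 9, 8, 9, 8, 9, 12,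 10, 11, 10, 12]]
def rt : RT := (.node 124 (.node 62 (.node 31 (.node 15 (.node 7 (.node 3 (.node 1 (.leaf 0 0 []) (.node 2 (.leaf 1 1 [9, 8, 10, 7]) (.leaf 3 1 [7, 7, 7]))) (.node 5 (.node 4 (.leaf 7 5 [7, 7, 9, 7, 7, 7, 9, 7]) (.leaf 8 21 [9, 8, 9, 7, 9, 8, 9, 7, 9, 8, 9, 7, 9, 8, 9, 7, 9, 8, 9, 7, 9, 8, 9, 7, 9, 8, 9, 7, 9, 8, 9, 7, 9, 8, 9, 7, 9, 8, 9, 7])) (.node 6 (.leaf 1 3 [10, 7, 9, 8]) (.leaf 2 23 [12, 9, 7, 9, 7, 9, 7, 9, 7, 9, 7, 9, 7, 9, 8, 9, 7, 9, 7, 9, 7, 9, 8, 9])))) (.node 11 (.node 9 (.node 8 (.leaf 2 11 [7, 9, 8, 9, 7, 9, 7, 9, 7, 9, 8, 9, 12, 9, 7, 9, 7, 9, 7, 9, 7, 9, 7, 9]) (.leaf 6 15 [9, 8, 9, 8, 9, 8, 9, 8, 9, 8, 9, 8, 9, 8, 9, 8, 9, 8, 9, 8, 9, 8, 9, 8, 9, 8,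 9, 8, 9, 8])) (.node 10 (.leaf 6 5 [9, 8, 9, 8, 9, 8, 9, 8, 9, 8, 9, 8, 9, 8, 9, 8, 9, 8, 9, 8, 9, 8, 9, 8, 9, 8, 9, 8, 9, 8]) (.leaf 10 9 [7, 9, 8, 9, 7, 9, 8, 9, 8, 9, 11, 11, 10, 12, 10, 11, 10, 9, 8, 9, 8, 9, 8, 9, 8, 9]))) (.node 13 (.node 12 (.leaf 3 2 [7, 7, 7]) (.leaf 5 26 [7, 9, 7, 9, 7, 9, 7, 9, 7, 9, 7, 9, 7, 9, 7, 9, 7, 9, 7, 9, 7, 9, 7, 9, 7, 9, 7, 9, 7, 9])) (.node 14 (.leaf 11 11 [9, 8, 9, 8, 9, 7, 9, 7, 9, 8, 9, 11, 11, 10, 12, 12, 10, 11, 11, 8, 9, 7, 9, 7, 9, 7, 9, 7, 9, 8]) (.leaf 6 18 [8, 9, 8, 9, 8, 9, 8, 9, 8, 9, 8, 9, 8, 9, 8, 9, 8, 9, 8, 9, 8, 9, 8, 9, 8, 9, 8, 9, 8, 9]))))) (.node 23 (.node 19 (.node 17 (.node 16 (.leaf 4 1 [8, 8, 8]) (.leaf 12 10 [9, 8, 9, 7,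 9, 7, 9, 8, 9, 7, 9, 7, 12, 12, 10, 11, 11, 10, 12, 9, 8, 9, 7, 9, 8, 9, 8, 9, 7])) (.node 18 (.leaf 13 11 [9, 7, 9, 7, 9, 8, 9, 7, 9, 7, 9, 7, 12, 12, 10, 11, 10, 12, 8, 9, 8, 9, 7, 9, 8, 9, 7, 9, 8]) (.leaf 8 11 [9, 7, 9, 8, 9, 7, 9, 8, 9, 7, 9, 8, 9, 7, 9, 8, 9, 7, 9, 8, 9, 7, 9, 8, 9, 7, 9, 8, 9, 7, 9, 8, 9, 7, 9, 8, 9, 7, 9, 8]))) (.node 21 (.node 20 (.leaf 14 11 [7, 9, 7, 9, 7, 9, 7, 9, 8, 9, 8, 9, 12, 12, 10, 11, 11, 10, 12, 12, 9, 8, 9, 7, 9, 8, 9, 8, 9, 8, 9]) (.leaf 5 17 [9, 7, 9, 7, 9, 7, 9, 7, 9, 7, 9, 7, 9, 7, 9, 7, 9, 7, 9, 7, 9, 7, 9, 7, 9, 7, 9, 7, 9, 7])) (.node 22 (.leaf 15 11 [9, 8, 9, 7, 9, 7, 9, 8, 9, 8, 9, 7, 10, 12, 10, 11, 10, 8, 9, 7, 9, 7, 9, 8, 9, 8, 9, 7])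 (.leaf 16 11 [7, 9, 7, 9, 7, 9, 8, 9, 8, 9, 7, 9, 7, 11, 11, 11, 11, 9, 7, 9, 8, 9, 7, 9, 8, 9, 8, 9])))) (.node 27 (.node 25 (.node 24 (.leaf 15 26 [11, 10, 8, 9, 7, 9, 7, 9, 8, 9, 8, 9, 7, 9, 8, 9, 7, 9, 7, 9, 8, 9, 8, 9, 7, 10, 12, 10]) (.leaf 17 12 [7, 9, 7, 9, 8, 9, 8, 9, 8, 9, 7, 9, 7, 11, 10, 12, 10, 11, 11, 10, 8, 9, 7, 9, 8, 9, 7, 9, 7, 9, 8, 9])) (.node 26 (.leaf 18 12 [9, 8, 9, 7, 9, 7, 9, 8, 9, 8, 9, 7, 9, 10, 12, 10, 11, 10, 9, 8, 9, 7, 9, 7, 9, 8, 9, 8, 9, 7]) (.leaf 19 12 [9, 8, 9, 8, 9, 7, 9, 8, 9, 8, 9, 8, 9, 12, 10, 11, 9, 7, 9, 7, 9, 7, 9, 8, 9, 7, 9, 7]))) (.node 29 (.node 28 (.leaf 19 25 [12, 10, 11, 9, 7, 9, 7, 9, 7, 9, 8, 9, 7, 9, 7, 9, 8, 9, 8, 9, 7, 9, 8, 9, 8,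 9, 8, 9]) (.leaf 2 5 [7, 9, 7, 9, 7, 9, 7, 9, 8, 9, 7, 9, 7, 9, 7, 9, 8, 9, 12, 9, 7, 9, 7, 9])) (.node 30 (.leaf 20 13 [9, 7, 9, 7, 9, 8, 9, 8, 9, 8, 9, 7, 9, 10, 12, 12, 12, 12, 8, 9, 7, 9, 8, 9, 8, 9, 7, 9, 7, 9, 7]) (.leaf 5 14 [7, 9, 7, 9, 7, 9, 7, 9, 7, 9, 7, 9, 7, 9, 7, 9, 7, 9, 7, 9, 7, 9, 7, 9, 7, 9, 7, 9, 7, 9])))))) (.node 46 (.node 38 (.node 34 (.node 32 (.leaf 21 13 [9, 8, 9, 7, 9, 8, 9, 8, 9, 8, 9, 7, 9, 10, 11, 10, 12, 10, 8, 9, 7, 9, 7, 9, 8, 9, 7, 9, 8, 9, 8]) (.node 33 (.leaf 19 27 [11, 9, 7, 9, 7, 9, 7, 9, 8, 9, 7, 9, 7, 9, 8, 9, 8, 9, 7, 9, 8, 9, 8, 9, 8, 9, 12, 10]) (.leaf 2 4 [9, 7, 9, 7, 9, 7, 9, 7, 9, 8, 9, 7, 9, 7, 9, 7, 9, 8, 9, 12, 9, 7, 9, 7]))) (.node 36 (.node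 35 (.leaf 22 13 [9, 7, 9, 7, 9, 8, 9, 7, 9, 8, 9, 7, 9, 12, 10, 11, 10, 12, 10, 11, 8, 9, 7, 9, 8, 9, 7, 9, 7, 9, 7, 9, 8]) (.leaf 23 13 [9, 7, 9, 7, 9, 7, 9, 8, 9, 8, 9, 8, 9, 7, 11, 10, 12, 12, 10, 11, 11, 10, 12, 8, 9, 7, 9, 7, 9, 7, 9, 8, 9, 8, 9, 8])) (.node 37 (.leaf 24 13 [9, 7, 9, 7, 9, 7, 9, 7, 9, 8, 9, 8, 9, 7, 11, 11, 10, 12, 10, 11, 10, 12, 12, 8, 9, 7, 9, 7, 9, 8, 9, 8, 9, 8, 9, 8]) (.leaf 21 27 [11, 10, 12, 10, 8, 9, 7, 9, 7, 9, 8, 9, 7, 9, 8, 9, 8, 9, 8, 9, 7, 9, 8, 9, 8, 9, 8, 9, 7, 9, 10])))) (.node 42 (.node 40 (.node 39 (.leaf 25 13 [7, 9, 8, 9, 7, 9, 7, 9, 7, 9, 8, 9, 8, 9, 12, 10, 11, 10, 12, 9, 7, 9, 7, 9, 8, 9, 8, 9, 8, 9, 7, 9]) (.leaf 25 29 [11, 10, 12, 9, 7,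 9, 7, 9, 8, 9, 8, 9, 8, 9, 7, 9, 7, 9, 8, 9, 7, 9, 7, 9, 7, 9, 8, 9, 8, 9, 12, 10])) (.node 41 (.leaf 25 30 [10, 12, 9, 7, 9, 7, 9, 8, 9, 8, 9, 8, 9, 7, 9, 7, 9, 8, 9, 7, 9, 7, 9, 7, 9, 8, 9, 8, 9, 12, 10, 11]) (.leaf 5 21 [9, 7, 9, 7, 9, 7, 9, 7, 9, 7, 9, 7, 9, 7, 9, 7, 9, 7, 9, 7, 9, 7, 9, 7, 9, 7, 9, 7, 9, 7]))) (.node 44 (.node 43 (.leaf 21 15 [9, 7, 9, 8, 9, 8, 9, 8, 9, 7, 9, 10, 11, 10, 12, 10, 8, 9, 7, 9, 7, 9, 8, 9, 7, 9, 8, 9, 8, 9, 8]) (.leaf 1 0 [7, 9, 8, 10])) (.node 45 (.leaf 17 25 [11, 10, 12, 10, 11, 11, 10, 8, 9, 7, 9, 8, 9, 7, 9, 7, 9, 8, 9, 7, 9, 7, 9, 8, 9, 8, 9, 8, 9, 7, 9, 7]) (.leaf 18 28 [11, 10, 9, 8, 9, 7, 9, 7, 9, 8, 9, 8, 9, 7, 9, 8, 9, 7, 9, 7, 9, 8, 9, 8,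 9, 7, 9, 10, 12, 10]))))) (.node 54 (.node 50 (.node 48 (.node 47 (.leaf 25 31 [12, 9, 7, 9, 7, 9, 8, 9, 8, 9, 8, 9, 7, 9, 7, 9, 8, 9, 7, 9, 7, 9, 7, 9, 8, 9, 8, 9, 12, 10, 11, 10]) (.leaf 13 13 [9, 7, 9, 8, 9, 7, 9, 7, 9, 7, 12, 12, 10, 11, 10, 12, 8, 9, 8, 9, 7, 9, 8, 9, 7, 9, 8, 9, 7])) (.node 49 (.leaf 22 32 [11, 8, 9, 7, 9, 8, 9, 7, 9, 7, 9, 7, 9, 8, 9, 7, 9, 7, 9, 8, 9, 7, 9, 8, 9, 7, 9, 12, 10, 11, 10, 12, 10]) (.leaf 22 26 [12, 10, 11, 10, 12, 10, 11, 8, 9, 7, 9, 8, 9, 7, 9, 7, 9, 7, 9, 8, 9, 7, 9, 7, 9, 8, 9, 7, 9, 8, 9, 7, 9]))) (.node 52 (.node 51 (.leaf 2 21 [8, 9, 12, 9, 7, 9, 7, 9, 7, 9, 7, 9, 7, 9, 7, 9, 8, 9, 7, 9, 7, 9, 7, 9]) (.leaf 5 23 [9, 7, 9, 7, 9, 7, 9, 7, 9, 7,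 9, 7, 9, 7, 9, 7, 9, 7, 9, 7, 9, 7, 9, 7, 9, 7, 9, 7, 9, 7])) (.node 53 (.leaf 19 26 [10, 11, 9, 7, 9, 7, 9, 7, 9, 8, 9, 7, 9, 7, 9, 8, 9, 8, 9, 7, 9, 8, 9, 8, 9, 8, 9, 12]) (.leaf 18 6 [9, 8, 9, 8, 9, 7, 9, 8, 9, 7, 9, 7, 9, 8, 9, 8, 9, 7, 9, 10, 12, 10, 11, 10, 9, 8, 9, 7, 9, 7])))) (.node 58 (.node 56 (.node 55 (.leaf 2 19 [7, 9, 8, 9, 12, 9, 7, 9, 7, 9, 7, 9, 7, 9, 7, 9, 7, 9, 8, 9, 7, 9, 7, 9]) (.leaf 12 22 [12, 12, 10, 11, 11, 10, 12, 9, 8, 9, 7, 9, 8, 9, 8, 9, 7, 9, 8, 9, 7, 9, 7, 9, 8, 9, 7, 9, 7])) (.node 57 (.leaf 25 23 [8, 9, 8, 9, 12, 10, 11, 10, 12, 9, 7, 9, 7, 9, 8, 9, 8, 9, 8, 9, 7, 9, 7, 9, 8, 9, 7, 9, 7, 9, 7, 9]) (.leaf 10 25 [10, 9, 8, 9, 8, 9, 8, 9, 8, 9, 7, 9, 8,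 9, 7, 9, 8, 9, 8, 9, 11, 11, 10, 12, 10, 11]))) (.node 60 (.node 59 (.leaf 15 1 [9, 7, 9, 7, 9, 8, 9, 8, 9, 7, 9, 8, 9, 7, 9, 7, 9, 8, 9, 8, 9, 7, 10, 12, 10, 11, 10, 8]) (.leaf 18 7 [8, 9, 8, 9, 7, 9, 8, 9, 7, 9, 7, 9, 8, 9, 8, 9, 7, 9, 10, 12, 10, 11, 10, 9, 8, 9, 7, 9, 7, 9])) (.node 61 (.leaf 8 7 [9, 7, 9, 8, 9, 7, 9, 8, 9, 7, 9, 8, 9, 7, 9, 8, 9, 7, 9, 8, 9, 7, 9, 8, 9, 7, 9, 8, 9, 7, 9, 8, 9, 7, 9, 8, 9, 7, 9, 8]) (.leaf 15 24 [12, 10, 11, 10, 8, 9, 7, 9, 7, 9, 8, 9, 8, 9, 7, 9, 8, 9, 7, 9, 7, 9, 8, 9, 8, 9, 7, 10]))))))) (.node 93 (.node 77 (.node 69 (.node 65 (.node 63 (.leaf 18 29 [10, 9, 8, 9, 7, 9, 7, 9, 8, 9, 8, 9, 7, 9, 8, 9, 7, 9, 7, 9, 8, 9, 8, 9, 7, 9, 10, 12, 10, 11])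 (.node 64 (.leaf 22 2 [7, 9, 8, 9, 7, 9, 7, 9, 7, 9, 8, 9, 7, 9, 7, 9, 8, 9, 7, 9, 8, 9, 7, 9, 12, 10, 11, 10, 12, 10, 11, 8, 9]) (.leaf 2 13 [8, 9, 7, 9, 7, 9, 7, 9, 8, 9, 12, 9, 7, 9, 7, 9, 7, 9, 7, 9, 7, 9, 7, 9]))) (.node 67 (.node 66 (.leaf 19 1 [7, 9, 7, 9, 7, 9, 8, 9, 7, 9, 7, 9, 8, 9, 8, 9, 7, 9, 8, 9, 8, 9, 8, 9, 12, 10, 11, 9]) (.leaf 15 19 [9, 8, 9, 7, 10, 12, 10, 11, 10, 8, 9, 7, 9, 7, 9, 8, 9, 8, 9, 7, 9, 8, 9, 7, 9, 7, 9, 8])) (.node 68 (.leaf 18 21 [8, 9, 7, 9, 10, 12, 10, 11, 10, 9, 8, 9, 7, 9, 7, 9, 8, 9, 8, 9, 7, 9, 8, 9, 7, 9, 7, 9, 8, 9]) (.leaf 13 28 [12, 8, 9, 8, 9, 7, 9, 8, 9, 7, 9, 8, 9, 7, 9, 7, 9, 8, 9, 7, 9, 7, 9, 7, 12, 12, 10, 11, 10])))) (.node 73 (.node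 71 (.node 70 (.leaf 21 21 [9, 8, 9, 7, 9, 10, 11, 10, 12, 10, 8, 9, 7, 9, 7, 9, 8, 9, 7, 9, 8, 9, 8, 9, 8, 9, 7, 9, 8, 9, 8]) (.leaf 17 7 [9, 7, 9, 8, 9, 7, 9, 7, 9, 8, 9, 8, 9, 8, 9, 7, 9, 7, 11, 10, 12, 10, 11, 11, 10, 8, 9, 7, 9, 8, 9, 7])) (.node 72 (.leaf 21 29 [12, 10, 8, 9, 7, 9, 7, 9, 8, 9, 7, 9, 8, 9, 8, 9, 8, 9, 7, 9, 8, 9, 8, 9, 8, 9, 7, 9, 10, 11, 10]) (.leaf 5 5 [9, 7, 9, 7, 9, 7, 9, 7, 9, 7, 9, 7, 9, 7, 9, 7, 9, 7, 9, 7, 9, 7, 9, 7, 9, 7, 9, 7, 9, 7]))) (.node 75 (.node 74 (.leaf 17 4 [8, 9, 7, 9, 7, 9, 8, 9, 7, 9, 7, 9, 8, 9, 8, 9, 8, 9, 7, 9, 7, 11, 10, 12, 10, 11, 11, 10, 8, 9, 7, 9]) (.leaf 18 26 [12, 10, 11, 10, 9, 8, 9, 7, 9, 7, 9, 8, 9, 8, 9, 7, 9, 8, 9, 7, 9, 7,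 9, 8, 9, 8, 9, 7, 9, 10])) (.node 76 (.leaf 25 24 [9, 8, 9, 12, 10, 11, 10, 12, 9, 7, 9, 7, 9, 8, 9, 8, 9, 8, 9, 7, 9, 7, 9, 8, 9, 7, 9, 7, 9, 7, 9, 8]) (.leaf 2 18 [9, 7, 9, 8, 9, 12, 9, 7, 9, 7, 9, 7, 9, 7, 9, 7, 9, 7, 9, 8, 9, 7, 9, 7]))))) (.node 85 (.node 81 (.node 79 (.node 78 (.leaf 10 19 [11, 11, 10, 12, 10, 11, 10, 9, 8, 9, 8, 9, 8, 9, 8, 9, 7, 9, 8, 9, 7, 9, 8, 9, 8, 9]) (.leaf 13 18 [7, 9, 7, 9, 7, 12, 12, 10, 11, 10, 12, 8, 9, 8, 9, 7, 9, 8, 9, 7, 9, 8, 9, 7, 9, 7, 9, 8, 9])) (.node 80 (.leaf 15 12 [8, 9, 7, 9, 7, 9, 8, 9, 8, 9, 7, 10, 12, 10, 11, 10, 8, 9, 7, 9, 7, 9, 8, 9, 8, 9, 7, 9]) (.leaf 2 9 [7, 9, 7, 9, 8, 9, 7, 9, 7, 9, 7, 9, 8, 9, 12, 9, 7, 9, 7, 9, 7, 9, 7, 9])))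 (.node 83 (.node 82 (.leaf 13 10 [8, 9, 7, 9, 7, 9, 8, 9, 7, 9, 7, 9, 7, 12, 12, 10, 11, 10, 12, 8, 9, 8, 9, 7, 9, 8, 9, 7, 9]) (.leaf 14 30 [12, 9, 8, 9, 7, 9, 8, 9, 8, 9, 8, 9, 7, 9, 7, 9, 7, 9, 7, 9, 8, 9, 8, 9, 12, 12, 10, 11, 11, 10, 12])) (.node 84 (.leaf 19 5 [7, 9, 8, 9, 7, 9, 7, 9, 8, 9, 8, 9, 7, 9, 8, 9, 8, 9, 8, 9, 12, 10, 11, 9, 7, 9, 7, 9]) (.leaf 21 25 [9, 10, 11, 10, 12, 10, 8, 9, 7, 9, 7, 9, 8, 9, 7, 9, 8, 9, 8, 9, 8, 9, 7, 9, 8, 9, 8, 9, 8, 9, 7])))) (.node 89 (.node 87 (.node 86 (.leaf 25 27 [12, 10, 11, 10, 12, 9, 7, 9, 7, 9, 8, 9, 8, 9, 8, 9, 7, 9, 7, 9, 8, 9, 7, 9, 7, 9, 7, 9, 8, 9, 8, 9]) (.leaf 9 5 [8, 8, 9, 8, 8, 8, 9, 8])) (.node 88 (.leaf 11 1 [9, 7, 9, 7, 9,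 7, 9, 7, 9, 8, 9, 8, 9, 8, 9, 7, 9, 7, 9, 8, 9, 11, 11, 10, 12, 12, 10, 11, 11, 8]) (.leaf 12 12 [9, 7, 9, 7, 9, 8, 9, 7, 9, 7, 12, 12, 10, 11, 11, 10, 12, 9, 8, 9, 7, 9, 8, 9, 8, 9, 7, 9, 8]))) (.node 91 (.node 90 (.leaf 19 6 [9, 8, 9, 7, 9, 7, 9, 8, 9, 8, 9, 7, 9, 8, 9, 8, 9, 8, 9, 12, 10, 11, 9, 7, 9, 7, 9, 7]) (.leaf 11 22 [11, 11, 10, 12, 12, 10, 11, 11, 8, 9, 7, 9, 7, 9, 7, 9, 7, 9, 8, 9, 8, 9, 8, 9, 7, 9, 7, 9, 8, 9])) (.node 92 (.leaf 16 24 [11, 11, 11, 11, 9, 7, 9, 8, 9, 7, 9, 8, 9, 8, 9, 7, 9, 7, 9, 7, 9, 8, 9, 8, 9, 7, 9, 7]) (.leaf 22 16 [7, 9, 8, 9, 7, 9, 8, 9, 7, 9, 12, 10, 11, 10, 12, 10, 11, 8, 9, 7, 9, 8, 9, 7, 9, 7, 9, 7, 9, 8, 9, 7, 9])))))) (.node 108 (.node 100 (.node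 96 (.node 94 (.leaf 21 26 [10, 11, 10, 12, 10, 8, 9, 7, 9, 7, 9, 8, 9, 7, 9, 8, 9, 8, 9, 8, 9, 7, 9, 8, 9, 8, 9, 8, 9, 7, 9]) (.node 95 (.leaf 14 10 [9, 7, 9, 7, 9, 7, 9, 7, 9, 8, 9, 8, 9, 12, 12, 10, 11, 11, 10, 12, 12, 9, 8, 9, 7, 9, 8, 9, 8, 9, 8]) (.leaf 2 14 [9, 7, 9, 7, 9, 7, 9, 8, 9, 12, 9, 7, 9, 7, 9, 7, 9, 7, 9, 7, 9, 7, 9, 8]))) (.node 98 (.node 97 (.leaf 21 30 [10, 8, 9, 7, 9, 7, 9, 8, 9, 7, 9, 8, 9, 8, 9, 8, 9, 7, 9, 8, 9, 8, 9, 8, 9, 7, 9, 10, 11, 10, 12]) (.leaf 10 10 [9, 8, 9, 7, 9, 8, 9, 8, 9, 11, 11, 10, 12, 10, 11, 10, 9, 8, 9, 8, 9, 8, 9, 8, 9, 7])) (.node 99 (.leaf 15 23 [10, 12, 10, 11, 10, 8, 9, 7, 9, 7, 9, 8, 9, 8, 9, 7, 9, 8, 9, 7, 9, 7, 9, 8, 9, 8, 9, 7]) (.leaf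 17 29 [11, 11, 10, 8, 9, 7, 9, 8, 9, 7, 9, 7, 9, 8, 9, 7, 9, 7, 9, 8, 9, 8, 9, 8, 9, 7, 9, 7, 11, 10, 12, 10])))) (.node 104 (.node 102 (.node 101 (.leaf 20 27 [12, 12, 12, 12, 8, 9, 7, 9, 8, 9, 8, 9, 7, 9, 7, 9, 7, 9, 7, 9, 7, 9, 8, 9, 8, 9, 8, 9, 7, 9, 10]) (.leaf 2 3 [7, 9, 7, 9, 7, 9, 7, 9, 7, 9, 8, 9, 7, 9, 7, 9, 7, 9, 8, 9, 12, 9, 7, 9])) (.node 103 (.leaf 4 2 [8, 8, 8]) (.leaf 13 23 [12, 12, 10, 11, 10, 12, 8, 9, 8, 9, 7, 9, 8, 9, 7, 9, 8, 9, 7, 9, 7, 9, 8, 9, 7, 9, 7, 9, 7]))) (.node 106 (.node 105 (.leaf 22 18 [8, 9, 7, 9, 8, 9, 7, 9, 12, 10, 11, 10, 12, 10, 11, 8, 9, 7, 9, 8, 9, 7, 9, 7, 9, 7, 9, 8, 9, 7, 9, 7, 9]) (.leaf 5 20 [7, 9, 7, 9, 7, 9, 7, 9, 7, 9, 7, 9, 7, 9, 7, 9,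 7, 9, 7, 9, 7, 9, 7, 9, 7, 9, 7, 9, 7, 9])) (.node 107 (.leaf 23 33 [11, 10, 12, 8, 9, 7, 9, 7, 9, 7, 9, 8, 9, 8, 9, 8, 9, 7, 9, 7, 9, 7, 9, 8, 9, 8, 9, 8, 9, 7, 11, 10, 12, 12, 10, 11]) (.leaf 25 6 [9, 8, 9, 8, 9, 7, 9, 7, 9, 8, 9, 7, 9, 7, 9, 7, 9, 8, 9, 8, 9, 12, 10, 11, 10, 12, 9, 7, 9, 7, 9, 8]))))) (.node 116 (.node 112 (.node 110 (.node 109 (.leaf 12 21 [7, 12, 12, 10, 11, 11, 10, 12, 9, 8, 9, 7, 9, 8, 9, 8, 9, 7, 9, 8, 9, 7, 9, 7, 9, 8, 9, 7, 9]) (.leaf 14 23 [12, 12, 10, 11, 11, 10, 12, 12, 9, 8, 9, 7, 9, 8, 9, 8, 9, 8, 9, 7, 9, 7, 9, 7, 9, 7, 9, 8, 9, 8, 9])) (.node 111 (.leaf 17 20 [8, 9, 7, 9, 7, 11, 10, 12, 10, 11, 11, 10, 8, 9, 7, 9, 8, 9, 7, 9, 7, 9, 8, 9, 7, 9, 7, 9, 8,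 9, 8, 9]) (.leaf 18 19 [8, 9, 8, 9, 7, 9, 10, 12, 10, 11, 10, 9, 8, 9, 7, 9, 7, 9, 8, 9, 8, 9, 7, 9, 8, 9, 7, 9, 7, 9]))) (.node 114 (.node 113 (.leaf 19 13 [8, 9, 8, 9, 7, 9, 8, 9, 8, 9, 8, 9, 12, 10, 11, 9, 7, 9, 7, 9, 7, 9, 8, 9, 7, 9, 7, 9]) (.leaf 7 4 [7, 7, 7, 9, 7, 7, 7, 9])) (.node 115 (.leaf 12 17 [8, 9, 7, 9, 7, 12, 12, 10, 11, 11, 10, 12, 9, 8, 9, 7, 9, 8, 9, 8, 9, 7, 9, 8, 9, 7, 9, 7, 9]) (.leaf 2 6 [9, 7, 9, 7, 9, 7, 9, 8, 9, 7, 9, 7, 9, 7, 9, 8, 9, 12, 9, 7, 9, 7, 9, 7])))) (.node 120 (.node 118 (.node 117 (.leaf 16 25 [11, 11, 11, 9, 7, 9, 8, 9, 7, 9, 8, 9, 8, 9, 7, 9, 7, 9, 7, 9, 8, 9, 8, 9, 7, 9, 7, 11]) (.leaf 25 18 [9, 7, 9, 7, 9, 8, 9, 8, 9, 12, 10, 11, 10, 12, 9,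 7, 9, 7, 9, 8, 9, 8, 9, 8, 9, 7, 9, 7, 9, 8, 9, 7])) (.node 119 (.leaf 17 6 [7, 9, 7, 9, 8, 9, 7, 9, 7, 9, 8, 9, 8, 9, 8, 9, 7, 9, 7, 11, 10, 12, 10, 11, 11, 10, 8, 9, 7, 9, 8, 9]) (.leaf 16 26 [11, 11, 9, 7, 9, 8, 9, 7, 9, 8, 9, 8, 9, 7, 9, 7, 9, 7, 9, 8, 9, 8, 9, 7, 9, 7, 11, 11]))) (.node 122 (.node 121 (.leaf 12 28 [12, 9, 8, 9, 7, 9, 8, 9, 8, 9, 7, 9, 8, 9, 7, 9, 7, 9, 8, 9, 7, 9, 7, 12, 12, 10, 11, 11, 10]) (.leaf 22 17 [9, 8, 9, 7, 9, 8, 9, 7, 9, 12, 10, 11, 10, 12, 10, 11, 8, 9, 7, 9, 8, 9, 7, 9, 7, 9, 7, 9, 8, 9, 7, 9, 7])) (.node 123 (.leaf 2 15 [7, 9, 7, 9, 7, 9, 8, 9, 12, 9, 7, 9, 7, 9, 7, 9, 7, 9, 7, 9, 7, 9, 8, 9]) (.leaf 12 16 [9, 8, 9, 7, 9, 7, 12, 12, 10, 11, 11, 10,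 12, 9, 8, 9, 7, 9, 8, 9, 8, 9, 7, 9, 8, 9, 7, 9, 7])))))))) (.node 186 (.node 155 (.node 139 (.node 131 (.node 127 (.node 125 (.leaf 21 10 [8, 9, 8, 9, 8, 9, 7, 9, 8, 9, 8, 9, 8, 9, 7, 9, 10, 11, 10, 12, 10, 8, 9, 7, 9, 7, 9, 8, 9, 7, 9]) (.node 126 (.leaf 2 8 [9, 7, 9, 7, 9, 8, 9, 7, 9, 7, 9, 7, 9, 8, 9, 12, 9, 7, 9, 7, 9, 7, 9, 7]) (.leaf 11 9 [9, 8, 9, 8, 9, 8, 9, 7, 9, 7, 9, 8, 9, 11, 11, 10, 12, 12, 10, 11, 11, 8, 9, 7, 9, 7, 9, 7, 9, 7]))) (.node 129 (.node 128 (.leaf 10 20 [11, 10, 12, 10, 11, 10, 9, 8, 9, 8, 9, 8, 9, 8, 9, 7, 9, 8, 9, 7, 9, 8, 9, 8, 9, 11]) (.leaf 8 14 [8, 9, 7, 9, 8, 9, 7, 9, 8, 9, 7, 9, 8, 9, 7, 9, 8, 9, 7, 9, 8, 9, 7, 9, 8, 9, 7, 9, 8, 9, 7, 9, 8, 9, 7, 9,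 8, 9, 7, 9])) (.node 130 (.leaf 15 17 [9, 8, 9, 8, 9, 7, 10, 12, 10, 11, 10, 8, 9, 7, 9, 7, 9, 8, 9, 8, 9, 7, 9, 8, 9, 7, 9, 7]) (.leaf 16 27 [11, 9, 7, 9, 8, 9, 7, 9, 8, 9, 8, 9, 7, 9, 7, 9, 7, 9, 8, 9, 8, 9, 7, 9, 7, 11, 11, 11])))) (.node 135 (.node 133 (.node 132 (.leaf 16 2 [9, 8, 9, 7, 9, 8, 9, 8, 9, 7, 9, 7, 9, 7, 9, 8, 9, 8, 9, 7, 9, 7, 11, 11, 11, 11, 9, 7]) (.leaf 24 27 [11, 11, 10, 12, 10, 11, 10, 12, 12, 8, 9, 7, 9, 7, 9, 8, 9, 8, 9, 8, 9, 8, 9, 7, 9, 7, 9, 7, 9, 7, 9, 8, 9, 8, 9, 7])) (.node 134 (.leaf 11 13 [9, 8, 9, 7, 9, 7, 9, 8, 9, 11, 11, 10, 12, 12, 10, 11, 11, 8, 9, 7, 9, 7, 9, 7, 9, 7, 9, 8, 9, 8]) (.leaf 22 28 [11, 10, 12, 10, 11, 8, 9, 7, 9, 8, 9, 7, 9, 7, 9, 7,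 9, 8, 9, 7, 9, 7, 9, 8, 9, 7, 9, 8, 9, 7, 9, 12, 10]))) (.node 137 (.node 136 (.leaf 24 35 [12, 8, 9, 7, 9, 7, 9, 8, 9, 8, 9, 8, 9, 8, 9, 7, 9, 7, 9, 7, 9, 7, 9, 8, 9, 8, 9, 7, 11, 11, 10, 12, 10, 11, 10, 12]) (.leaf 20 30 [12, 8, 9, 7, 9, 8, 9, 8, 9, 7, 9, 7, 9, 7, 9, 7, 9, 7, 9, 8, 9, 8, 9, 8, 9, 7, 9, 10, 12, 12, 12])) (.node 138 (.leaf 10 22 [12, 10, 11, 10, 9, 8, 9, 8, 9, 8, 9, 8, 9, 7, 9, 8, 9, 7, 9, 8, 9, 8, 9, 11, 11, 10]) (.leaf 11 8 [7, 9, 8, 9, 8, 9, 8, 9, 7, 9, 7, 9, 8, 9, 11, 11, 10, 12, 12, 10, 11, 11, 8, 9, 7, 9, 7, 9, 7, 9]))))) (.node 147 (.node 143 (.node 141 (.node 140 (.leaf 17 30 [11, 10, 8, 9, 7, 9, 8, 9, 7, 9, 7, 9, 8, 9, 7, 9, 7, 9, 8, 9, 8, 9, 8, 9, 7, 9, 7, 11,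 10, 12, 10, 11]) (.leaf 5 11 [9, 7, 9, 7, 9, 7, 9, 7, 9, 7, 9, 7, 9, 7, 9, 7, 9, 7, 9, 7, 9, 7, 9, 7, 9, 7, 9, 7, 9, 7])) (.node 142 (.leaf 7 0 [7, 7, 7, 9, 7, 7, 7, 9]) (.leaf 19 18 [9, 8, 9, 8, 9, 8, 9, 12, 10, 11, 9, 7, 9, 7, 9, 7, 9, 8, 9, 7, 9, 7, 9, 8, 9, 8, 9, 7]))) (.node 145 (.node 144 (.leaf 20 10 [7, 9, 7, 9, 7, 9, 7, 9, 8, 9, 8, 9, 8, 9, 7, 9, 10, 12, 12, 12, 12, 8, 9, 7, 9, 8, 9, 8, 9, 7, 9]) (.leaf 17 22 [7, 9, 7, 11, 10, 12, 10, 11, 11, 10, 8, 9, 7, 9, 8, 9, 7, 9, 7, 9, 8, 9, 7, 9, 7, 9, 8, 9, 8, 9, 8, 9])) (.node 146 (.leaf 7 6 [7, 9, 7, 7, 7, 9, 7, 7]) (.leaf 18 1 [8, 9, 7, 9, 7, 9, 8, 9, 8, 9, 7, 9, 8, 9, 7, 9, 7, 9, 8, 9, 8, 9, 7, 9, 10, 12, 10, 11, 10, 9])))) (.node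 151 (.node 149 (.node 148 (.leaf 6 2 [8, 9, 8, 9, 8, 9, 8, 9, 8, 9, 8, 9, 8, 9, 8, 9, 8, 9, 8, 9, 8, 9, 8, 9, 8, 9, 8, 9, 8, 9]) (.leaf 16 21 [7, 9, 7, 11, 11, 11, 11, 9, 7, 9, 8, 9, 7, 9, 8, 9, 8, 9, 7, 9, 7, 9, 7, 9, 8, 9, 8, 9])) (.node 150 (.leaf 17 8 [7, 9, 8, 9, 7, 9, 7, 9, 8, 9, 8, 9, 8, 9, 7, 9, 7, 11, 10, 12, 10, 11, 11, 10, 8, 9, 7, 9, 8, 9, 7, 9]) (.leaf 11 10 [8, 9, 8, 9, 8, 9, 7, 9, 7, 9, 8, 9, 11, 11, 10, 12, 12, 10, 11, 11, 8, 9, 7, 9, 7, 9, 7, 9, 7, 9]))) (.node 153 (.node 152 (.leaf 14 17 [7, 9, 8, 9, 8, 9, 12, 12, 10, 11, 11, 10, 12, 12, 9, 8, 9, 7, 9, 8, 9, 8, 9, 8, 9, 7, 9, 7, 9, 7, 9]) (.leaf 20 26 [10, 12, 12, 12, 12, 8, 9, 7, 9, 8, 9, 8, 9, 7, 9, 7, 9, 7, 9, 7,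 9, 7, 9, 8, 9, 8, 9, 8, 9, 7, 9])) (.node 154 (.leaf 12 8 [9, 7, 9, 8, 9, 7, 9, 7, 9, 8, 9, 7, 9, 7, 12, 12, 10, 11, 11, 10, 12, 9, 8, 9, 7, 9, 8, 9, 8]) (.leaf 12 25 [11, 11, 10, 12, 9, 8, 9, 7, 9, 8, 9, 8, 9, 7, 9, 8, 9, 7, 9, 7, 9, 8, 9, 7, 9, 7, 12, 12, 10])))))) (.node 170 (.node 162 (.node 158 (.node 156 (.leaf 5 12 [7, 9, 7, 9, 7, 9, 7, 9, 7, 9, 7, 9, 7, 9, 7, 9, 7, 9, 7, 9, 7, 9, 7, 9, 7, 9, 7, 9, 7, 9]) (.node 157 (.leaf 8 10 [8, 9, 7, 9, 8, 9, 7, 9, 8, 9, 7, 9, 8, 9, 7, 9, 8, 9, 7, 9, 8, 9, 7, 9, 8, 9, 7, 9, 8, 9, 7, 9, 8, 9, 7, 9, 8, 9, 7, 9]) (.leaf 20 20 [8, 9, 8, 9, 7, 9, 10, 12, 12, 12, 12, 8, 9, 7, 9, 8, 9, 8, 9, 7, 9, 7, 9, 7, 9, 7, 9, 7, 9, 8, 9]))) (.node 160 (.node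 159 (.leaf 10 24 [11, 10, 9, 8, 9, 8, 9, 8, 9, 8, 9, 7, 9, 8, 9, 7, 9, 8, 9, 8, 9, 11, 11, 10, 12, 10]) (.leaf 15 27 [10, 8, 9, 7, 9, 7, 9, 8, 9, 8, 9, 7, 9, 8, 9, 7, 9, 7, 9, 8, 9, 8, 9, 7, 10, 12, 10, 11])) (.node 161 (.leaf 17 10 [8, 9, 7, 9, 7, 9, 8, 9, 8, 9, 8, 9, 7, 9, 7, 11, 10, 12, 10, 11, 11, 10, 8, 9, 7, 9, 8, 9, 7, 9, 7, 9]) (.leaf 20 25 [9, 10, 12, 12, 12, 12, 8, 9, 7, 9, 8, 9, 8, 9, 7, 9, 7, 9, 7, 9, 7, 9, 7, 9, 8, 9, 8, 9, 8, 9, 7])))) (.node 166 (.node 164 (.node 163 (.leaf 13 16 [8, 9, 7, 9, 7, 9, 7, 12, 12, 10, 11, 10, 12, 8, 9, 8, 9, 7, 9, 8, 9, 7, 9, 8, 9, 7, 9, 7, 9]) (.leaf 2 7 [7, 9, 7, 9, 7, 9, 8, 9, 7, 9, 7, 9, 7, 9, 8, 9, 12, 9, 7, 9, 7, 9, 7, 9])) (.node 165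 (.leaf 18 25 [10, 12, 10, 11, 10, 9, 8, 9, 7, 9, 7, 9, 8, 9, 8, 9, 7, 9, 8, 9, 7, 9, 7, 9, 8, 9, 8, 9, 7, 9]) (.leaf 22 19 [9, 7, 9, 8, 9, 7, 9, 12, 10, 11, 10, 12, 10, 11, 8, 9, 7, 9, 8, 9, 7, 9, 7, 9, 7, 9, 8, 9, 7, 9, 7, 9, 8]))) (.node 168 (.node 167 (.leaf 10 18 [9, 11, 11, 10, 12, 10, 11, 10, 9, 8, 9, 8, 9, 8, 9, 8, 9, 7, 9, 8, 9, 7, 9, 8, 9, 8]) (.leaf 17 1 [9, 7, 9, 8, 9, 7, 9, 7, 9, 8, 9, 7, 9, 7, 9, 8, 9, 8, 9, 8, 9, 7, 9, 7, 11, 10, 12, 10, 11, 11, 10, 8])) (.node 169 (.leaf 13 25 [10, 11, 10, 12, 8, 9, 8, 9, 7, 9, 8, 9, 7, 9, 8, 9, 7, 9, 7, 9, 8, 9, 7, 9, 7, 9, 7, 12, 12]) (.leaf 23 27 [11, 10, 12, 12, 10, 11, 11, 10, 12, 8, 9, 7, 9, 7, 9, 7, 9, 8, 9, 8, 9, 8, 9, 7, 9, 7,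 9, 7, 9, 8, 9, 8, 9, 8, 9, 7]))))) (.node 178 (.node 174 (.node 172 (.node 171 (.leaf 10 6 [9, 8, 9, 7, 9, 8, 9, 7, 9, 8, 9, 8, 9, 11, 11, 10, 12, 10, 11, 10, 9, 8, 9, 8, 9, 8]) (.leaf 13 12 [7, 9, 7, 9, 8, 9, 7, 9, 7, 9, 7, 12, 12, 10, 11, 10, 12, 8, 9, 8, 9, 7, 9, 8, 9, 7, 9, 8, 9])) (.node 173 (.leaf 16 8 [9, 8, 9, 7, 9, 7, 9, 7, 9, 8, 9, 8, 9, 7, 9, 7, 11, 11, 11, 11, 9, 7, 9, 8, 9, 7, 9, 8]) (.leaf 25 15 [8, 9, 7, 9, 7, 9, 7, 9, 8, 9, 8, 9, 12, 10, 11, 10, 12, 9, 7, 9, 7, 9, 8, 9, 8, 9, 8, 9, 7, 9, 7, 9]))) (.node 176 (.node 175 (.leaf 25 1 [7, 9, 7, 9, 8, 9, 8, 9, 8, 9, 7, 9, 7, 9, 8, 9, 7, 9, 7, 9, 7, 9, 8, 9, 8, 9, 12, 10, 11, 10, 12, 9]) (.leaf 20 29 [12, 12, 8, 9, 7, 9, 8, 9,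 8, 9, 7, 9, 7, 9, 7, 9, 7, 9, 7, 9, 8, 9, 8, 9, 8, 9, 7, 9, 10, 12, 12])) (.node 177 (.leaf 14 25 [10, 11, 11, 10, 12, 12, 9, 8, 9, 7, 9, 8, 9, 8, 9, 8, 9, 7, 9, 7, 9, 7, 9, 7, 9, 8, 9, 8, 9, 12, 12]) (.leaf 6 4 [8, 9, 8, 9, 8, 9, 8, 9, 8, 9, 8, 9, 8, 9, 8, 9, 8, 9, 8, 9, 8, 9, 8, 9, 8, 9, 8, 9, 8, 9])))) (.node 182 (.node 180 (.node 179 (.leaf 12 26 [11, 10, 12, 9, 8, 9, 7, 9, 8, 9, 8, 9, 7, 9, 8, 9, 7, 9, 7, 9, 8, 9, 7, 9, 7, 12, 12, 10, 11]) (.leaf 13 26 [11, 10, 12, 8, 9, 8, 9, 7, 9, 8, 9, 7, 9, 8, 9, 7, 9, 7, 9, 8, 9, 7, 9, 7, 9, 7, 12, 12, 10])) (.node 181 (.leaf 19 11 [7, 9, 8, 9, 8, 9, 7, 9, 8, 9, 8, 9, 8, 9, 12, 10, 11, 9, 7, 9, 7, 9, 7, 9, 8, 9, 7, 9]) (.leaf 21 7 [9, 7, 9,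 8, 9, 8, 9, 8, 9, 7, 9, 8, 9, 8, 9, 8, 9, 7, 9, 10, 11, 10, 12, 10, 8, 9, 7, 9, 7, 9, 8]))) (.node 184 (.node 183 (.leaf 22 30 [12, 10, 11, 8, 9, 7, 9, 8, 9, 7, 9, 7, 9, 7, 9, 8, 9, 7, 9, 7, 9, 8, 9, 7, 9, 8, 9, 7, 9, 12, 10, 11, 10]) (.leaf 22 11 [9, 8, 9, 7, 9, 7, 9, 8, 9, 7, 9, 8, 9, 7, 9, 12, 10, 11, 10, 12, 10, 11, 8, 9, 7, 9, 8, 9, 7, 9, 7, 9, 7])) (.node 185 (.leaf 25 21 [7, 9, 8, 9, 8, 9, 12, 10, 11, 10, 12, 9, 7, 9, 7, 9, 8, 9, 8, 9, 8, 9, 7, 9, 7, 9, 8, 9, 7, 9, 7, 9]) (.leaf 22 5 [9, 7, 9, 7, 9, 7, 9, 8, 9, 7, 9, 7, 9, 8, 9, 7, 9, 8, 9, 7, 9, 12, 10, 11, 10, 12, 10, 11, 8, 9, 7, 9, 8]))))))) (.node 217 (.node 201 (.node 193 (.node 189 (.node 187 (.leaf 15 10 [7, 9, 8, 9, 7,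 9, 7, 9, 8, 9, 8, 9, 7, 10, 12, 10, 11, 10, 8, 9, 7, 9, 7, 9, 8, 9, 8, 9]) (.node 188 (.leaf 21 9 [9, 8, 9, 8, 9, 8, 9, 7, 9, 8, 9, 8, 9, 8, 9, 7, 9, 10, 11, 10, 12, 10, 8, 9, 7, 9, 7, 9, 8, 9, 7]) (.leaf 22 1 [9, 7, 9, 8, 9, 7, 9, 7, 9, 7, 9, 8, 9, 7, 9, 7, 9, 8, 9, 7, 9, 8, 9, 7, 9, 12, 10, 11, 10, 12, 10, 11, 8]))) (.node 191 (.node 190 (.leaf 2 12 [9, 8, 9, 7, 9, 7, 9, 7, 9, 8, 9, 12, 9, 7, 9, 7, 9, 7, 9, 7, 9, 7, 9, 7]) (.leaf 5 13 [9, 7, 9, 7, 9, 7, 9, 7, 9, 7, 9, 7, 9, 7, 9, 7, 9, 7, 9, 7, 9, 7, 9, 7, 9, 7, 9, 7, 9, 7])) (.node 192 (.leaf 22 6 [7, 9, 7, 9, 7, 9, 8, 9, 7, 9, 7, 9, 8, 9, 7, 9, 8, 9, 7, 9, 12, 10, 11, 10, 12, 10, 11, 8, 9, 7, 9, 8, 9]) (.leaf 12 23 [12, 10, 11, 11,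 10, 12, 9, 8, 9, 7, 9, 8, 9, 8, 9, 7, 9, 8, 9, 7, 9, 7, 9, 8, 9, 7, 9, 7, 12])))) (.node 197 (.node 195 (.node 194 (.leaf 10 13 [7, 9, 8, 9, 8, 9, 11, 11, 10, 12, 10, 11, 10, 9, 8, 9, 8, 9, 8, 9, 8, 9, 7, 9, 8, 9]) (.leaf 23 0 [8, 9, 7, 9, 7, 9, 7, 9, 8, 9, 8, 9, 8, 9, 7, 9, 7, 9, 7, 9, 8, 9, 8, 9, 8, 9, 7, 11, 10, 12, 12, 10, 11, 11, 10, 12])) (.node 196 (.leaf 24 22 [8, 9, 8, 9, 7, 11, 11, 10, 12, 10, 11, 10, 12, 12, 8, 9, 7, 9, 7, 9, 8, 9, 8, 9, 8, 9, 8, 9, 7, 9, 7, 9, 7, 9, 7, 9]) (.leaf 10 12 [9, 7, 9, 8, 9, 8, 9, 11, 11, 10, 12, 10, 11, 10, 9, 8, 9, 8, 9, 8, 9, 8, 9, 7, 9, 8]))) (.node 199 (.node 198 (.leaf 23 35 [12, 8, 9, 7, 9, 7, 9, 7, 9, 8, 9, 8, 9, 8, 9, 7, 9, 7, 9, 7, 9, 8,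 9, 8, 9, 8, 9, 7, 11, 10, 12, 12, 10, 11, 11, 10]) (.leaf 25 11 [7, 9, 7, 9, 8, 9, 7, 9, 7, 9, 7, 9, 8, 9, 8, 9, 12, 10, 11, 10, 12, 9, 7, 9, 7, 9, 8, 9, 8, 9, 8, 9])) (.node 200 (.leaf 10 11 [8, 9, 7, 9, 8, 9, 8, 9, 11, 11, 10, 12, 10, 11, 10, 9, 8, 9, 8, 9, 8, 9, 8, 9, 7, 9]) (.leaf 23 10 [8, 9, 8, 9, 7, 9, 7, 9, 7, 9, 8, 9, 8, 9, 8, 9, 7, 11, 10, 12, 12, 10, 11, 11, 10, 12, 8, 9, 7, 9, 7, 9, 7, 9, 8, 9]))))) (.node 209 (.node 205 (.node 203 (.node 202 (.leaf 24 29 [10, 12, 10, 11, 10, 12, 12, 8, 9, 7, 9, 7, 9, 8, 9, 8, 9, 8, 9, 8, 9, 7, 9, 7, 9, 7, 9, 7, 9, 8, 9, 8, 9, 7, 11, 11]) (.leaf 24 5 [9, 8, 9, 8, 9, 8, 9, 8, 9, 7, 9, 7, 9, 7, 9, 7, 9, 8, 9, 8, 9, 7, 11, 11, 10, 12, 10, 11,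 10, 12, 12, 8, 9, 7, 9, 7])) (.node 204 (.leaf 25 28 [10, 11, 10, 12, 9, 7, 9, 7, 9, 8, 9, 8, 9, 8, 9, 7, 9, 7, 9, 8, 9, 7, 9, 7, 9, 7, 9, 8, 9, 8, 9, 12]) (.leaf 21 23 [9, 7, 9, 10, 11, 10, 12, 10, 8, 9, 7, 9, 7, 9, 8, 9, 7, 9, 8, 9, 8, 9, 8, 9, 7, 9, 8, 9, 8, 9, 8]))) (.node 207 (.node 206 (.leaf 12 9 [7, 9, 8, 9, 7, 9, 7, 9, 8, 9, 7, 9, 7, 12, 12, 10, 11, 11, 10, 12, 9, 8, 9, 7, 9, 8, 9, 8, 9]) (.leaf 13 6 [8, 9, 7, 9, 8, 9, 7, 9, 7, 9, 8, 9, 7, 9, 7, 9, 7, 12, 12, 10, 11, 10, 12, 8, 9, 8, 9, 7, 9])) (.node 208 (.leaf 11 18 [7, 9, 8, 9, 11, 11, 10, 12, 12, 10, 11, 11, 8, 9, 7, 9, 7, 9, 7, 9, 7, 9, 8, 9, 8, 9, 8, 9, 7, 9]) (.leaf 17 16 [8, 9, 8, 9, 8, 9, 7, 9, 7, 11, 10, 12, 10, 11,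 11, 10, 8, 9, 7, 9, 8, 9, 7, 9, 7, 9, 8, 9, 7, 9, 7, 9])))) (.node 213 (.node 211 (.node 210 (.leaf 20 4 [8, 9, 8, 9, 7, 9, 7, 9, 7, 9, 7, 9, 7, 9, 8, 9, 8, 9, 8, 9, 7, 9, 10, 12, 12, 12, 12, 8, 9, 7, 9]) (.leaf 16 1 [7, 9, 8, 9, 7, 9, 8, 9, 8, 9, 7, 9, 7, 9, 7, 9, 8, 9, 8, 9, 7, 9, 7, 11, 11, 11, 11, 9])) (.node 212 (.leaf 5 8 [7, 9, 7, 9, 7, 9, 7, 9, 7, 9, 7, 9, 7, 9, 7, 9, 7, 9, 7, 9, 7, 9, 7, 9, 7, 9, 7, 9, 7, 9]) (.leaf 6 16 [8, 9, 8, 9, 8, 9, 8, 9, 8, 9, 8, 9, 8, 9, 8, 9, 8, 9, 8, 9, 8, 9, 8, 9, 8, 9, 8, 9, 8, 9]))) (.node 215 (.node 214 (.leaf 12 15 [7, 9, 8, 9, 7, 9, 7, 12, 12, 10, 11, 11, 10, 12, 9, 8, 9, 7, 9, 8, 9, 8, 9, 7, 9, 8, 9, 7, 9]) (.leaf 24 24 [8, 9, 7, 11, 11, 10,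 12, 10, 11, 10, 12, 12, 8, 9, 7, 9, 7, 9, 8, 9, 8, 9, 8, 9, 8, 9, 7, 9, 7, 9, 7, 9, 7, 9, 8, 9])) (.node 216 (.leaf 14 27 [11, 10, 12, 12, 9, 8, 9, 7, 9, 8, 9, 8, 9, 8, 9, 7, 9, 7, 9, 7, 9, 7, 9, 8, 9, 8, 9, 12, 12, 10, 11]) (.leaf 21 8 [7, 9, 8, 9, 8, 9, 8, 9, 7, 9, 8, 9, 8, 9, 8, 9, 7, 9, 10, 11, 10, 12, 10, 8, 9, 7, 9, 7, 9, 8, 9])))))) (.node 233 (.node 225 (.node 221 (.node 219 (.node 218 (.leaf 11 24 [10, 12, 12, 10, 11, 11, 8, 9, 7, 9, 7, 9, 7, 9, 7, 9, 8, 9, 8, 9, 8, 9, 7, 9, 7, 9, 8, 9, 11, 11]) (.leaf 16 13 [7, 9, 7, 9, 8, 9, 8, 9, 7, 9, 7, 11, 11, 11, 11, 9, 7, 9, 8, 9, 7, 9, 8, 9, 8, 9, 7, 9])) (.node 220 (.leaf 23 14 [7, 9, 7, 9, 7, 9, 8, 9, 8, 9, 8, 9, 7, 11, 10, 12, 12,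 10, 11, 11, 10, 12, 8, 9, 7, 9, 7, 9, 7, 9, 8, 9, 8, 9, 8, 9]) (.leaf 11 2 [7, 9, 7, 9, 7, 9, 7, 9, 8, 9, 8, 9, 8, 9, 7, 9, 7, 9, 8, 9, 11, 11, 10, 12, 12, 10, 11, 11, 8, 9]))) (.node 223 (.node 222 (.leaf 16 17 [8, 9, 8, 9, 7, 9, 7, 11, 11, 11, 11, 9, 7, 9, 8, 9, 7, 9, 8, 9, 8, 9, 7, 9, 7, 9, 7, 9]) (.leaf 17 0 [8, 9, 7, 9, 8, 9, 7, 9, 7, 9, 8, 9, 7, 9, 7, 9, 8, 9, 8, 9, 8, 9, 7, 9, 7, 11, 10, 12, 10, 11, 11, 10])) (.node 224 (.leaf 14 13 [7, 9, 7, 9, 7, 9, 8, 9, 8, 9, 12, 12, 10, 11, 11, 10, 12, 12, 9, 8, 9, 7, 9, 8, 9, 8, 9, 8, 9, 7, 9]) (.leaf 20 11 [9, 7, 9, 7, 9, 7, 9, 8, 9, 8, 9, 8, 9, 7, 9, 10, 12, 12, 12, 12, 8, 9, 7, 9, 8, 9, 8, 9, 7, 9, 7])))) (.node 229 (.node 227 (.node 226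 (.leaf 25 14 [9, 8, 9, 7, 9, 7, 9, 7, 9, 8, 9, 8, 9, 12, 10, 11, 10, 12, 9, 7, 9, 7, 9, 8, 9, 8, 9, 8, 9, 7, 9, 7]) (.leaf 17 2 [7, 9, 8, 9, 7, 9, 7, 9, 8, 9, 7, 9, 7, 9, 8, 9, 8, 9, 8, 9, 7, 9, 7, 11, 10, 12, 10, 11, 11, 10, 8, 9])) (.node 228 (.leaf 23 26 [7, 11, 10, 12, 12, 10, 11, 11, 10, 12, 8, 9, 7, 9, 7, 9, 7, 9, 8, 9, 8, 9, 8, 9, 7, 9, 7, 9, 7, 9, 8, 9, 8, 9, 8, 9]) (.leaf 24 12 [8, 9, 7, 9, 7, 9, 7, 9, 7, 9, 8, 9, 8, 9, 7, 11, 11, 10, 12, 10, 11, 10, 12, 12, 8, 9, 7, 9, 7, 9, 8, 9, 8, 9, 8, 9]))) (.node 231 (.node 230 (.leaf 21 6 [8, 9, 7, 9, 8, 9, 8, 9, 8, 9, 7, 9, 8, 9, 8, 9, 8, 9, 7, 9, 10, 11, 10, 12, 10, 8, 9, 7, 9, 7, 9]) (.leaf 21 0 [8, 9, 7, 9, 7, 9, 8, 9, 7, 9, 8, 9,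 8, 9, 8, 9, 7, 9, 8, 9, 8, 9, 8, 9, 7, 9, 10, 11, 10, 12, 10])) (.node 232 (.leaf 10 5 [8, 9, 8, 9, 7, 9, 8, 9, 7, 9, 8, 9, 8, 9, 11, 11, 10, 12, 10, 11, 10, 9, 8, 9, 8, 9]) (.leaf 12 7 [8, 9, 7, 9, 8, 9, 7, 9, 7, 9, 8, 9, 7, 9, 7, 12, 12, 10, 11, 11, 10, 12, 9, 8, 9, 7, 9, 8, 9]))))) (.node 241 (.node 237 (.node 235 (.node 234 (.leaf 13 14 [7, 9, 8, 9, 7, 9, 7, 9, 7, 12, 12, 10, 11, 10, 12, 8, 9, 8, 9, 7, 9, 8, 9, 7, 9, 8, 9, 7, 9]) (.leaf 20 22 [8, 9, 7, 9, 10, 12, 12, 12, 12, 8, 9, 7, 9, 8, 9, 8, 9, 7, 9, 7, 9, 7, 9, 7, 9, 7, 9, 8, 9, 8, 9])) (.node 236 (.leaf 22 20 [7, 9, 8, 9, 7, 9, 12, 10, 11, 10, 12, 10, 11, 8, 9, 7, 9, 8, 9, 7, 9, 7, 9, 7, 9, 8, 9, 7, 9, 7, 9, 8, 9]) (.leaf 11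 6 [7, 9, 7, 9, 8, 9, 8, 9, 8, 9, 7, 9, 7, 9, 8, 9, 11, 11, 10, 12, 12, 10, 11, 11, 8, 9, 7, 9, 7, 9]))) (.node 239 (.node 238 (.leaf 12 0 [9, 8, 9, 7, 9, 8, 9, 8, 9, 7, 9, 8, 9, 7, 9, 7, 9, 8, 9, 7, 9, 7, 12, 12, 10, 11, 11, 10, 12]) (.leaf 19 3 [7, 9, 7, 9, 8, 9, 7, 9, 7, 9, 8, 9, 8, 9, 7, 9, 8, 9, 8, 9, 8, 9, 12, 10, 11, 9, 7, 9])) (.node 240 (.leaf 11 19 [9, 8, 9, 11, 11, 10, 12, 12, 10, 11, 11, 8, 9, 7, 9, 7, 9, 7, 9, 7, 9, 8, 9, 8, 9, 8, 9, 7, 9, 7]) (.leaf 24 20 [7, 9, 8, 9, 8, 9, 7, 11, 11, 10, 12, 10, 11, 10, 12, 12, 8, 9, 7, 9, 7, 9, 8, 9, 8, 9, 8, 9, 8, 9, 7, 9, 7, 9, 7, 9])))) (.node 245 (.node 243 (.node 242 (.leaf 14 3 [7, 9, 8, 9, 8, 9, 8, 9, 7, 9, 7, 9, 7, 9, 7, 9, 8, 9,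 8, 9, 12, 12, 10, 11, 11, 10, 12, 12, 9, 8, 9]) (.leaf 24 16 [7, 9, 7, 9, 7, 9, 8, 9, 8, 9, 7, 11, 11, 10, 12, 10, 11, 10, 12, 12, 8, 9, 7, 9, 7, 9, 8, 9, 8, 9, 8, 9, 8, 9, 7, 9])) (.node 244 (.leaf 24 8 [8, 9, 8, 9, 8, 9, 7, 9, 7, 9, 7, 9, 7, 9, 8, 9, 8, 9, 7, 11, 11, 10, 12, 10, 11, 10, 12, 12, 8, 9, 7, 9, 7, 9, 8, 9]) (.leaf 10 0 [9, 8, 9, 8, 9, 8, 9, 8, 9, 7, 9, 8, 9, 7, 9, 8, 9, 8, 9, 11, 11, 10, 12, 10, 11, 10]))) (.node 247 (.node 246 (.leaf 16 19 [8, 9, 7, 9, 7, 11, 11, 11, 11, 9, 7, 9, 8, 9, 7, 9, 8, 9, 8, 9, 7, 9, 7, 9, 7, 9, 8, 9]) (.leaf 16 18 [9, 8, 9, 7, 9, 7, 11, 11, 11, 11, 9, 7, 9, 8, 9, 7, 9, 8, 9, 8, 9, 7, 9, 7, 9, 7, 9, 8])) (.node 248 (.leaf 13 0 [8, 9, 8, 9, 7, 9,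 8, 9, 7, 9, 8, 9, 7, 9, 7, 9, 8, 9, 7, 9, 7, 9, 7, 12, 12, 10, 11, 10, 12]) (.leaf 10 15 [8, 9, 8, 9, 11, 11, 10, 12, 10, 11, 10, 9, 8, 9, 8, 9, 8, 9, 8, 9, 7, 9, 8, 9, 7, 9])))))))))

theorem b0 : allR (guardB 16 (blk fc sc rt.get Cfsg.Agent.Lib.Helper3.Suz.INV isH)) 4 0 = true := by decide +kernel
theorem c0 : allR (guardB 32 (cblk fc nc cc 4096 1024 79228162514264337593543950336 gens)) 5 0 = true := by decide +kernel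

theorem chkAll : ∀ j < 16, blk fc sc rt.get Cfsg.Agent.Lib.Helper3.Suz.INV isH j = true :=
  guardB_spec (D := 4) b0 (by norm_num)

theorem clAll : ∀ jb < 32, cblk fc nc cc (256 * 16) 1024 79228162514264337593543950336 gens jb = true :=
  guardB_spec (D := 5) c0 (by norm_num)

theorem card_eq : Nat.card (lgrp (vL Cfsg.Agent.Lib.Helper3.Suz.ntl Cfsg.Agent.Lib.Helper3.Suz.deg) gens) = 1024 * Nat.card (lgrp (vL Cfsg.Agent.Lib.Helper3.Suz.ntl Cfsg.Agent.Lib.Helper3.Suz.deg) hl) :=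
  Cfsg.Agent.Lib.Helper3.Suz.setup.level gens hl dl BR (by decide +kernel) (by decide +kernel) (by decide +kernel) (by decide +kernel)
    (by decide +kernel) rt (by decide +kernel) isH (fun l h => of_decide_eq_true h) fc sc nc cc 16 32 1024 79228162514264337593543950336
    (by norm_num) (by norm_num) (by decide +kernel) (by decide) chkAll clAll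
    2 2 16 (by norm_num [Cfsg.Agent.Lib.Helper3.Suz.deg]) (by norm_num [Cfsg.Agent.Lib.Helper3.Suz.deg]) (by decide +kernel) (by decide +kernel)

theorem ub {M : Type*} [Group M] (w : ℕ → M) (h0 : w 0 = 1) (hinv : ∀ l, w (invL Cfsg.Agent.Lib.Helper3.Suz.INV l) = (w l)⁻¹)
    (hBR : ∀ r ∈ BR, (r.map w).prod = 1)
    (hdlr : ∀ r ∈ dl.map (fun p => p.1 ++ [p.2]), (r.map w).prod = 1) (N : ℕ) (hN : Bd w hl N) :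
    Bd w gens (1024 * N) :=
  level_bd w Cfsg.Agent.Lib.Helper3.Suz.INV h0 hinv gens hl dl BR (by decide +kernel) hdlr hBR (by decide +kernel) (by decide +kernel)
    rt (by decide +kernel) isH (fun l h => of_decide_eq_true h) fc sc nc cc 16 32 1024 79228162514264337593543950336
    (by norm_num) (by norm_num) (by decide +kernel) (by decide) chkAll clAll N hN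

end Cfsg.Agent.Lib.Helper3.Suz.L3
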