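import Cfsg.Agent.Lib.Helper3.Suz.L4D
import Cfsg.Agent.Lib.Helper3.Suz.Net

set_option autoImplicit false
set_option maxRecDepth 100000

namespace Cfsg.Agent.Lib.Helper3.Suz.L4

open Cfsg.Agent.Lib.Helper11 Cfsg.Agent.Lib.Helper3

set_option maxHeartbeats 0

noncomputable def fc (i : ℕ) : ℕ := (fc0_0 i)
noncomputable def sc (i : ℕ) : ℕ := (sc0_0 i)
noncomputable def nc (i : ℕ) : ℕ := (nc0_0 i)
noncomputable def cc (i : ℕ) : ℕ := (cc0_0 i)

def isH (l : ℕ) : Bool := decide (l ∈ [])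
def gens : List ℕ := [10, 11]
def hl : List ℕ := []
def dl : List (List ℕ × ℕ) := [([11], 12)]
def BR : List (List ℕ) := [[], [11, 11, 11, 11, 11, 11, 11, 11, 11, 11, 11, 11, 11, 11, 11], [10, 11, 10, 11, 10, 11], [10, 12, 10, 12, 10, 12], [10, 11, 10, 12, 10, 11, 10, 12, 10, 11, 10, 12, 10, 11, 10, 12, 10, 11, 10, 12], [10, 11, 11, 11, 10, 11, 11, 11, 10, 11, 11, 11, 10, 11, 11, 11, 10, 11, 11, 11], [12, 12, 10, 11, 11, 11, 11, 11, 10, 12, 12, 12]]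
def rt : RT := (.node 9 (.node 4 (.node 2 (.node 1 (.leaf 0 0 []) (.leaf 2 3 [11, 10, 11, 10, 11, 10])) (.node 3 (.leaf 3 3 [12, 10, 12, 10, 12, 10]) (.leaf 1 7 [11, 11, 11, 11, 11, 11, 11, 11, 11, 11, 11, 11, 11, 11, 11]))) (.node 6 (.node 5 (.leaf 6 5 [11, 11, 11, 10, 12, 12, 12, 12, 12, 10, 11, 11]) (.leaf 6 6 [11, 11, 10, 12, 12, 12, 12, 12, 10, 11, 11, 11])) (.node 7 (.leaf 6 8 [10, 12, 12, 12, 12, 12, 10, 11, 11, 11, 11, 11]) (.node 8 (.leaf 6 0 [12, 12, 10, 11, 11, 11, 11, 11, 10, 12, 12, 12]) (.leaf 6 1 [12, 10, 11, 11, 11, 11, 11, 10, 12, 12, 12, 12]))))) (.node 14 (.node 11 (.node 10 (.leaf 6 2 [10, 11, 11, 11, 11, 11, 10, 12, 12, 12, 12, 12]) (.leaf 6 11 [12, 12, 12, 10, 11, 11, 11, 11, 11, 10, 12, 12])) (.node 12 (.leaf 6 4 [11, 11, 11, 11, 10, 12, 12, 12, 12, 12, 10, 11]) (.node 13 (.leaf 6 10 [12, 12, 12, 12, 10, 11, 11, 11, 11, 11, 10, 12]) (.leaf 6 3 [11, 11, 11, 11, 11, 10,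 12, 12, 12, 12, 12, 10])))) (.node 16 (.node 15 (.leaf 6 9 [12, 12, 12, 12, 12, 10, 11, 11, 11, 11, 11, 10]) (.leaf 6 7 [11, 10, 12, 12, 12, 12, 12, 10, 11, 11, 11, 11])) (.node 17 (.leaf 4 14 [10, 12, 10, 11, 10, 12, 10, 11, 10, 12, 10, 11, 10, 12, 10, 11, 10, 12, 10, 11]) (.node 18 (.leaf 5 12 [10, 11, 11, 11, 10, 11, 11, 11, 10, 11, 11, 11, 10, 11, 11, 11, 10, 11, 11, 11]) (.leaf 4 12 [10, 11, 10, 12, 10, 11, 10, 12, 10, 11, 10, 12, 10, 11, 10, 12, 10, 11, 10, 12]))))))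

theorem b0 : allR (guardB 3 (blk fc sc rt.get Cfsg.Agent.Lib.Helper3.Suz.INV isH)) 2 0 = true := by decide +kernel
theorem c0 : allR (guardB 6 (cblk fc nc cc 768 180 79228162514264337593543950336 gens)) 3 0 = true := by decide +kernel

theorem chkAll : ∀ j < 3, blk fc sc rt.get Cfsg.Agent.Lib.Helper3.Suz.INV isH j = true :=
  guardB_spec (D := 2) b0 (by norm_num)

theorem clAll : ∀ jb < 6, cblk fc nc cc (256 * 3) 180 79228162514264337593543950336 gens jb = true :=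
  guardB_spec (D := 3) c0 (by norm_num)

theorem card_eq : Nat.card (lgrp (vL Cfsg.Agent.Lib.Helper3.Suz.ntl Cfsg.Agent.Lib.Helper3.Suz.deg) gens) = 180 * Nat.card (lgrp (vL Cfsg.Agent.Lib.Helper3.Suz.ntl Cfsg.Agent.Lib.Helper3.Suz.deg) hl) :=
  Cfsg.Agent.Lib.Helper3.Suz.setup.level gens hl dl BR (by decide +kernel) (by decide +kernel) (by decide +kernel) (by decide +kernel)
    (by decide +kernel) rt (by decide +kernel) isH (fun l h => of_decide_eq_true h) fc sc nc cc 3 6 180 79228162514264337593543950336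
    (by norm_num) (by norm_num) (by decide +kernel) (by decide) chkAll clAll
    3 3 10 (by norm_num [Cfsg.Agent.Lib.Helper3.Suz.deg]) (by norm_num [Cfsg.Agent.Lib.Helper3.Suz.deg]) (by decide +kernel) (by decide +kernel)

theorem ub {M : Type*} [Group M] (w : ℕ → M) (h0 : w 0 = 1) (hinv : ∀ l, w (invL Cfsg.Agent.Lib.Helper3.Suz.INV l) = (w l)⁻¹)
    (hBR : ∀ r ∈ BR, (r.map w).prod = 1)
    (hdlr : ∀ r ∈ dl.map (fun p => p.1 ++ [p.2]), (r.map w).prod = 1) (N : ℕ) (hN : Bd w hl N) :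
    Bd w gens (180 * N) :=
  level_bd w Cfsg.Agent.Lib.Helper3.Suz.INV h0 hinv gens hl dl BR (by decide +kernel) hdlr hBR (by decide +kernel) (by decide +kernel)
    rt (by decide +kernel) isH (fun l h => of_decide_eq_true h) fc sc nc cc 3 6 180 79228162514264337593543950336
    (by norm_num) (by norm_num) (by decide +kernel) (by decide) chkAll clAll N hN

end Cfsg.Agent.Lib.Helper3.Suz.L4
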